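import Groth.Agent.Lefpen.H496.BlowFibre
import Groth.Agent.Flat2C.BlowProper
import Groth.Agent.Divis.BlowChart2
import Groth.Agent.Divis.BlowUpFormal
import Groth.Prelude.Def_RegImm

/-!
# Dimension of the fibres of a blow-up
-/

set_option autoImplicit false
universe u
open CategoryTheory CategoryTheory.Limits AlgebraicGeometry BlowUp

namespace K338.BlowDim

open Groth.Agent.Sga4h.GeoDim Groth.Agent.Lefpen.H709.GeoAlg Groth.Agent.Divis
  Groth.Agent.Divis.BlowChart Groth.Agent.Divis.BlowChart2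

theorem exists_gens' {A : Type u} [CommRing A] {c : ℕ} (f : Fin (c + 1) → A) (I : Ideal A)
    (hI : I = Ideal.span (Set.range f)) (k : Fin (c + 1)) :
    ∃ w : Fin c → affineAlgebra A I (f k),
      Function.Surjective (MvPolynomial.eval₂Hom (algebraMap A (affineAlgebra A I (f k))) w) := by
  subst hI
  let φ : MvPolynomial (Fin (c + 1)) A →+* A := MvPolynomial.eval₂Hom (RingHom.id A) f
  have hφ : ∀ j, φ (MvPolynomial.X j) = f j := fun j => by simp [φ]
  have h1 := exists_gens φ k
  have h2 : centre φ = Ideal.span (Set.range f) := by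
    unfold centre
    congr 2
    funext j
    exact hφ j
  rw [h2, hφ] at h1
  exact h1

variable {X X' : Scheme.{u}} {b : X' ⟶ X} {J : X.IdealSheafData}

theorem trdegAt_le (hb : IsBlowUp b J) (U : X.affineOpens) {c : ℕ} (f : Fin (c + 1) → Γ(X, U.1))
    (hU : J.ideal U = Ideal.span (Set.range f)) (x' : X') (hx' : b x' ∈ U.1) :
    trdegAt b x' ≤ (c : Cardinal.{u}) := by
  obtain ⟨_, ⟨k, rfl⟩, hx⟩ := exists_mem_chart_of_span b J U hb.1 hU x' hx'
  obtain ⟨e, he⟩ := exists_iso_chart b J U hb (a := f k) (by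
    rw [hU]
    exact Ideal.subset_span ⟨k, rfl⟩)
  obtain ⟨w, hw⟩ := exists_gens' f (J.ideal U) hU k
  let z : (chart b J U (f k)).toScheme := ⟨x', hx⟩
  have h1 := trdegAt_comp (chart b J U (f k)).ι b z
  rw [trdegAt_eq_zero_of_isPreimmersion (chart b J U (f k)).ι, add_zero] at h1
  have h2 : (chart b J U (f k)).ι z = x' := rfl
  rw [h2] at h1
  rw [← h1, ← he, trdegAt_comp, trdegAt_eq_zero_of_isPreimmersion e.hom, add_zero, trdegAt_comp,
    trdegAt_eq_zero_of_isPreimmersion U.2.fromSpec, zero_add]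
  exact Groth.Agent.Lefpen.H496.BlowFibre.trdegAt_Spec_le _ w hw _

/-- **Dimension of the fibres.** -/
theorem krullDim_fiber_le {Y : Scheme.{u}} (i : Y ⟶ X) [IsClosedImmersion i] {e : ℕ}
    (hreg : RegImm.IsRegularImmersionOfCodim RegImm.Kind.regular (e + 1) i) (hb : IsBlowUp b i.ker)
    [LocallyOfFiniteType b] (x : X) : topologicalKrullDim (b.fiber x) ≤ e := by
  refine Groth.Agent.Sga4h.GenULADim.topologicalKrullDim_fiber_le b x e (fun x' hx' => ?_)
  by_cases h : x ∈ i.ker.support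
  · have hx : x ∈ Set.range i := by
      have h' : x ∈ (i.ker.support : Set X) := h
      rw [Scheme.Hom.support_ker, i.isClosedEmbedding.isClosed_range.closure_eq] at h'
      exact h'
    obtain ⟨y, rfl⟩ := hx
    obtain ⟨U, hyU, -, rs, hlen, -, hker⟩ := hreg.2 y
    refine trdegAt_le hb U (fun a => rs.get (Fin.cast hlen.symm a)) ?_ x' (by rw [hx']; exact hyU)
    rw [Scheme.Hom.ker_apply, hker, Ideal.ofList]
    congr 1
    ext r
    constructor
    · intro hr
      obtain ⟨a, rfl⟩ := List.get_of_mem hr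
      exact ⟨Fin.cast hlen a, rfl⟩
    · rintro ⟨a, rfl⟩
      exact List.get_mem _ _
  · have := BlowUpFormal.isIso_morphismRestrict_compl_support hb i.ker.support.compl
      disjoint_compl_left
    have hx2 : x' ∈ b ⁻¹ᵁ i.ker.support.compl := by
      change b x' ∈ i.ker.support.compl
      rw [hx']
      exact h
    have e1 : Scheme.Opens.ι (b ⁻¹ᵁ i.ker.support.compl) ≫ b =
        b ∣_ i.ker.support.compl ≫ Scheme.Opens.ι i.ker.support.compl := by
      rw [morphismRestrict_ι]
    have hO : IsOpenImmersion (Scheme.Opens.ι (b ⁻¹ᵁ i.ker.support.compl) ≫ b) := by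
      rw [e1]; infer_instance
    have h1 := trdegAt_comp (Scheme.Opens.ι (b ⁻¹ᵁ i.ker.support.compl)) b ⟨x', hx2⟩
    rw [trdegAt_eq_zero_of_isPreimmersion (Scheme.Opens.ι (b ⁻¹ᵁ i.ker.support.compl) ≫ b),
      trdegAt_eq_zero_of_isPreimmersion (Scheme.Opens.ι (b ⁻¹ᵁ i.ker.support.compl)),
      add_zero] at h1
    have h2 : Scheme.Opens.ι (b ⁻¹ᵁ i.ker.support.compl) ⟨x', hx2⟩ = x' := rfl
    rw [h2] at h1
    rw [← h1]
    exact bot_le

end K338.BlowDim
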