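import Groth.Agent.S0615

/-!
# The affine blow-up algebra of `(t, f)` over `A[t]`, `f` a regular sequence
-/

set_option autoImplicit false
universe u

namespace K338.RegModel

open RingTheory.Sequence Polynomial
open scoped Pointwise

variable {A : Type u} [CommRing A]

/-- `A = A[t]/t` as an `A`-module. -/
theorem exists_equiv : Nonempty (A ≃ₗ[A] QuotSMulTop (X : A[X]) A[X]) := by
  let p : Submodule A[X] A[X] := (X : A[X]) • ⊤
  let φ : A →ₗ[A] A[X] ⧸ p := (p.mkQ.restrictScalars A).comp (Algebra.linearMap A A[X])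
  have hφ : ∀ a, φ a = p.mkQ (C a) := fun a => rfl
  refine ⟨LinearEquiv.ofBijective φ ⟨?_, ?_⟩⟩
  · rw [injective_iff_map_eq_zero]
    intro a ha
    rw [hφ, Submodule.mkQ_apply, Submodule.Quotient.mk_eq_zero] at ha
    obtain ⟨r, -, hr⟩ := ha
    have hr' : X * r = C a := hr
    have h1 := congrArg (fun q : A[X] => q.coeff 0) hr'
    simp only [mul_coeff_zero, coeff_X_zero, zero_mul, coeff_C_zero] at h1
    exact h1.symm
  · intro y
    obtain ⟨y, rfl⟩ := p.mkQ_surjective y
    refine ⟨y.coeff 0, ?_⟩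
    rw [hφ]
    have h1 : y = X * y.divX + C (y.coeff 0) := (X_mul_divX_add y).symm
    have h2 : p.mkQ (X * y.divX) = 0 := by
      rw [Submodule.mkQ_apply, Submodule.Quotient.mk_eq_zero]
      exact Submodule.smul_mem_pointwise_smul _ _ _ trivial
    conv_rhs => rw [h1, map_add, h2, zero_add]

theorem isWeaklyRegular_X_cons {rs : List A} (h : IsWeaklyRegular A rs) :
    IsWeaklyRegular A[X] (X :: rs.map C) := by
  rw [isWeaklyRegular_cons_iff]
  refine ⟨?_, ?_⟩
  · intro a b hab
    have h1 : (X : A[X]) * a = X * b := hab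
    exact (isRegular_X (R := A)).left h1
  · obtain ⟨e⟩ := exists_equiv (A := A)
    have h1 : rs.map C = rs.map (algebraMap A A[X]) := rfl
    rw [h1, isWeaklyRegular_map_algebraMap_iff, ← LinearEquiv.isWeaklyRegular_congr e]
    exact h

/-- The universal solution of `t x_i = f_i`. -/
structure IsModel {n : ℕ} (f : Fin n → A) (B : Type u) [CommRing B] (ι : A →+* B) (t : B)
    (x : Fin n → B) : Prop where
  nzd : t ∈ nonZeroDivisors B
  mul : ∀ i, t * x i = ι (f i)
  lift : ∀ (S : Type u) [CommRing S] (φ : A →+* S) (s : S) (y : Fin n → S),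
    (∀ i, s * y i = φ (f i)) → ∃ ψ : B →+* S, ψ.comp ι = φ ∧ ψ t = s ∧ ∀ i, ψ (x i) = y i
  ext : ∀ (S : Type u) [CommRing S] (ψ ψ' : B →+* S), ψ.comp ι = ψ'.comp ι → ψ t = ψ' t →
    (∀ i, ψ (x i) = ψ' (x i)) → ψ = ψ'

theorem exists_model {n : ℕ} (f : Fin n → A) (hf : IsWeaklyRegular A (List.ofFn f)) :
    ∃ (B : Type u) (_ : CommRing B) (ι : A →+* B) (t : B) (x : Fin n → B), IsModel f B ι t x := by
  let a : Fin (n + 1) → A[X] := Fin.cons X (fun i => C (f i))
  have ha : IsWeaklyRegular A[X] (List.ofFn a) := by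
    have h1 : List.ofFn a = X :: (List.ofFn f).map C := by
      rw [List.ofFn_succ, List.map_ofFn]
      rfl
    rw [h1]
    exact isWeaklyRegular_X_cons hf
  have hker := Groth.Agent.S0615.result a ha
  let I : Ideal (MvPolynomial (Fin n) A[X]) := Ideal.span (Set.range fun i : Fin n =>
        MvPolynomial.C (a 0) * MvPolynomial.X i - MvPolynomial.C (a i.succ))
  let B := MvPolynomial (Fin n) A[X] ⧸ I
  let mk : MvPolynomial (Fin n) A[X] →+* B := Ideal.Quotient.mk I
  let ι : A →+* B := (mk.comp MvPolynomial.C).comp Polynomial.C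
  let t : B := mk (MvPolynomial.C X)
  let x : Fin n → B := fun i => mk (MvPolynomial.X i)
  let L := Localization.Away (a 0)
  let g : MvPolynomial (Fin n) A[X] →ₐ[A[X]] L := MvPolynomial.aeval (R := A[X]) (S₁ := L)
      (fun i : Fin n => IsLocalization.mk' L (a i.succ)
        (⟨a 0, Submonoid.mem_powers (a 0)⟩ : Submonoid.powers (a 0)))
  have hmul : ∀ i, t * x i = ι (f i) := by
    intro i
    change mk _ * mk _ = mk _
    rw [← map_mul, ← sub_eq_zero, ← map_sub]
    exact Ideal.Quotient.eq_zero_iff_mem.2 (Ideal.subset_span ⟨i, rfl⟩)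
  refine ⟨B, inferInstance, ι, t, x, ?_, hmul, ?_, ?_⟩
  · have key : ∀ z : B, z * t = 0 → z = 0 := ?_
    · exact (mem_nonZeroDivisors_iff_right (M₀ := B)).2 key
    intro z hz
    obtain ⟨z, rfl⟩ := Ideal.Quotient.mk_surjective z
    have h1 : z * MvPolynomial.C X ∈ I := by
      rw [← Ideal.Quotient.eq_zero_iff_mem, map_mul]
      exact hz
    have h2 : g (z * MvPolynomial.C X) = 0 := by
      rw [← RingHom.mem_ker]
      rw [hker]
      exact h1
    have h3 : g (MvPolynomial.C X) = algebraMap A[X] L X := MvPolynomial.algHom_C _ _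
    have h4 : IsUnit (algebraMap A[X] L X) := IsLocalization.Away.algebraMap_isUnit (a 0)
    rw [map_mul, h3, h4.mul_left_eq_zero] at h2
    rw [Ideal.Quotient.eq_zero_iff_mem]
    change z ∈ I
    have h5 : z ∈ RingHom.ker g := h2
    rw [hker] at h5
    exact h5
  · intro S _ φ s y hy
    let ev : MvPolynomial (Fin n) A[X] →+* S :=
      MvPolynomial.eval₂Hom (Polynomial.eval₂RingHom φ s) y
    have hev : ∀ z ∈ I, ev z = 0 := by
      intro z hz
      have h1 : I ≤ RingHom.ker ev := by
        rw [Ideal.span_le]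
        rintro _ ⟨i, rfl⟩
        change ev (MvPolynomial.C X * MvPolynomial.X i - MvPolynomial.C (C (f i))) = 0
        rw [map_sub, map_mul]
        simp only [ev, MvPolynomial.coe_eval₂Hom, MvPolynomial.eval₂_C, MvPolynomial.eval₂_X,
          Polynomial.coe_eval₂RingHom, Polynomial.eval₂_X, Polynomial.eval₂_C]
        rw [hy, sub_self]
      exact h1 hz
    refine ⟨Ideal.Quotient.lift I ev hev, ?_, ?_, ?_⟩
    · ext r
      change Ideal.Quotient.lift I ev hev (Ideal.Quotient.mk I _) = _
      rw [Ideal.Quotient.lift_mk]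
      simp [ev]
    · change Ideal.Quotient.lift I ev hev (Ideal.Quotient.mk I _) = _
      rw [Ideal.Quotient.lift_mk]
      simp [ev]
    · intro i
      change Ideal.Quotient.lift I ev hev (Ideal.Quotient.mk I _) = _
      rw [Ideal.Quotient.lift_mk]
      simp [ev]
  · intro S _ ψ ψ' h1 h2 h3
    apply Ideal.Quotient.ringHom_ext
    apply MvPolynomial.ringHom_ext'
    · apply Polynomial.ringHom_ext'
      · exact h1
      · exact h2
    · exact h3

end K338.RegModel
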