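import Groth.Agent.EtDual.K338.TorsChart
import Groth.Agent.EtDual.K338.RegModel
import Groth.Prelude.Def_RegImm

/-!
# The torsor of generators of a regularly embedded centre
-/

set_option autoImplicit false
universe u
open CategoryTheory AlgebraicGeometry Limits Opposite

namespace K338.TorsReg

open Groth.Agent.Divis Groth.Agent.Divis.BlowChart Groth.Agent.Divis.BlowChart2
  Groth.Agent.Divis.IdealComap K338.Tors K338.PA K338.TorsChart K338.RegModel

/-- Morphisms to the spectrum of a ring. -/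
theorem exists_hom_Spec {S : Scheme.{u}} {B : CommRingCat.{u}} (ψ : B →+* Γ(S, ⊤)) :
    ∃ g : S ⟶ Spec B, ∀ z : B, g.appTop.hom ((Scheme.ΓSpecIso B).inv.hom z) = ψ z := by
  refine ⟨S.toSpecΓ ≫ Spec.map (CommRingCat.ofHom ψ), fun z => ?_⟩
  have h1 : (Scheme.ΓSpecIso B).inv ≫ (S.toSpecΓ ≫ Spec.map (CommRingCat.ofHom ψ)).appTop =
      CommRingCat.ofHom ψ := by
    rw [Scheme.Hom.comp_appTop, Scheme.toSpecΓ_appTop, Scheme.ΓSpecIso_naturality]
    exact Iso.inv_hom_id_assoc _ _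
  exact congrArg (fun k => k.hom z) h1

theorem hom_ext_Spec {S : Scheme.{u}} {B : CommRingCat.{u}} {g g' : S ⟶ Spec B}
    (h : ∀ z : B, g.appTop.hom ((Scheme.ΓSpecIso B).inv.hom z) =
      g'.appTop.hom ((Scheme.ΓSpecIso B).inv.hom z)) : g = g' := by
  apply ext_of_isAffine
  rw [← cancel_epi (Scheme.ΓSpecIso B).inv]
  ext z
  exact h z

/-- Morphisms to an affine scheme. -/
theorem exists_hom_affine {S X : Scheme.{u}} [IsAffine X] (ψ : Γ(X, ⊤) →+* Γ(S, ⊤)) :
    ∃ g : S ⟶ X, g.appTop.hom = ψ := by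
  obtain ⟨g, hg⟩ := exists_hom_Spec (B := Γ(X, ⊤)) ψ
  refine ⟨g ≫ X.isoSpec.inv, ?_⟩
  have h1 : X.isoSpec.inv.appTop = (Scheme.ΓSpecIso Γ(X, ⊤)).inv := by
    have h2 : X.isoSpec.hom.appTop = (Scheme.ΓSpecIso Γ(X, ⊤)).hom := by
      rw [Scheme.isoSpec_hom]
      exact Scheme.toSpecΓ_appTop X
    have h3 : X.isoSpec.inv.appTop ≫ X.isoSpec.hom.appTop = 𝟙 _ := by
      rw [← Scheme.Hom.comp_appTop, Iso.hom_inv_id]
      rfl
    rw [h2] at h3
    exact (Iso.comp_hom_eq_id _).1 h3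
  ext z
  rw [appTop_comp, h1]
  exact hg z

variable {S : Scheme.{u}} {ι : Type} 

theorem iSup_prin_mul (t : Γ(S, ⊤)) (x : ι → Γ(S, ⊤)) (hx : ∀ s : S, ∃ i, s ∈ S.basicOpen (x i)) :
    (⨆ i, prin (t * x i)) = prin t := by
  apply eq_prin_of_local
  intro s
  obtain ⟨i, hi⟩ := hx s
  obtain ⟨W, hW, hsW, hle⟩ := exists_isAffineOpen_mem_and_subset (U := S.basicOpen (x i)) (x := s) hi
  refine ⟨⟨W, hW⟩, hsW, ?_⟩
  rw [Scheme.IdealSheafData.ideal_iSup, iSup_apply]
  apply le_antisymm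
  · refine iSup_le fun j => ?_
    rw [prin_ideal, Ideal.span_singleton_le_iff_mem]
    have h1 : resT S W (t * x j) = resT S W t * resT S W (x j) := map_mul _ _ _
    rw [h1]
    exact Ideal.mul_mem_right _ _ (Ideal.mem_span_singleton_self _)
  · refine le_trans ?_ (le_iSup (fun j => (prin (t * x j)).ideal ⟨W, hW⟩) i)
    rw [prin_ideal]
    have h1 : resT S W (t * x i) = resT S W t * resT S W (x i) := map_mul _ _ _
    have h2 : IsUnit (resT S W (x i)) := by
      have h3 : IsUnit (S.presheaf.map (homOfLE (le_top : S.basicOpen (x i) ≤ ⊤)).op (x i)) :=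
        RingedSpace.isUnit_res_basicOpen S.toRingedSpace (x i)
      have h4 := h3.map (S.presheaf.map (homOfLE hle).op).hom
      have h5 : S.presheaf.map (homOfLE hle).op (resT S (S.basicOpen (x i)) (x i)) =
        resT S W (x i) := map_resT' hle (x i)
      exact h5 ▸ h4
    rw [h1, Ideal.span_singleton_mul_right_unit h2]

theorem cover_of_iSup_prin (t : Γ(S, ⊤)) (ht : RegSec S t) (y : ι → Γ(S, ⊤))
    (h : (⨆ i, prin (t * y i)) = prin t) (s : S) : ∃ i, s ∈ S.basicOpen (y i) := by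
  obtain ⟨W, hW, hsW, -⟩ := exists_isAffineOpen_mem_and_subset (U := (⊤ : S.Opens)) (x := s) trivial
  let Py : Ideal Γ(S, W) :=
    (IsLocalRing.maximalIdeal (S.presheaf.stalk s)).comap (S.presheaf.germ W s hsW).hom
  by_contra hcon
  push Not at hcon
  have hPy : ∀ i, resT S W (y i) ∈ Py := by
    intro i
    rw [Ideal.mem_comap, IsLocalRing.mem_maximalIdeal, mem_nonunits_iff]
    intro hu
    apply hcon i
    rw [Scheme.mem_basicOpen_top]
    have h1 : (S.presheaf.germ W s hsW) (resT S W (y i)) = S.presheaf.germ ⊤ s trivial (y i) :=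
      S.presheaf.germ_res_apply (homOfLE le_top) s hsW (y i)
    exact h1 ▸ hu
  have h1 : (⨆ i, prin (t * y i)).ideal ⟨W, hW⟩ ≤ Ideal.span {resT S W t} * Py := by
    rw [Scheme.IdealSheafData.ideal_iSup, iSup_apply]
    refine iSup_le fun i => ?_
    rw [prin_ideal, Ideal.span_singleton_le_iff_mem]
    have h2 : resT S W (t * y i) = resT S W t * resT S W (y i) := map_mul _ _ _
    rw [h2, Ideal.mem_span_singleton_mul]
    exact ⟨_, hPy i, rfl⟩
  rw [h, prin_ideal] at h1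
  obtain ⟨z, hz, hz'⟩ := Ideal.mem_span_singleton_mul.1 (h1 (Ideal.mem_span_singleton_self _))
  have h6 : z = 1 := by
    have : resT S W t * z = resT S W t * 1 := by rw [hz', mul_one]
    exact (mul_cancel_left_mem_nonZeroDivisors (ht.resT_mem W)).1 this
  rw [h6, Ideal.mem_comap, map_one] at hz
  exact (Ideal.ne_top_iff_one _).1 (IsLocalRing.maximalIdeal.isMaximal _).ne_top hz

theorem regSec_comap_flat {T : Scheme.{u}} {a : Γ(S, ⊤)} (ha : RegSec S a) (k : T ⟶ S) [Flat k] :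
    RegSec T (k.appTop.hom a) := by
  rw [← isEff_prin_iff, ← comap_prin]
  exact EffCartier.isEff_comap_flat ((isEff_prin_iff a).2 ha) k

/-- The scheme of solutions of `t x_i = f_i` with `(x_i)` the unit ideal. -/
structure IsMS {n : ℕ} {X M : Scheme.{u}} (f : Fin n → Γ(X, ⊤)) (p : M ⟶ X) (t : Γ(M, ⊤))
    (x : Fin n → Γ(M, ⊤)) : Prop where
  reg : RegSec M t
  mul : ∀ i, t * x i = p.appTop.hom (f i)
  cov : ∀ m : M, ∃ i, m ∈ M.basicOpen (x i)
  lift : ∀ (S : Scheme.{u}) (g : S ⟶ X) (s : Γ(S, ⊤)) (y : Fin n → Γ(S, ⊤)),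
    (∀ i, s * y i = g.appTop.hom (f i)) → (∀ m : S, ∃ i, m ∈ S.basicOpen (y i)) →
    ∃ h : S ⟶ M, h ≫ p = g ∧ h.appTop.hom t = s ∧ ∀ i, h.appTop.hom (x i) = y i
  ext : ∀ (S : Scheme.{u}) (h h' : S ⟶ M), h ≫ p = h' ≫ p →
    h.appTop.hom t = h'.appTop.hom t → (∀ i, h.appTop.hom (x i) = h'.appTop.hom (x i)) → h = h'

theorem exists_isMS {n : ℕ} {X : Scheme.{u}} [IsAffine X] (f : Fin n → Γ(X, ⊤))
    (hf : RingTheory.Sequence.IsWeaklyRegular Γ(X, ⊤) (List.ofFn f)) :
    ∃ (M : Scheme.{u}) (p : M ⟶ X) (t : Γ(M, ⊤)) (x : Fin n → Γ(M, ⊤)), IsMS f p t x := by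
  obtain ⟨B, hB, ι, t, x, hm⟩ := exists_model f hf
  let P : Scheme.{u} := Spec (CommRingCat.of B)
  let e : B →+* Γ(P, ⊤) := (Scheme.ΓSpecIso (CommRingCat.of B)).inv.hom
  obtain ⟨π, hπ⟩ := exists_hom_affine (S := P) (e.comp ι)
  let O : P.Opens := ⨆ i, P.basicOpen (e (x i))
  let M : Scheme.{u} := O
  have hreg : RegSec P (e t) := by
    apply regSec_of_affine
    intro y
    refine ⟨⟨⊤, isAffineOpen_top _⟩, trivial, ?_⟩
    have h1 : resT P ⊤ (e t) = e t := by
      unfold resT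
      have e' : (homOfLE (le_top : (⊤ : P.Opens) ≤ ⊤)).op = 𝟙 _ := rfl
      rw [e', CategoryTheory.Functor.map_id]
      rfl
    rw [h1]
    have h2 : Function.Bijective e := ConcreteCategory.bijective_of_isIso
      (Scheme.ΓSpecIso (CommRingCat.of B)).inv
    let e2 : B ≃+* Γ(P, ⊤) := RingEquiv.ofBijective e h2
    have h3 : e2 t ∈ nonZeroDivisors Γ(P, ⊤) := by
      rw [mem_nonZeroDivisors_iff_right]
      intro z hz
      have h4 : e2.symm z * t = 0 := by
        apply e2.injective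
        rw [map_mul, RingEquiv.apply_symm_apply, hz, map_zero]
      have h5 := (mem_nonZeroDivisors_iff_right (M₀ := B)).1 hm.nzd _ h4
      rw [← e2.apply_symm_apply z, h5, map_zero]
    exact h3
  refine ⟨M, O.ι ≫ π, O.ι.appTop.hom (e t), fun i => O.ι.appTop.hom (e (x i)), ?_, ?_, ?_, ?_, ?_⟩
  · exact regSec_comap_flat hreg O.ι
  · intro i
    rw [← map_mul, ← map_mul, hm.mul, appTop_comp, hπ]
    rfl
  · intro m
    obtain ⟨i, hi⟩ := TopologicalSpace.Opens.mem_iSup.1 m.2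
    refine ⟨i, ?_⟩
    have h1 : m ∈ O.ι ⁻¹ᵁ P.basicOpen (e (x i)) := hi
    rw [Scheme.preimage_basicOpen_top] at h1
    exact h1
  · intro S g s y h1 h2
    obtain ⟨ψ, hψ1, hψ2, hψ3⟩ := hm.lift Γ(S, ⊤) g.appTop.hom s y h1
    obtain ⟨k, hk⟩ := exists_hom_Spec (B := CommRingCat.of B) ψ
    have hk' : ∀ z : B, k.appTop.hom (e z) = ψ z := hk
    have hr : Set.range k ⊆ Set.range O.ι := by
      rintro _ ⟨m, rfl⟩
      rw [Scheme.Opens.range_ι]
      obtain ⟨i, hi⟩ := h2 m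
      refine TopologicalSpace.Opens.mem_iSup.2 ⟨i, ?_⟩
      have h3 : m ∈ k ⁻¹ᵁ P.basicOpen (e (x i)) := by
        rw [Scheme.preimage_basicOpen_top]
        have h4 : k.appTop (e (x i)) = y i := (hk' _).trans (hψ3 i)
        rw [h4]
        exact hi
      exact h3
    let h := IsOpenImmersion.lift O.ι k hr
    have hh : h ≫ O.ι = k := IsOpenImmersion.lift_fac _ _ _
    refine ⟨h, ?_, ?_, ?_⟩
    · rw [← Category.assoc, hh]
      apply ext_of_isAffine
      ext z
      rw [appTop_comp, hπ, RingHom.comp_apply, hk', ← RingHom.comp_apply, hψ1]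
    · rw [← appTop_comp, hh, hk', hψ2]
    · intro i
      rw [← appTop_comp, hh, hk', hψ3]
  · intro S h h' h1 h2 h3
    rw [← cancel_mono O.ι]
    apply hom_ext_Spec
    intro z
    rw [appTop_comp, appTop_comp]
    have key := hm.ext Γ(S, ⊤) ((h.appTop.hom.comp O.ι.appTop.hom).comp e)
      ((h'.appTop.hom.comp O.ι.appTop.hom).comp e) ?_ h2 h3
    · exact congrArg (fun k => k z) key
    · ext w
      have h4 := congrArg (fun k => k.appTop.hom w) h1
      simp only [appTop_comp] at h4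
      rw [hπ] at h4
      exact h4

theorem comap_iSup_prin {X : Scheme.{u}} {n : ℕ} (f : Fin n → Γ(X, ⊤)) (g : S ⟶ X) :
    (⨆ i, prin (f i)).comap g = ⨆ i, prin (g.appTop.hom (f i)) := by
  have h1 := (Scheme.IdealSheafData.map_gc g).l_iSup (f := fun i => prin (f i))
  refine h1.trans ?_
  exact iSup_congr fun i => comap_prin g (f i)

theorem exists_iso {n : ℕ} {X M V : Scheme.{u}} {f : Fin n → Γ(X, ⊤)} {p : M ⟶ X} {t : Γ(M, ⊤)}
    {x : Fin n → Γ(M, ⊤)} (hM : IsMS f p t x) {J : X.IdealSheafData} (hJ : J = ⨆ i, prin (f i))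
    {v : V ⟶ X} {τ : Γ(V, ⊤)} (hV : IsTors J v τ) :
    ∃ σ : M ≅ V, σ.hom ≫ v = p ∧ σ.hom.appTop.hom τ = t := by
  have hG : GenBy J p t := by
    refine ⟨hM.reg, ?_⟩
    rw [hJ, comap_iSup_prin, ← iSup_prin_mul t x hM.cov]
    exact iSup_congr fun i => by rw [hM.mul]
  obtain ⟨σ, ⟨h1, h2⟩, -⟩ := hV.lift M p t hG
  have h3 : ∀ i, ∃ y : Γ(V, ⊤), v.appTop.hom (f i) = τ * y := by
    intro i
    apply exists_mul_of_prin_le hV.gen.reg
    rw [← hV.gen.gen, hJ, comap_iSup_prin]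
    exact le_iSup (fun i => prin (v.appTop.hom (f i))) i
  choose y hy using h3
  have h4 : ∀ m : V, ∃ i, m ∈ V.basicOpen (y i) := by
    apply cover_of_iSup_prin τ hV.gen.reg
    rw [← hV.gen.gen, hJ, comap_iSup_prin]
    exact iSup_congr fun i => by rw [hy]
  obtain ⟨ρ, h5, h6, h7⟩ := hM.lift V v τ y (fun i => (hy i).symm) h4
  refine ⟨⟨σ, ρ, ?_, ?_⟩, h1, h2⟩
  · apply hM.ext
    · rw [Category.assoc, h5, h1, Category.id_comp]
    · rw [appTop_comp, h6, h2]
      simp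
    · intro i
      have h8 : t * (σ ≫ ρ).appTop.hom (x i) = t * x i := by
        have h9 := congrArg σ.appTop.hom (hy i)
        rw [map_mul, h2, ← appTop_comp, h1, ← hM.mul] at h9
        rw [appTop_comp, h7]
        exact h9.symm
      rw [(mul_cancel_left_mem_nonZeroDivisors hM.reg.mem_top).1 h8]
      simp
  · refine (hV.lift _ _ _ hV.gen).unique ⟨?_, ?_⟩ ⟨Category.id_comp _, by simp⟩
    · rw [Category.assoc, h1, h5]
    · rw [appTop_comp, h2, h6]

theorem eq_zero_of_local {Y : Scheme.{u}} (s : Γ(Y, ⊤))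
    (h : ∀ y : Y, ∃ V : Y.Opens, y ∈ V ∧ resT Y V s = 0) : s = 0 := by
  apply TopCat.Presheaf.section_ext Y.sheaf ⊤
  intro y _
  obtain ⟨V, hy, hV⟩ := h y
  change Y.presheaf.germ ⊤ y _ s = Y.presheaf.germ ⊤ y _ 0
  rw [← germ_resT V y hy, hV, map_zero, map_zero]

/-- The fibre over the centre. -/
theorem exists_isPullback {e : ℕ} {X Y V : Scheme.{u}} [IsAffine X] (f : Fin (e + 1) → Γ(X, ⊤))
    (hf : RingTheory.Sequence.IsWeaklyRegular Γ(X, ⊤) (List.ofFn f))
    {J : X.IdealSheafData} (hJ : J = ⨆ i, prin (f i))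
    {v : V ⟶ X} {τ : Γ(V, ⊤)} (hV : IsTors J v τ) (i : Y ⟶ X) (hi : ∀ a, i.appTop.hom (f a) = 0) :
    ∃ k : (pOpen e Y : Scheme.{u}) ⟶ V, IsPullback k (pa e Y) v i := by
  obtain ⟨M, p, t, x, hM⟩ := exists_isMS f hf
  obtain ⟨σ, h1, h2⟩ := exists_iso hM hJ hV
  obtain ⟨k, hk1, hk2, hk3⟩ := hM.lift (pOpen e Y : Scheme.{u}) (pa e Y ≫ i) 0
    (fun a => crd e Y ⟨a⟩) (fun a => by
      rw [appTop_comp, hi, map_zero, zero_mul]) (fun m => by
      obtain ⟨⟨a⟩, ha⟩ := exists_mem_basicOpen_crd e Y m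
      exact ⟨a, ha⟩)
  have h3 : σ.inv ≫ p = v := by rw [← h1, Iso.inv_hom_id_assoc]
  have hw : (k ≫ σ.hom) ≫ v = pa e Y ≫ i := by rw [Category.assoc, h1, hk1]
  have ex : ∀ (S : Scheme.{u}) (a : S ⟶ V) (d : S ⟶ Y), a ≫ v = d ≫ i →
      ∃ l : S ⟶ (pOpen e Y : Scheme.{u}), l ≫ (k ≫ σ.hom) = a ∧ l ≫ pa e Y = d := by
    intro S a d had
    have hcov : ∀ m : S, ∃ b : Fin (e + 1),
        m ∈ S.basicOpen ((a ≫ σ.inv).appTop.hom (x b)) := by
      intro m
      obtain ⟨b, hb⟩ := hM.cov ((a ≫ σ.inv) m)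
      refine ⟨b, ?_⟩
      have h4 : m ∈ (a ≫ σ.inv) ⁻¹ᵁ M.basicOpen (x b) := hb
      rw [Scheme.preimage_basicOpen_top] at h4
      exact h4
    obtain ⟨l, hl1, hl2⟩ := PA.exists_hom e d
      (fun b => (a ≫ σ.inv).appTop.hom (x b.down)) (fun m => by
        obtain ⟨b, hb⟩ := hcov m
        exact ⟨⟨b⟩, hb⟩)
    refine ⟨l, ?_, hl1⟩
    rw [← cancel_mono σ.inv, Category.assoc, Category.assoc, Iso.hom_inv_id, Category.comp_id]
    apply hM.ext
    · rw [Category.assoc, Category.assoc, h3, hk1, ← Category.assoc, hl1, had]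
    · rw [appTop_comp, hk2, map_zero]
      symm
      have h5 : ∀ b, (a ≫ σ.inv).appTop.hom t * (a ≫ σ.inv).appTop.hom (x b) = 0 := by
        intro b
        rw [← map_mul, hM.mul, ← appTop_comp, Category.assoc, h3, had, appTop_comp, hi, map_zero]
      apply eq_zero_of_local
      intro m
      obtain ⟨b, hb⟩ := hcov m
      refine ⟨S.basicOpen ((a ≫ σ.inv).appTop.hom (x b)), hb, ?_⟩
      have h6 : IsUnit (resT S (S.basicOpen ((a ≫ σ.inv).appTop.hom (x b)))
          ((a ≫ σ.inv).appTop.hom (x b))) :=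
        RingedSpace.isUnit_res_basicOpen S.toRingedSpace _
      have h7 := congrArg (resT S (S.basicOpen ((a ≫ σ.inv).appTop.hom (x b)))) (h5 b)
      have h8 : ∀ y z : Γ(S, ⊤), resT S (S.basicOpen ((a ≫ σ.inv).appTop.hom (x b))) (y * z) =
        resT S (S.basicOpen ((a ≫ σ.inv).appTop.hom (x b))) y *
        resT S (S.basicOpen ((a ≫ σ.inv).appTop.hom (x b))) z := fun y z => map_mul _ _ _
      have h9 : resT S (S.basicOpen ((a ≫ σ.inv).appTop.hom (x b))) (0 : Γ(S, ⊤)) = 0 :=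
        map_zero _
      rw [h8, h9] at h7
      exact h6.mul_left_eq_zero.1 h7
    · intro b
      rw [appTop_comp, hk3, hl2]
  have uq : ∀ (S : Scheme.{u}) (l l' : S ⟶ (pOpen e Y : Scheme.{u})),
      l ≫ (k ≫ σ.hom) = l' ≫ (k ≫ σ.hom) → l ≫ pa e Y = l' ≫ pa e Y → l = l' := by
    intro S l l' h4 h5
    refine PA.hom_ext h5 ?_
    rintro ⟨b⟩
    have h6 : l ≫ k = l' ≫ k := by
      rw [← cancel_mono σ.hom, Category.assoc, Category.assoc, h4]
    have h7 := congrArg (fun z => z.appTop.hom (x b)) h6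
    simp only [appTop_comp, hk3] at h7
    exact h7
  refine ⟨k ≫ σ.hom, ⟨⟨hw⟩, ⟨PullbackCone.IsLimit.mk _
    (fun s => (ex _ s.fst s.snd s.condition).choose)
    (fun s => (ex _ s.fst s.snd s.condition).choose_spec.1)
    (fun s => (ex _ s.fst s.snd s.condition).choose_spec.2) (fun s m h4 h5 => ?_)⟩⟩⟩
  apply uq
  · rw [h4]
    exact (ex _ s.fst s.snd s.condition).choose_spec.1.symm
  · rw [h5]
    exact (ex _ s.fst s.snd s.condition).choose_spec.2.symm

/-- Flat base change of the torsor of generators. -/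
theorem IsTors.comap {X V W : Scheme.{u}} {J : X.IdealSheafData} {v : V ⟶ X} {t : Γ(V, ⊤)}
    (hV : IsTors J v t) (w : W ⟶ X) [hw : Flat w] :
    IsTors (J.comap w) (pullback.snd v w) ((pullback.fst v w).appTop.hom t) := by
  have hfl : Flat (pullback.fst v w) := MorphismProperty.pullback_fst (P := @Flat) v w hw
  have key : ∀ {S : Scheme.{u}} (g : S ⟶ W) (s : Γ(S, ⊤)), GenBy (J.comap w) g s ↔
      GenBy J (g ≫ w) s := by
    intro S g s
    constructor
    · intro h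
      exact ⟨h.reg, by rw [Scheme.IdealSheafData.comap_comp, h.gen]⟩
    · intro h
      exact ⟨h.reg, by rw [← Scheme.IdealSheafData.comap_comp, h.gen]⟩
  constructor
  · rw [key, ← pullback.condition]
    exact hV.gen.comap_flat (pullback.fst v w)
  · intro S g s hs
    rw [key] at hs
    obtain ⟨h, ⟨h1, h2⟩, h3⟩ := hV.lift S (g ≫ w) s hs
    refine ⟨pullback.lift h g h1, ⟨pullback.lift_snd _ _ _, ?_⟩, ?_⟩
    · rw [← appTop_comp, pullback.lift_fst, h2]
    · rintro h' ⟨h4, h5⟩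
      apply pullback.hom_ext
      · rw [pullback.lift_fst]
        apply h3
        refine ⟨?_, ?_⟩
        · rw [Category.assoc, pullback.condition, ← Category.assoc, h4]
        · rw [appTop_comp, h5]
      · rw [h4, pullback.lift_snd]

theorem isWeaklyRegular_map {A B : Type u} [CommRing A] [CommRing B] (e : A ≃+* B) {rs : List A}
    (h : RingTheory.Sequence.IsWeaklyRegular A rs) :
    RingTheory.Sequence.IsWeaklyRegular B (rs.map e) := by
  let _ := e.toRingHom.toAlgebra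
  let e' : A ≃ₗ[A] B := { e with
    map_smul' := fun a b => by
      rw [Algebra.smul_def]
      exact map_mul e a b }
  have h1 : rs.map e = rs.map (algebraMap A B) := rfl
  rw [h1, RingTheory.Sequence.isWeaklyRegular_map_algebraMap_iff,
    ← LinearEquiv.isWeaklyRegular_congr e']
  exact h

theorem ofList_map_eq_iSup {B A : Type u} [CommRing A] [CommRing B] {n : ℕ} (E : A →+* B)
    (rs : List A) (hlen : rs.length = n) :
    Ideal.ofList (rs.map E) = ⨆ a : Fin n, Ideal.span {E (rs.get (Fin.cast hlen.symm a))} := by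
  apply le_antisymm
  · rw [Ideal.ofList, Ideal.span_le]
    intro z hz
    obtain ⟨r, hr, rfl⟩ := List.mem_map.1 hz
    obtain ⟨a, rfl⟩ := List.get_of_mem hr
    exact le_iSup (fun a : Fin n => Ideal.span {E (rs.get (Fin.cast hlen.symm a))})
      (Fin.cast hlen a) (Ideal.mem_span_singleton_self _)
  · refine iSup_le fun a => ?_
    rw [Ideal.span_singleton_le_iff_mem]
    exact Ideal.subset_span (List.mem_map.2 ⟨_, List.get_mem _ _, rfl⟩)

/-- **The torsor of generators over a regularly embedded centre.** -/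
theorem isLocPA_snd {e : ℕ} {X Y V : Scheme.{u}} (i : Y ⟶ X) [IsClosedImmersion i]
    (hreg : RegImm.IsRegularImmersionOfCodim RegImm.Kind.regular (e + 1) i)
    {v : V ⟶ X} {t : Γ(V, ⊤)} (hV : IsTors i.ker v t) : IsLocPA e (pullback.snd v i) := by
  intro y
  obtain ⟨U, hyU, -, rs, hlen, hrs, hker⟩ := hreg.2 y
  have : IsAffine U.1.toScheme := U.2
  let w : U.1.toScheme ⟶ X := U.1.ι
  let E : Γ(X, U.1) ≃+* Γ(U.1.toScheme, ⊤) := U.1.topIso.symm.commRingCatIsoToRingEquiv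
  have e1 : (⊤ : U.1.toScheme.Opens) ≤ U.1.ι ⁻¹ᵁ U.1 := fun z _ => z.2
  have hE : ∀ r, E r = (U.1.ι.appLE U.1 ⊤ e1).hom r := by
    intro r
    have h1 : U.1.topIso.inv = U.1.ι.appLE U.1 ⊤ e1 := by
      simp
      rfl
    rw [← h1]
    rfl
  let f : Fin (e + 1) → Γ(U.1.toScheme, ⊤) := fun a => E (rs.get (Fin.cast hlen.symm a))
  have hof : List.ofFn f = rs.map E := by
    apply List.ext_getElem
    · simp [hlen]
    · intro n h1 h2
      rw [List.getElem_ofFn, List.getElem_map]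
      rfl
  have hf : RingTheory.Sequence.IsWeaklyRegular Γ(U.1.toScheme, ⊤) (List.ofFn f) := by
    rw [hof]
    exact isWeaklyRegular_map E hrs.toIsWeaklyRegular
  have hJ : (i.ker).comap w = ⨆ a, prin (f a) := by
    apply Scheme.IdealSheafData.ext_of_isAffine
    rw [ideal_comap i.ker w U ⟨⊤, isAffineOpen_top _⟩ e1, Scheme.Hom.ker_apply, hker,
      Ideal.map_ofList, Scheme.IdealSheafData.ideal_iSup, iSup_apply, ofList_map_eq_iSup _ _ hlen]
    refine iSup_congr fun a => ?_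
    rw [prin_ideal]
    congr 2
    have h1 : resT U.1.toScheme ⊤ (f a) = f a := by
      unfold resT
      have e' : (homOfLE (le_top : (⊤ : U.1.toScheme.Opens) ≤ ⊤)).op = 𝟙 _ := rfl
      rw [e', CategoryTheory.Functor.map_id]
      rfl
    exact ((hE _).symm.trans h1.symm)
  have hc : (i ∣_ U.1) ≫ w = (i ⁻¹ᵁ U.1).ι ≫ i := morphismRestrict_ι i U.1
  have hi : ∀ a, (i ∣_ U.1).appTop.hom (f a) = 0 := by
    intro a
    have h0 : (i.app U.1).hom (rs.get (Fin.cast hlen.symm a)) = 0 := by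
      rw [← RingHom.mem_ker, hker]
      exact Ideal.subset_span (List.get_mem _ _)
    have h1 : U.1.ι.appLE U.1 ⊤ e1 ≫ (i ∣_ U.1).appTop =
        i.app U.1 ≫ (i ⁻¹ᵁ U.1).ι.appLE (i ⁻¹ᵁ U.1) ⊤ (fun z _ => z.2) := by
      have h2 : (i ∣_ U.1).appTop = (i ∣_ U.1).appLE ⊤ ⊤ le_rfl := by
        simp [Scheme.Hom.appTop]
      rw [h2, Scheme.Hom.appLE_comp_appLE, ← Scheme.Hom.comp_appLE]
      congr 1
    have h3 := congrArg (fun z => z.hom (rs.get (Fin.cast hlen.symm a))) h1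
    simp only [CommRingCat.comp_apply] at h3
    change (i ∣_ U.1).appTop.hom (E _) = 0
    rw [hE]
    refine h3.trans ?_
    rw [h0, map_zero]
  obtain ⟨k, hk⟩ := exists_isPullback f hf hJ (IsTors.comap hV w) (i ∣_ U.1) hi
  have h1 := hk.paste_horiz (IsPullback.of_hasPullback v w)
  rw [hc] at h1
  refine ⟨_, (i ⁻¹ᵁ U.1).ι, inferInstance, pullback.lift (k ≫ pullback.fst v w)
    (pa e _ ≫ (i ⁻¹ᵁ U.1).ι) (by
      rw [h1.w]
      exact (Category.assoc _ _ _).symm), ?_, ?_⟩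
  · rw [Scheme.Opens.range_ι]
    exact hyU
  · refine IsPullback.of_right (h₁₂ := pullback.fst v i) (h₂₂ := i) (v₁₃ := v) ?_
      (pullback.lift_snd _ _ _) (IsPullback.of_hasPullback v i)
    rw [pullback.lift_fst]
    exact h1

end K338.TorsReg
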