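import Groth.Agent.EtDual.K338.Theta
import Groth.Agent.EtDual.K338.TorsReg
import Groth.Agent.EtDual.K338.BlowDim
import Groth.Agent.S0126

/-!
# Cohomology of the blow-up: the remaining vanishing statements
-/

set_option autoImplicit false
set_option linter.unusedSectionVars false
universe u
open CategoryTheory CategoryTheory.Limits AlgebraicGeometry Opposite Abelian BlowUp

namespace K338.BlowCoh

open Groth.Agent Groth.Agent.Sga4B.PureLine K338.PA K338.LocPA K338.Supp2 K338.Geo K338.Tors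
  K338.TorsChart K338.GysAbs K338.Theta
open scoped Groth.Agent.Etcore.EtInst

theorem isIso_of_isZero {C : Type*} [Category* C] {A B : C} (f : A ⟶ B) (hA : IsZero A)
    (hB : IsZero B) : IsIso f :=
  ⟨hB.to_ A, hA.eq_of_src _ _, hB.eq_of_src _ _⟩

/-- The unit of an isomorphism. -/
theorem isIso_unit_of_isIso {A B : Scheme.{u}} (r : A ⟶ B) [IsIso r] (F : EtCoh.Ab B) :
    IsIso ((EtCoh.pullPushAdj r).unit.app F) := by
  refine Sga5.H855.EtUnit.isIso_of_family _ fun y => ⟨A, r, inv r y, ?_, ?_⟩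
  · rw [← Scheme.Hom.comp_apply, IsIso.inv_hom_id]
    rfl
  · exact Etcore.OpenClosed.isIso_pull_unit_closedImmersion r F

theorem isZero_Rpush_of_isIso {A B : Scheme.{u}} (r : A ⟶ B) [IsIso r] (F : EtCoh.Ab A) (q : ℕ)
    (hq : 1 ≤ q) : IsZero ((EtCoh.Rpush r q).obj F) := by
  have h1 := Groth.Agent.Sga5.ClosedPush.preservesFiniteColimits_push r
  obtain ⟨p, rfl⟩ : ∃ p', q = p' + 1 := ⟨q - 1, by omega⟩
  exact Groth.Agent.Etbase.PushExact.isZero_rightDerived_of_exact (EtCoh.push r) F p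

section K

variable {n : ℕ} (hn0 : n ≠ 0)
  {X Y U X' U' : Scheme.{u}} (i : Y ⟶ X) [IsClosedImmersion i] (j : U ⟶ X)
  [IsOpenImmersion j] (hij : Set.range j = (Set.range i)ᶜ) {b : X' ⟶ X} (j' : U' ⟶ X')
  [IsOpenImmersion j'] (hj' : Set.range j' = ((BlowUp.exceptional b i.ker).support : Set X')ᶜ)
  (hb : IsBlowUp b i.ker) (hbp : IsProper b) (K : EtCoh.Ab X) (hK : EtCoh.KilledBy n K)
  (hi : IsZero ((EtCoh.pull i).obj K))

include hn0 hij hj' hb hbp hK hi

theorem isIso_unit_K : IsIso ((EtCoh.pullPushAdj b).unit.app K) := by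
  have hc := Geo2.isCompl i j hij
  obtain ⟨r, sq⟩ := Geo2.exists_r i j hij b j' hj'
  have hr := Geo2.isIso_r i j hij b j' hb r sq
  have ht : EtCoh.IsTorsion ((EtCoh.pull b).obj K) :=
    isTorsion_of_killedBy n hn0 _ (EtpbcB.NKillEt.killedBy_pull b hK)
  refine isIso_of_both i j hc _ ?_ ?_
  · have h2 := (S0001.result X' X (pullback b i) Y b i (pullback.snd b i) (pullback.fst b i)
      (IsPullback.of_hasPullback b i) _ ht).2
    rw [Sga5.H855.EtUnit.isIso_unit_iff (IsPullback.of_hasPullback b i).w K h2]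
    exact isIso_of_isZero _ hi ((EtCoh.push _).map_isZero ((EtCoh.pull _).map_isZero hi))
  · rw [Sga5.H855.EtUnit.isIso_unit_iff sq.flip.w K
      (Sga5.H855.EtUnit.isIso_baseChange0_of_etale sq.flip _)]
    exact isIso_unit_of_isIso r _

theorem isZero_Rb (q : ℕ) (hq : 1 ≤ q) :
    IsZero ((EtCoh.Rpush b q).obj ((EtCoh.pull b).obj K)) := by
  have hc := Geo2.isCompl i j hij
  obtain ⟨r, sq⟩ := Geo2.exists_r i j hij b j' hj'
  have hr := Geo2.isIso_r i j hij b j' hb r sq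
  have ht : EtCoh.IsTorsion ((EtCoh.pull b).obj K) :=
    isTorsion_of_killedBy n hn0 _ (EtpbcB.NKillEt.killedBy_pull b hK)
  refine isZero_of_both i j hc _ ?_ ?_
  · obtain ⟨e⟩ := (S0001.result X' X (pullback b i) Y b i (pullback.snd b i) (pullback.fst b i)
      (IsPullback.of_hasPullback b i) _ ht).1 q
    refine IsZero.of_iso ?_ e
    exact (EtCoh.Rpush _ q).map_isZero (isZero_pull_pull pullback.condition K hi)
  · obtain ⟨e⟩ := Etdl.H441.Loc.etaleBC sq.flip ((EtCoh.pull b).obj K) q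
    exact (isZero_Rpush_of_isIso r _ q hq).of_iso e

theorem bijective_K (Z : EtCoh.Ab X) (q : ℕ) :
    Function.Bijective (fun x : Ext.{u + 1} Z K q => x.mapExactFunctor (EtCoh.pull b)) := by
  have h1 := isIso_unit_K hn0 i j hij j' hj' hb hbp K hK hi
  exact map_bijective_le (EtCoh.pullPushAdj b) Z K q
    (fun r hr _ => isZero_Rb hn0 i j hij j' hj' hb hbp K hK hi r hr)

end K

section V

variable {n : ℕ} (hpbc : StmtPBC.{u}) (hac : StmtAcyc.{u} n) (hP1 : StmtP1.{u} n)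
  (hacy : StmtAcycAll.{u} n) (hn0 : n ≠ 0) {e : ℕ}
  {X Y X' V : Scheme.{u}} (i : Y ⟶ X) [IsClosedImmersion i]
  (hreg : RegImm.IsRegularImmersionOfCodim RegImm.Kind.regular (e + 1) i) {b : X' ⟶ X}
  {v : V ⟶ X} {t : Γ(V, ⊤)} (hV : IsTors i.ker v t) {q : V ⟶ X'}
  (hq : q ≫ b = v) (hn : IsUnit (n : Γ(X, ⊤)))

include hpbc hac hP1 hacy hn0 hreg hV hq hn

theorem bijective_QL (S : EtCoh.Ab Y) (hS : EtCoh.KilledBy n S) (Z : EtCoh.Ab X) (k : ℕ)
    (hk : k ≤ 2 * e) :
    Function.Bijective (fun x : Ext.{u + 1} Z ((EtCoh.push i).obj S) k =>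
      (x.mapExactFunctor (EtCoh.pull b)).mapExactFunctor (EtCoh.pull q)) := by
  have hp := TorsReg.isLocPA_snd i hreg hV
  have hnY : IsUnit (n : Γ(Y, ⊤)) := isUnit_comp i hn
  have H : IsPullback (pullback.fst v i) (pullback.snd v i) v i := IsPullback.of_hasPullback v i
  have ht := isTorsion_of_killedBy n hn0 S hS
  have h1 := ClosedCoh.isIso_unit H S ht
    (LocPA.isIso_unit hpbc hac hP1 hacy hn0 hp hnY S hS)
  have h2 := map_bijective_le (EtCoh.pullPushAdj v) Z ((EtCoh.push i).obj S) k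
    (fun r hr hr' => ClosedCoh.isZero_Rpush H S ht r
      (LocPA.isZero_Rpush hpbc hac hP1 hacy hn0 hp hnY S hS r (by omega) (by omega)))
  exact ExtTools.bij_comp (F := EtCoh.pull v) (F₁ := EtCoh.pull b) (F₂ := EtCoh.pull q)
    ((EtpbcA.PullFLC.pullCongr hq).symm ≪≫ (EtpbcA.PullFLC.pullComp q b).symm) Z _ k h2

end V

section R

theorem isFiniteTypeIdeal {X : Scheme.{u}} [IsLocallyNoetherian X] (J : X.IdealSheafData) :
    IsFiniteTypeIdeal J := by
  intro U
  have : IsNoetherianRing Γ(X, U.1) := IsLocallyNoetherian.component_noetherian U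
  exact IsNoetherian.noetherian _

theorem isProper {X X' : Scheme.{u}} [IsLocallyNoetherian X] {J : X.IdealSheafData} {b : X' ⟶ X}
    (hb : IsBlowUp b J) : IsProper b :=
  Flat2C.BlowProper.isProper_of_isBlowUp hb (isFiniteTypeIdeal J)

theorem isZero_Rb_top {n : ℕ} (hn0 : n ≠ 0) {X Y X' : Scheme.{u}} [IsLocallyNoetherian X]
    (i : Y ⟶ X) [IsClosedImmersion i] {e : ℕ}
    (hreg : RegImm.IsRegularImmersionOfCodim RegImm.Kind.regular (e + 1) i) {b : X' ⟶ X}
    (hb : IsBlowUp b i.ker) (F : EtCoh.Ab X') (hF : EtCoh.KilledBy n F) (q : ℕ) (hq : 2 * e < q) :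
    IsZero ((EtCoh.Rpush b q).obj F) := by
  have hp := isProper hb
  exact S0126.result b e (BlowDim.krullDim_fiber_le i hreg hb) F (isTorsion_of_killedBy n hn0 F hF)
    q hq

end R

end K338.BlowCoh
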