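import Groth.Agent.Etcore.OpenClosed
import Groth.Agent.Sga4h.HYRestr
import Groth.Agent.Sga4h.EtaleRes2
import Groth.Agent.Sga4h.H57.RowExt
import Groth.Agent.EtpbcA.SectCoh
import Groth.Agent.Etcore.EtInst
import Groth.Agent.Sga4h.LocCohLES

/-!
# Sheaves representing sections with support

`Rep j A`: `A` represents `F ↦ Γ_Z(X, F)`, `Z` the complement of the open immersion `j`.

* `rep j`: the cokernel of `j_! ℤ ⟶ ℤ` represents sections with support;
* `Rep.baseChange`: inverse images of representing objects represent;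
* `Rep.iso`: uniqueness;
* `Rep.subsingleton_ext_iff`: `Ext^m(A, F) = 0` iff `H^m_Z(X, F) = 0`.
-/

set_option autoImplicit false
universe u
open CategoryTheory CategoryTheory.Limits CategoryTheory.Abelian AlgebraicGeometry Opposite

namespace K338.SuppRep

open Groth.Agent Groth.Agent.Etcore.EtInst Groth.Agent.Sga4h
open scoped Groth.Agent.Etcore.EtInst

variable {X U : Scheme.{u}} (j : U ⟶ X) [IsOpenImmersion j] [EtCoh.BCCont j]

/-- `A` represents the sections supported off `U`. -/
structure Rep (A : EtCoh.Ab X) where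
  /-- the bijection -/
  e : ∀ F : EtCoh.Ab X, (EtDual.gammaSupp j).obj F ≃+ (A ⟶ F)
  nat : ∀ {F G : EtCoh.Ab X} (f : F ⟶ G) (x : (EtDual.gammaSupp j).obj F),
    e G ((EtDual.gammaSupp j).map f x) = e F x ≫ f

variable {j}

/-- uniqueness of the representing object -/
noncomputable def Rep.iso {A B : EtCoh.Ab X} (a : Rep j A) (b : Rep j B) : A ≅ B where
  hom := a.e B ((b.e B).symm (𝟙 B))
  inv := b.e A ((a.e A).symm (𝟙 A))
  hom_inv_id := by
    rw [← a.nat]
    have h := b.nat (b.e A ((a.e A).symm (𝟙 A))) ((b.e B).symm (𝟙 B))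
    rw [AddEquiv.apply_symm_apply, Category.id_comp] at h
    rw [(b.e A).injective h, AddEquiv.apply_symm_apply]
  inv_hom_id := by
    rw [← b.nat]
    have h := a.nat (a.e B ((b.e B).symm (𝟙 B))) ((a.e A).symm (𝟙 A))
    rw [AddEquiv.apply_symm_apply, Category.id_comp] at h
    rw [(a.e B).injective h, AddEquiv.apply_symm_apply]

theorem preservesFiniteLimits_gammaSupp (j : U ⟶ X) [IsOpenImmersion j] [EtCoh.BCCont j] :
    PreservesFiniteLimits (EtDual.gammaSupp j) := by
  have : PreservesFiniteLimits (EtDual.secSupp j) := by infer_instance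
  unfold EtDual.gammaSupp
  infer_instance

/-- `Ext^m(A, F) = 0` iff `H^m_Z(X, F) = 0`. -/
theorem Rep.subsingleton_ext_iff {A : EtCoh.Ab X} (a : Rep j A) (F : EtCoh.Ab X) (m : ℕ) :
    Subsingleton (Ext.{u + 1} A F m) ↔ IsZero ((EtDual.HY j m).obj F) :=
  haveI := preservesFiniteLimits_gammaSupp j
  H57.RowExt.subsingleton_ext_iff A (EtDual.gammaSupp j) a.e a.nat F m

/-- the constant sheaf `ℤ` -/
noncomputable abbrev Zc (X : Scheme.{u}) : EtCoh.Ab X := EtCoh.const X ℤ

/-- Morphisms from `ℤ` are global sections. -/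
noncomputable def homTop (F : EtCoh.Ab X) : (Zc X ⟶ F) ≃+ EtCoh.sect F (EtCoh.top X) :=
  EtpbcA.SectCoh.homEquivTop F

theorem homTop_comp {F G : EtCoh.Ab X} (a : Zc X ⟶ F) (f : F ⟶ G) :
    homTop G (a ≫ f) = f.hom.app _ (homTop F a) := rfl

section

variable (j)

instance jCont_inst : EtShriek.JCont j := EtaleRes.jCont j

/-- `j_! ℤ ⟶ ℤ` -/
noncomputable abbrev inc : (EtShriek.extZero j).obj ((EtShriek.restrAlong j).obj (Zc X)) ⟶ Zc X :=
  (EtShriek.extZeroAdj j).counit.app (Zc X)

/-- the representing sheaf -/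
noncomputable def AZ : EtCoh.Ab X := cokernel (inc j)

theorem inc_comp_eq_zero_iff {F : EtCoh.Ab X} (φ : Zc X ⟶ F) :
    inc j ≫ φ = 0 ↔ F.obj.map ((EtaleRes.compBcAdj j).counit.app (EtCoh.top X)).op (homTop F φ) = 0 := by
  rw [← EtaleRes.unit_app_eq_zero_iff j F (EtCoh.top X)]
  change _ ↔ homTop _ (φ ≫ EtDual.unitApp j F) = 0
  rw [map_eq_zero_iff _ (homTop _).injective]
  have h1 : inc j ≫ φ = 0 ↔ (EtShriek.restrAlong j).map φ = 0 := by
    have e1 : inc j ≫ φ = (EtShriek.extZero j).map ((EtShriek.restrAlong j).map φ) ≫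
      (EtShriek.extZeroAdj j).counit.app F := ((EtShriek.extZeroAdj j).counit.naturality φ).symm
    have e2 : (EtShriek.extZeroAdj j).homEquiv _ _ (inc j ≫ φ) = (EtShriek.restrAlong j).map φ := by
      rw [e1]
      exact (Equiv.eq_symm_apply _).1 (Adjunction.homEquiv_counit _ _ _ _).symm
    constructor
    · intro h
      rw [← e2, h, Adjunction.homEquiv_unit]
      rw [Functor.map_zero, comp_zero]
    · intro h
      rw [e1, h, Functor.map_zero, zero_comp]
  have h2 : φ ≫ EtDual.unitApp j F = 0 ↔ (EtCoh.pull j).map φ = 0 := by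
    have e1 : φ ≫ EtDual.unitApp j F = EtDual.unitApp j (Zc X) ≫
      (EtCoh.push j).map ((EtCoh.pull j).map φ) := (EtCoh.pullPushAdj j).unit.naturality φ
    constructor
    · intro h
      have e2 := (EtCoh.pullPushAdj j).homEquiv_unit (Zc X) _ ((EtCoh.pull j).map φ)
      rw [← e1, h] at e2
      apply ((EtCoh.pullPushAdj j).homEquiv _ _).injective
      rw [e2, Adjunction.homEquiv_unit, Functor.map_zero, comp_zero]
    · intro h
      rw [e1, h, Functor.map_zero, comp_zero]
  have h3 : (EtCoh.pull j).map φ = 0 ↔ (EtShriek.restrAlong j).map φ = 0 := by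
    have e1 := (EtaleRes.pullIsoRestr j).hom.naturality φ
    constructor
    · intro h
      rw [h, zero_comp] at e1
      exact (cancel_epi ((EtaleRes.pullIsoRestr j).hom.app _)).1 (e1.symm.trans comp_zero.symm)
    · intro h
      rw [h, comp_zero] at e1
      exact (cancel_mono ((EtaleRes.pullIsoRestr j).hom.app _)).1 (e1.trans zero_comp.symm)
  rw [h1, h2, h3]

/-- `AZ j` represents. -/
noncomputable def rep : Rep j (AZ j) where
  e F := ((KerSect.gammaSuppIso j).app F).addCommGroupIsoToAddEquiv.trans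
    { toFun := fun s => cokernel.desc (inc j) ((homTop F).symm s.1) (by
        rw [inc_comp_eq_zero_iff, AddEquiv.apply_symm_apply]
        exact s.2)
      invFun := fun φ => ⟨homTop F (cokernel.π (inc j) ≫ φ), by
        have h : inc j ≫ cokernel.π (inc j) ≫ φ = 0 := by
          rw [← Category.assoc, cokernel.condition, zero_comp]
        exact (inc_comp_eq_zero_iff j _).1 h⟩
      left_inv := fun s => by
        apply Subtype.ext
        change homTop F (cokernel.π (inc j) ≫ cokernel.desc (inc j) _ _) = _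
        rw [cokernel.π_desc, AddEquiv.apply_symm_apply]
      right_inv := fun φ => by
        apply (cancel_epi (cokernel.π (inc j))).1
        rw [cokernel.π_desc, AddEquiv.symm_apply_apply]
      map_add' := fun s t => by
        apply (cancel_epi (cokernel.π (inc j))).1
        refine Eq.trans ?_ (Preadditive.comp_add _ _ _ _ _ _).symm
        exact (cokernel.π_desc _ _ _).trans ((map_add (homTop F).symm s.1 t.1).trans
          (congrArg₂ (· + ·) (cokernel.π_desc _ _ _).symm (cokernel.π_desc _ _ _).symm)) }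
  nat {F G} f x := by
    have h1 := ConcreteCategory.congr_hom ((KerSect.gammaSuppIso j).hom.naturality f) x
    apply (cancel_epi (cokernel.π (inc j))).1
    refine (cokernel.π_desc _ _ _).trans ?_
    refine Eq.trans ?_ (Category.assoc _ _ _)
    refine Eq.trans ?_ (congrArg (· ≫ f) (cokernel.π_desc _ _ _).symm)
    rw [AddEquiv.symm_apply_eq, homTop_comp, AddEquiv.apply_symm_apply]
    exact congrArg Subtype.val h1

end

/-! ### base change -/

section BaseChange

variable {X' U' : Scheme.{u}} (ι : X' ⟶ X) [EtCoh.BCCont ι] (j' : U' ⟶ X') [IsOpenImmersion j']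
  [EtCoh.BCCont j'] (ι' : U' ⟶ U) (sq : IsPullback ι' j' j ι)

/-- transport of `kerSect` along an isomorphism of the target -/
noncomputable def kerSectIsoTarget {W W' T : X.Etale} (m : W' ⟶ W) (t : W ≅ T) :
    KerSect.kerSect (m ≫ t.hom) ≅ KerSect.kerSect m :=
  NatIso.ofComponents (fun F =>
    (AddEquiv.toAddCommGrpIso
      { toFun := fun s => ⟨F.obj.map t.hom.op s.1, by
          have h2 : F.obj.map (m ≫ t.hom).op s.1 = 0 := s.2
          exact (KerSect.map_comp_op F m t.hom s.1).symm.trans h2⟩
        invFun := fun s => ⟨F.obj.map t.inv.op s.1, by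
          have h2 : F.obj.map m.op s.1 = 0 := s.2
          have h3 := KerSect.map_comp_op F (m ≫ t.hom) t.inv s.1
          rw [Category.assoc, Iso.hom_inv_id, Category.comp_id] at h3
          exact h3.symm.trans h2⟩
        left_inv := fun s => by
          apply Subtype.ext
          have h3 := KerSect.map_comp_op F t.inv t.hom s.1
          rw [Iso.inv_hom_id, op_id, F.obj.map_id] at h3
          exact h3.symm
        right_inv := fun s => by
          apply Subtype.ext
          have h3 := KerSect.map_comp_op F t.hom t.inv s.1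
          rw [Iso.hom_inv_id, op_id, F.obj.map_id] at h3
          exact h3.symm
        map_add' := fun s t' => Subtype.ext (map_add (F.obj.map t.hom.op).hom s.1 t'.1) } :
      (KerSect.kerSect (m ≫ t.hom)).obj F ≅ (KerSect.kerSect m).obj F))
    (by
      intro F G φ
      ext s
      apply Subtype.ext
      exact (ConcreteCategory.congr_hom (φ.hom.naturality t.hom.op) s.1).symm)

/-- `push ι ⋙ kerSect m = kerSect (bc ι m)` -/
noncomputable def pushKerSect {W W' : X.Etale} (m : W' ⟶ W) :
    EtCoh.push ι ⋙ KerSect.kerSect m ≅ KerSect.kerSect ((EtCoh.bc ι).map m) :=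
  NatIso.ofComponents (fun F => Iso.refl _) (by intro F G φ; rfl)

/-- the base change of the terminal object is terminal -/
noncomputable def bcTopIso : (EtCoh.bc ι).obj (EtCoh.top X) ≅ EtCoh.top X' :=
  (IsTerminal.isTerminalObj (EtCoh.bc ι) _ (HYRestr.isTerminalTop X)).uniqueUpToIso
    (HYRestr.isTerminalTop X')

/-- auxiliary morphism of schemes -/
noncomputable def bcToObjAux : pullback (𝟙 U ≫ j) ι ⟶ U' :=
  sq.lift (pullback.fst (𝟙 U ≫ j) ι) (pullback.snd (𝟙 U ≫ j) ι)
    ((congrArg (fun q => pullback.fst (𝟙 U ≫ j) ι ≫ q) (Category.id_comp j).symm).trans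
      pullback.condition)

theorem bcToObjAux_comp : bcToObjAux ι j' ι' sq ≫ (𝟙 U' ≫ j') = pullback.snd (𝟙 U ≫ j) ι :=
  (congrArg (fun q => bcToObjAux ι j' ι' sq ≫ q) (Category.id_comp j')).trans (sq.lift_snd _ _ _)

/-- auxiliary morphism of schemes -/
noncomputable def objToBcAux : U' ⟶ pullback (𝟙 U ≫ j) ι :=
  pullback.lift ι' j' ((congrArg (fun q => ι' ≫ q) (Category.id_comp j)).trans sq.w)

theorem objToBcAux_comp : objToBcAux ι j' ι' sq ≫ pullback.snd (𝟙 U ≫ j) ι = 𝟙 U' ≫ j' :=
  (pullback.lift_snd _ _ _).trans (Category.id_comp j').symm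

/-- comparison of the base change of `U` and `U'` -/
noncomputable def bcToObj : (EtCoh.bc ι).obj (HYRestr.obj j) ⟶ HYRestr.obj j' :=
  MorphismProperty.Over.homMk (bcToObjAux ι j' ι' sq) (bcToObjAux_comp ι j' ι' sq)

/-- comparison of the base change of `U` and `U'` -/
noncomputable def objToBc : HYRestr.obj j' ⟶ (EtCoh.bc ι).obj (HYRestr.obj j) :=
  MorphismProperty.Over.homMk (objToBcAux ι j' ι' sq) (objToBcAux_comp ι j' ι' sq)

include sq in
/-- `Γ_Z(X, ι_* G) = Γ_{Z'}(X', G)` -/
noncomputable def pushGammaSupp : EtCoh.push ι ⋙ EtDual.gammaSupp j ≅ EtDual.gammaSupp j' :=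
  Functor.isoWhiskerLeft (EtCoh.push ι) (HYRestr.gammaSuppIso' j) ≪≫
    pushKerSect ι ((HYRestr.isTerminalTop X).from (HYRestr.obj j)) ≪≫
      (kerSectIsoTarget _ (bcTopIso ι)).symm ≪≫
        KerSect.kerSectIso _ _ (bcToObj ι j' ι' sq) (objToBc ι j' ι' sq)
          ((HYRestr.isTerminalTop X').hom_ext _ _) ((HYRestr.isTerminalTop X').hom_ext _ _) ≪≫
            (HYRestr.gammaSuppIso' j').symm

/-- inverse images of representing objects represent -/
noncomputable def Rep.baseChange {A : EtCoh.Ab X} (a : Rep j A) : Rep j' ((EtCoh.pull ι).obj A) where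
  e G := (((pushGammaSupp ι j' ι' sq).app G).symm.addCommGroupIsoToAddEquiv.trans
    (a.e ((EtCoh.push ι).obj G))).trans
      { toEquiv := ((EtCoh.pullPushAdj ι).homEquiv A G).symm
        map_add' := fun x y => by
          change ((EtCoh.pullPushAdj ι).homEquiv A G).symm (x + y) =
            ((EtCoh.pullPushAdj ι).homEquiv A G).symm x + ((EtCoh.pullPushAdj ι).homEquiv A G).symm y
          rw [Adjunction.homEquiv_counit, Adjunction.homEquiv_counit, Adjunction.homEquiv_counit,
            Functor.map_add, Preadditive.add_comp] }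
  nat {F G} f x := by
    have h1 := ConcreteCategory.congr_hom ((pushGammaSupp ι j' ι' sq).inv.naturality f) x
    have h2 := a.nat ((EtCoh.push ι).map f) ((pushGammaSupp ι j' ι' sq).inv.app F x)
    have h3 : a.e ((EtCoh.push ι).obj G) ((pushGammaSupp ι j' ι' sq).inv.app G
        ((EtDual.gammaSupp j').map f x)) =
        a.e ((EtCoh.push ι).obj F) ((pushGammaSupp ι j' ι' sq).inv.app F x) ≫
          (EtCoh.push ι).map f := by
      rw [← h2]
      exact congrArg _ h1
    change ((EtCoh.pullPushAdj ι).homEquiv A G).symm (a.e _ _) =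
      ((EtCoh.pullPushAdj ι).homEquiv A F).symm (a.e _ _) ≫ f
    rw [← Adjunction.homEquiv_naturality_right_symm]
    exact congrArg _ h3

end BaseChange

end K338.SuppRep
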