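import Groth.Agent.EtDual.K338.Gamma
import Groth.Agent.EtDual.K338.BlowCoh
import Groth.Agent.EtDual.K338.SuppRep
import Groth.Agent.S4178
import Groth.Agent.Sga4B.P1Kum835

/-!
# The local cohomology of a blow-up
-/

set_option autoImplicit false
set_option linter.unusedSectionVars false
universe u w
open CategoryTheory CategoryTheory.Limits AlgebraicGeometry Opposite Abelian BlowUp

namespace K338.Assemble

open Groth.Agent Groth.Agent.Sga4B.PureLine K338.PA K338.LocPA K338.Supp2 K338.Geo K338.Tors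
  K338.TorsChart K338.GysAbs K338.GysTower K338.GysMain K338.Theta K338.SuppRep
  Groth.Agent.Etcore.EtInst
open scoped Groth.Agent.Etcore.EtInst

section DDF

variable {A : Type*} [Category* A] [Abelian A] [HasExt.{w} A] (N : ℕ → A) (Z : A) (s : ℕ)
  (P : ℕ → Type w) [∀ l, AddCommGroup (P l)]

/-- Splitting off the last factor. -/
def snocEquiv (P : ℕ → Type w) [∀ l, AddCommGroup (P l)] (e : ℕ) :
    ((k : Fin (e + 1)) → P k) ≃+ ((k : Fin e) → P k) × P e where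
  toFun f := (fun k => f k.castSucc, f (Fin.last e))
  invFun x := Fin.snoc (α := fun k : Fin (e + 1) => P k) x.1 x.2
  left_inv f := by
    funext k
    refine Fin.lastCases ?_ (fun k => ?_) k
    · exact Fin.snoc_last (α := fun k : Fin (e + 1) => P k) _ _
    · exact Fin.snoc_castSucc (α := fun k : Fin (e + 1) => P k) _ _ _
  right_inv x := by
    refine Prod.ext ?_ ?_
    · funext k
      exact Fin.snoc_castSucc (α := fun k : Fin (e + 1) => P k) _ _ _
    · exact Fin.snoc_last (α := fun k : Fin (e + 1) => P k) _ _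
  map_add' _ _ := rfl

theorem ddf_equiv (h : ∀ l, Nonempty (P l ≃+ Ext.{w} Z (N l) (s + 2 * l))) (e : ℕ) :
    Nonempty (((k : Fin e) → P k) ≃+ (DDF N e).H Z s) := by
  induction e with
  | zero =>
    exact ⟨{ toFun := fun _ => PUnit.unit
             invFun := fun _ k => k.elim0
             left_inv := fun f => funext fun k => k.elim0
             right_inv := fun _ => rfl
             map_add' := fun _ _ => rfl }⟩
  | succ e ih =>
    obtain ⟨a⟩ := ih
    obtain ⟨c⟩ := h e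
    exact ⟨(snocEquiv P e).trans (AddEquiv.prodCongr a c)⟩

end DDF

section AZ

variable {X Y U : Scheme.{u}} (i : Y ⟶ X) [IsClosedImmersion i] (j : U ⟶ X)
  [IsOpenImmersion j] (hc : IsCompl (Set.range i) (Set.range j))

include hc in
theorem mono_inc : Mono (inc j) :=
  (Etcore.OpenClosed.shortExact i j hc (Zc X)).mono_f

include hc in
theorem nonempty_ext_AZ (M : EtCoh.Ab X) (hM : IsZero ((EtCoh.pull j).obj M)) (m : ℕ) :
    Nonempty (Ext.{u + 1} (AZ j) M (m + 1) ≃+ HH X M (m + 1)) := by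
  have hm := mono_inc i j hc
  have hS : (ShortComplex.mk (inc j) (cokernel.π (inc j)) (cokernel.condition _)).ShortExact :=
    { exact := ShortComplex.exact_cokernel _
      mono_f := hm
      epi_g := inferInstanceAs (Epi (cokernel.π _)) }
  have hz : ∀ (k : ℕ) (x : Ext.{u + 1} ((EtShriek.extZero j).obj
      ((EtShriek.restrAlong j).obj (Zc X))) M k), x = 0 := fun k x =>
    ext_subsingleton i j hc (S0653.isZero_pull_extZero j i hc.disjoint.symm _) hM x
  refine ⟨AddEquiv.ofBijective ((Ext.mk₀ (cokernel.π (inc j))).precomp M (zero_add (m + 1)))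
    ⟨?_, ?_⟩⟩
  · rw [injective_iff_map_eq_zero]
    intro y hy
    obtain ⟨z, hz'⟩ := Ext.contravariant_sequence_exact₃ hS M y hy (n₀ := m) (by omega)
    rw [← hz', hz m z, Ext.comp_zero]
    rfl
  · intro x
    obtain ⟨y, hy⟩ := Ext.contravariant_sequence_exact₂ hS M x (hz _ _)
    exact ⟨y, hy⟩

include hc in
theorem nonempty_ext_MM {n : ℕ} (hn : IsUnit (n : Γ(X, ⊤))) (l m m' : ℕ) (hm : m = m')
    (h0 : 1 ≤ m) :
    Nonempty (EtCoh.H Y (EtDual.tate Y n l) m' ≃+ Ext.{u + 1} (AZ j) (MM n i l) m) := by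
  subst hm
  obtain ⟨m, rfl⟩ : ∃ k, m = k + 1 := ⟨m - 1, by omega⟩
  obtain ⟨e1⟩ := nonempty_ext_AZ i j hc (MM n i l) (isZero_pull_MM n i j hc l) m
  obtain ⟨e2⟩ := Sga5.ClosedPush.nonempty_H_push i ((EtCoh.pull i).obj (EtDual.tate X n l)) (m + 1)
  obtain ⟨-, ⟨e3⟩⟩ := Sga5.H848.TateTwist.nonempty_pull_tate i hn l
  exact ⟨((Sga4B.HTools.HCongr e3.symm (m + 1)).trans e2.symm).trans e1.symm⟩

end AZ

section HY

variable {X U : Scheme.{u}} (j : U ⟶ X) [IsOpenImmersion j]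

theorem nonempty_HY {A : EtCoh.Ab X} (a : Rep j A) (F : EtCoh.Ab X) (m m' : ℕ) (hm : m = m')
    (h0 : 1 ≤ m) : Nonempty (Ext.{u + 1} A F m ≃+ ((EtDual.HY j m').obj F : AddCommGrpCat.{u + 1})) := by
  subst hm
  obtain ⟨m, rfl⟩ : ∃ k, m = k + 1 := ⟨m - 1, by omega⟩
  have := preservesFiniteLimits_gammaSupp j
  exact EtpbcB.ExtRightDerived.ext_rightDerived A (EtDual.gammaSupp j) a.e a.nat F m

end HY

theorem nonempty_postcomp {C : Type*} [Category* C] [Abelian C] [HasExt.{w} C] (A : C) {B B' : C}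
    (e : B ≅ B') (m : ℕ) : Nonempty (Ext.{w} A B m ≃+ Ext.{w} A B' m) :=
  ⟨AddEquiv.ofBijective ((Ext.mk₀ e.hom).postcomp A (add_zero m))
    (ExtTools.bij_postcomp e.hom m)⟩

/-- **The decomposition of the local cohomology of a blow-up.** -/
theorem main {X Y U X' U' : Scheme.{u}} [IsNoetherian X]
    (i : Y ⟶ X) [IsClosedImmersion i] (e₀ : ℕ)
    (hreg : RegImm.IsRegularImmersionOfCodim RegImm.Kind.regular (e₀ + 1) i)
    (j : U ⟶ X) [IsOpenImmersion j] (hij : Set.range j = (Set.range i)ᶜ)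
    (b : X' ⟶ X) (hb : BlowUp.IsBlowUp b i.ker)
    (j' : U' ⟶ X') [IsOpenImmersion j']
    (hj' : Set.range j' = ((BlowUp.exceptional b i.ker).support : Set X')ᶜ)
    (n : ℕ) (hn0 : n ≠ 0) (hn : IsUnit (n : Γ(X, ⊤))) :
    Nonempty ((((k : Fin e₀) → EtCoh.H Y (EtDual.tate Y n ((k : ℕ) + 1)) (2 * ((k : ℕ) + 1))) ×
        ((EtDual.HY j (2 * (e₀ + 1))).obj (EtDual.tate X n (e₀ + 1)))) ≃+
      ((EtDual.HY j' (2 * (e₀ + 1))).obj (EtDual.tate X' n (e₀ + 1)))) := by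
  have hpbc : StmtPBC.{u} := Groth.Agent.S4178.stmtPBC
  have hac : StmtAcyc.{u} n := fun Y hn => S4178.acyc n Y 1 hn
  have hP1 : StmtP1.{u} n := Sga4B.P1Kum835.stmtP1 n
  have hacy : StmtAcycAll.{u} n := S4178.acyc n
  have hc := Geo2.isCompl i j hij
  have hbp := BlowCoh.isProper hb
  obtain ⟨V, v, t, hV⟩ := exists_isTors i.ker
  obtain ⟨q, hq⟩ := exists_q hV hb
  have kb : ∀ {F : EtCoh.Ab X}, EtCoh.KilledBy n F → EtCoh.KilledBy n ((EtCoh.pull b).obj F) :=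
    fun h => EtpbcB.NKillEt.killedBy_pull b h
  choose τ θ hθ using fun l : ℕ => exists_theta hpbc hac hP1 hacy hn0 i j hij j' hj' hV hb hq hn
    (l + 1)
  let N : ℕ → EtCoh.Ab X := fun l => MM n i (l + 1)
  have hu : ∀ l, IsIso ((EtCoh.pullPushAdj q).unit.app ((EtCoh.pull b).obj (N l))) := fun l =>
    Theta.isIso_unit hpbc hac hP1 hacy hn0 i hV hb hq hn _ (kb (killedBy_MM n i (l + 1)))
  have hv : ∀ l r, 2 ≤ r → IsZero (((EtCoh.push q).rightDerived r).obj
      ((EtCoh.pull q).obj ((EtCoh.pull b).obj (N l)))) := fun l r hr =>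
    isZero_Rq hpbc hac hP1 hacy hn0 i hV hb hq hn _ (kb (killedBy_MM n i (l + 1))) r hr
  let ξ := xi (EtCoh.pull b) N (EtCoh.pullPushAdj q) hu θ
  have h0 : ∀ Z, Function.Bijective (Psi (EtCoh.pull b) N ξ e₀ Z 0) :=
    Psi_bijective_zero (EtCoh.pull b) N (EtCoh.pullPushAdj q) hu θ hv e₀
      (fun Z l k hk => BlowCoh.bijective_QL hpbc hac hP1 hacy hn0 i hreg hV hq hn _
        (EtpbcB.NKillEt.killedBy_pull i (killedBy_tate n (l + 1))) Z k hk) e₀ le_rfl
  have hΨ := Psi_bijective N (EtCoh.pullPushAdj b) ξ e₀ h0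
    (fun r hr => BlowCoh.isZero_Rb_top hn0 i hreg hb _ (kb (killedBy_MM n i (e₀ + 1))) r hr)
  obtain ⟨d⟩ := decomposition (EtCoh.pull b) N ξ e₀ (AZ j) (ii n j (e₀ + 1)) (ff n i (e₀ + 1))
    (w n i j hc (e₀ + 1)) (shortExact n i j hc (e₀ + 1))
    (fun k => BlowCoh.bijective_K hn0 i j hij j' hj' hb hbp _ (killedBy_KK n i j hc (e₀ + 1))
      (isZero_pull_KK n i j hc (e₀ + 1)) (AZ j) k)
    (fun s => hΨ s (AZ j))
    (by
      rintro e rfl
      obtain ⟨γ, hγ⟩ := Gamma.exists_gamma hpbc hac hP1 hacy hn0 i j hij j' hj' hV hb hq hn (e + 1)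
        (τ e) (θ e) (hθ e) (hu (e + 1))
      exact ⟨γ, ff n i (e + 1 + 1), HEq.rfl, hγ⟩) 1
  obtain ⟨a1⟩ := ddf_equiv N (AZ j) (1 + 1) (fun l => EtCoh.H Y (EtDual.tate Y n (l + 1))
    (2 * (l + 1))) (fun l => nonempty_ext_MM i j hc hn (l + 1) (1 + 1 + 2 * l) (2 * (l + 1))
      (by omega) (by omega)) e₀
  obtain ⟨a2⟩ := nonempty_HY j (rep j) (EtDual.tate X n (e₀ + 1)) (1 + 1 + 2 * e₀) (2 * (e₀ + 1))
    (by omega) (by omega)
  obtain ⟨r, sq⟩ := Geo2.exists_r i j hij b j' hj'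
  obtain ⟨a3⟩ := nonempty_HY j' (Rep.baseChange b j' r sq (rep j)) (EtDual.tate X' n (e₀ + 1))
    (1 + 1 + 2 * e₀) (2 * (e₀ + 1)) (by omega) (by omega)
  obtain ⟨-, ⟨e1⟩⟩ := Sga5.H848.TateTwist.nonempty_pull_tate b hn (e₀ + 1)
  obtain ⟨a4⟩ := nonempty_postcomp ((EtCoh.pull b).obj (AZ j)) e1 (1 + 1 + 2 * e₀)
  exact ⟨((AddEquiv.prodCongr a1 a2.symm).trans d).trans (a4.trans a3)⟩

end K338.Assemble
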