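import Groth.Agent.S0001
import Groth.Agent.Sga4h.PushDer
import Groth.Agent.Sga5.ClosedPush
import Groth.Agent.EtpbcB.BCCrit
import Groth.Agent.EtpbcA.PullFLC
import Groth.Agent.Etbase.PushExact

/-!
# Cohomology of inverse images of sheaves supported on a closed subscheme
-/

set_option autoImplicit false
universe u
open CategoryTheory CategoryTheory.Limits AlgebraicGeometry Opposite

namespace K338.ClosedCoh

open Groth.Agent

/-- `R^q π_*(i_* F) = R^q (i ≫ π)_* F` for a closed immersion `i`. -/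
theorem nonempty_Rpush_closed {Z P X : Scheme.{u}} (i : Z ⟶ P) [IsClosedImmersion i] (π : P ⟶ X)
    (F : EtCoh.Ab Z) (q : ℕ) :
    Nonempty ((EtCoh.Rpush π q).obj ((EtCoh.push i).obj F) ≅ (EtCoh.Rpush (i ≫ π) q).obj F) := by
  have h1 := Groth.Agent.Sga5.ClosedPush.preservesFiniteColimits_push i
  refine ⟨Groth.Agent.Sga4h.PushDer.rpushCompIso i π F (fun p hp => ?_) q⟩
  obtain ⟨p, rfl⟩ : ∃ p', p = p' + 1 := ⟨p - 1, by omega⟩
  exact Groth.Agent.Etbase.PushExact.isZero_rightDerived_of_exact (EtCoh.push i) F p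

variable {X Y V W : Scheme.{u}} {i : Y ⟶ X} [IsClosedImmersion i] {v : V ⟶ X} {i' : W ⟶ V}
  {p : W ⟶ Y} (H : IsPullback i' p v i)

include H

theorem isIso_bc (S : EtCoh.Ab Y) (hS : EtCoh.IsTorsion S) :
    IsIso (EtCoh.baseChange0 i v i' p H.flip.w S) :=
  (S0001.result Y X W V i v i' p H.flip S hS).2

theorem isClosedImmersion : IsClosedImmersion i' :=
  MorphismProperty.of_isPullback H.flip inferInstance

theorem isIso_unit (S : EtCoh.Ab Y) (hS : EtCoh.IsTorsion S)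
    (h : IsIso ((EtCoh.pullPushAdj p).unit.app S)) :
    IsIso ((EtCoh.pullPushAdj v).unit.app ((EtCoh.push i).obj S)) := by
  have h1 := isIso_bc H S hS
  have h2 := EtpbcB.BCCrit.unit_baseChange0 i v i' p H.flip.w S
  have h3 : IsIso ((EtCoh.pullPushAdj v).unit.app ((EtCoh.push i).obj S) ≫
      (EtCoh.push v).map (EtCoh.baseChange0 i v i' p H.flip.w S)) := by
    rw [h2]
    infer_instance
  exact IsIso.of_isIso_comp_right _ ((EtCoh.push v).map (EtCoh.baseChange0 i v i' p H.flip.w S))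

theorem isZero_Rpush (S : EtCoh.Ab Y) (hS : EtCoh.IsTorsion S) (q : ℕ)
    (h : IsZero ((EtCoh.Rpush p q).obj ((EtCoh.pull p).obj S))) :
    IsZero ((EtCoh.Rpush v q).obj ((EtCoh.pull v).obj ((EtCoh.push i).obj S))) := by
  have h1 := isIso_bc H S hS
  have hcl := isClosedImmersion H
  have hex := Sga5.ClosedPush.preservesFiniteColimits_push i
  obtain ⟨e1⟩ := nonempty_Rpush_closed i' v ((EtCoh.pull p).obj S) q
  let e2 : (EtCoh.Rpush (i' ≫ v) q).obj ((EtCoh.pull p).obj S) ≅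
      (EtCoh.Rpush (p ≫ i) q).obj ((EtCoh.pull p).obj S) :=
    (Sga4h.PushDer.rpushCongr H.w q).app _
  let e3 := Sga4h.PushDer.rpushExactIso p i ((EtCoh.pull p).obj S) q
  let e4 : (EtCoh.Rpush v q).obj ((EtCoh.pull v).obj ((EtCoh.push i).obj S)) ≅
      (EtCoh.Rpush v q).obj ((EtCoh.push i').obj ((EtCoh.pull p).obj S)) :=
    (EtCoh.Rpush v q).mapIso (asIso (EtCoh.baseChange0 i v i' p H.flip.w S))
  exact ((EtCoh.push i).map_isZero h).of_iso (e4 ≪≫ e1 ≪≫ e2 ≪≫ e3)

end K338.ClosedCoh
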