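import Groth.Agent.S0204
import Groth.Agent.EtpbcA.CdFinDim
import Groth.Agent.VarietyB.AffineDimOne
import Groth.Agent.Etcore.RpushLoc
import Groth.Agent.Etcore.Torsion
import Groth.Agent.Etrest.Supp
import Mathlib.AlgebraicGeometry.Properties

/-!
# Higher direct images along an open immersion into a curve

`isZero_Rpush`: for `X` of finite type of dimension at most one over an algebraically closed field and
`j : U ⟶ X` an open immersion, `R^q j_* F = 0` for `q ≥ 2` and `F` torsion.
-/

set_option autoImplicit false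
universe u
open CategoryTheory CategoryTheory.Limits AlgebraicGeometry Opposite

namespace K338.CurveOpen

open Groth.Agent Groth.Agent.Etcore.RpushLoc Groth.Agent.Etcore.HQ

attribute [local instance] specializationOrder in
theorem ringKrullDim_stalk_le (X : Scheme.{u}) (x : X) :
    ringKrullDim (X.presheaf.stalk x) ≤ topologicalKrullDim X := by
  rw [ringKrullDim_stalk_eq_coheight,
    ← Order.coheight_orderIso (irreducibleSetEquivPoints (α := X)).symm x]
  exact Order.coheight_le_krullDim _

/-- An open subscheme of an affine curve is affine. -/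
theorem isAffine_of_isOpenImmersion {k : Type u} [Field k] {X W : Scheme.{u}} [IsAffine X]
    (f : X ⟶ Spec (CommRingCat.of k)) [LocallyOfFiniteType f]
    (hdim : topologicalKrullDim X ≤ 1) (p : W ⟶ X) [IsOpenImmersion p] : IsAffine W := by
  have h1 : IsLocallyNoetherian X := LocallyOfFiniteType.isLocallyNoetherian f
  have h2 : AlgebraicGeometry.IsNoetherian X := { }
  have h3 : IsAffineOpen p.opensRange :=
    VarietyB.AffineDimOne.isAffineOpen_of_isCompact X
      (fun x => ⟨inferInstance, (ringKrullDim_stalk_le X x).trans hdim⟩) p.opensRange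
      (TopologicalSpace.NoetherianSpace.isCompact _)
  have h4 : IsAffine (p.opensRange : Scheme.{u}) := h3
  exact IsAffine.of_isIso p.isoOpensRange.hom

theorem isZero_Rpush (k : Type u) [Field k] [IsAlgClosed k] (X : Scheme.{u})
    (f : X ⟶ Spec (CommRingCat.of k)) [LocallyOfFiniteType f]
    (hdim : topologicalKrullDim X ≤ 1) {U : Scheme.{u}} (j : U ⟶ X) [IsOpenImmersion j]
    (F : EtCoh.Ab U) (hF : EtCoh.IsTorsion F) (q : ℕ) (hq : 2 ≤ q) :
    IsZero ((EtCoh.Rpush j q).obj F) := by
  obtain ⟨n, rfl⟩ : ∃ n, q = n + 1 := ⟨q - 1, by omega⟩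
  rw [isZero_Rpush_iff]
  intro V ξ v
  obtain ⟨O, hO, hv, -⟩ := exists_isAffineOpen_mem_and_subset (X := V.left) (x := v) (U := ⊤) trivial
  let V' : X.Etale := Etrest.Supp.mkOver V O.ι
  let k' : V' ⟶ V := Etrest.Supp.mkHom V O.ι
  refine ⟨V', k', ⟨v, hv⟩, rfl, ?_⟩
  have haff : IsAffine V'.left := hO
  have hV'et : Etale V'.hom := V'.prop
  have hdV : topologicalKrullDim V'.left ≤ (1 : ℕ) :=
    EtpbcA.CdFinDim.dim_le_of_etale f V'.hom 1 (by exact_mod_cast hdim)
  have hop : IsOpenImmersion (pullback.fst V'.hom j : ((EtCoh.bc j).obj V').left ⟶ V'.left) :=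
    inferInstanceAs (IsOpenImmersion (pullback.fst V'.hom j))
  have hW : IsAffine ((EtCoh.bc j).obj V').left :=
    @isAffine_of_isOpenImmersion k _ V'.left ((EtCoh.bc j).obj V').left haff (V'.hom ≫ f) inferInstance (by exact_mod_cast hdV)
      (pullback.fst V'.hom j : ((EtCoh.bc j).obj V').left ⟶ V'.left) hop
  have hdW : topologicalKrullDim ((EtCoh.bc j).obj V').left ≤ 1 :=
    ((pullback.fst V'.hom j : ((EtCoh.bc j).obj V').left ⟶ V'.left).isOpenEmbedding.isInducing.topologicalKrullDim_le).trans
      (by exact_mod_cast hdV)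
  have hcd := Groth.Agent.S0204.result k ((EtCoh.bc j).obj V').left
    ((pullback.fst V'.hom j : ((EtCoh.bc j).obj V').left ⟶ V'.left) ≫ V'.hom ≫ f) hdW
    ((EtCoh.pull (pr j V')).obj F) (Etcore.Torsion.isTorsion_pull _ F hF) (n + 1) (by omega)
  exact @Subsingleton.elim _ hcd _ _

end K338.CurveOpen
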