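import Groth.Agent.Etcore.ExtAdj

/-!
# Bijectivity of exact functors on `Ext` groups
-/

set_option autoImplicit false
set_option linter.unusedSectionVars false
universe u v w v' w' v'' w'' u' u''
open CategoryTheory CategoryTheory.Limits Abelian

namespace K338.ExtTools

open Groth.Agent.Etcore.ExtAdj

variable {C : Type u} [Category.{v} C] [Abelian C] {D : Type u'} [Category.{v'} D] [Abelian D]
  [HasExt.{w} C] [HasExt.{w'} D]

theorem bij_precomp {A A' N : D} (a : A' ⟶ A) [IsIso a] (n : ℕ) :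
    Function.Bijective (fun x : Ext.{w'} A N n => (Ext.mk₀ a).comp x (zero_add n)) := by
  refine Function.bijective_iff_has_inverse.2
    ⟨fun x => (Ext.mk₀ (inv a)).comp x (zero_add n), fun x => ?_, fun x => ?_⟩
  · dsimp only
    rw [Ext.mk₀_comp_mk₀_assoc, IsIso.inv_hom_id, Ext.mk₀_id_comp]
  · dsimp only
    rw [Ext.mk₀_comp_mk₀_assoc, IsIso.hom_inv_id, Ext.mk₀_id_comp]

theorem bij_postcomp {A N N' : D} (a : N ⟶ N') [IsIso a] (n : ℕ) :
    Function.Bijective (fun x : Ext.{w'} A N n => x.comp (Ext.mk₀ a) (add_zero n)) := by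
  refine Function.bijective_iff_has_inverse.2
    ⟨fun x => x.comp (Ext.mk₀ (inv a)) (add_zero n), fun x => ?_, fun x => ?_⟩
  · dsimp only
    rw [Ext.comp_assoc_of_third_deg_zero, Ext.mk₀_comp_mk₀, IsIso.hom_inv_id, Ext.comp_mk₀_id]
  · dsimp only
    rw [Ext.comp_assoc_of_third_deg_zero, Ext.mk₀_comp_mk₀, IsIso.inv_hom_id, Ext.comp_mk₀_id]

section Adj

variable [EnoughInjectives C] [EnoughInjectives D]
  {L : C ⥤ D} {R : D ⥤ C} [L.Additive] [PreservesFiniteLimits L] [PreservesFiniteColimits L]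
  [R.Additive] [PreservesFiniteLimits R] [PreservesFiniteColimits R] (adj : L ⊣ R)

include adj in
/-- If the counit at `A` is an isomorphism, `Ext(A, N) → Ext(R A, R N)` is bijective. -/
theorem bij_of_counit (A N : D) [IsIso (adj.counit.app A)] (n : ℕ) :
    Function.Bijective (fun x : Ext.{w'} A N n => x.mapExactFunctor R) := by
  have h1 := (extAdj adj (R.obj A) N n).bijective
  have h2 : Function.Bijective (fun x : Ext.{w'} A N n =>
      (Ext.mk₀ (adj.counit.app A)).comp x (zero_add n)) := bij_precomp (adj.counit.app A) n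
  have h3 := h1.comp h2
  convert h3 using 1
  funext x
  change _ = extAdj adj (R.obj A) N n ((Ext.mk₀ (adj.counit.app A)).comp x (zero_add n))
  rw [extAdj_apply, Ext.mapExactFunctor_comp, Ext.mapExactFunctor_mk₀, Ext.mk₀_comp_mk₀_assoc]
  have h4 := adj.right_triangle_components A
  erw [h4]
  exact (Ext.mk₀_id_comp _).symm

end Adj

variable {E : Type u''} [Category.{v''} E] [Abelian E] [HasExt.{w''} E] [EnoughInjectives C]

/-- Transfer of bijectivity along an isomorphism of exact functors. -/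
theorem bij_of_natIso {F G : C ⥤ E} [F.Additive] [PreservesFiniteLimits F] [PreservesFiniteColimits F]
    [G.Additive] [PreservesFiniteLimits G] [PreservesFiniteColimits G] (τ : F ≅ G) (A B : C) (n : ℕ)
    (h : Function.Bijective (fun x : Ext.{w} A B n => x.mapExactFunctor F)) :
    Function.Bijective (fun x : Ext.{w} A B n => x.mapExactFunctor G) := by
  have h1 : ∀ x : Ext.{w} A B n, x.mapExactFunctor G =
      (Ext.mk₀ (τ.inv.app A)).comp ((x.mapExactFunctor F).comp (Ext.mk₀ (τ.hom.app B)) (add_zero n))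
        (zero_add n) := by
    intro x
    rw [mapExactFunctor_nat τ.hom x, Ext.mk₀_comp_mk₀_assoc, Iso.inv_hom_id_app, Ext.mk₀_id_comp]
  have h2 := (bij_precomp (τ.inv.app A) (N := G.obj B) n).comp
    ((bij_postcomp (τ.hom.app B) (A := F.obj A) n).comp h)
  convert h2 using 1
  funext x
  exact h1 x

theorem eq_zero_of_natIso {F G : C ⥤ E} [F.Additive] [PreservesFiniteLimits F]
    [PreservesFiniteColimits F] [G.Additive] [PreservesFiniteLimits G] [PreservesFiniteColimits G]
    (τ : F ≅ G) {A B : C} {n : ℕ} (x : Ext.{w} A B n) (h : x.mapExactFunctor F = 0) :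
    x.mapExactFunctor G = 0 := by
  have h1 : x.mapExactFunctor G =
      (Ext.mk₀ (τ.inv.app A)).comp ((x.mapExactFunctor F).comp (Ext.mk₀ (τ.hom.app B)) (add_zero n))
        (zero_add n) := by
    rw [mapExactFunctor_nat τ.hom x, Ext.mk₀_comp_mk₀_assoc, Iso.inv_hom_id_app, Ext.mk₀_id_comp]
  rw [h1, h, Ext.zero_comp, Ext.comp_zero]

/-- Composites. -/
theorem bij_comp {F : C ⥤ E} [F.Additive] [PreservesFiniteLimits F] [PreservesFiniteColimits F]
    {F₁ : C ⥤ D} [F₁.Additive] [PreservesFiniteLimits F₁] [PreservesFiniteColimits F₁]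
    {F₂ : D ⥤ E} [F₂.Additive] [PreservesFiniteLimits F₂] [PreservesFiniteColimits F₂]
    (τ : F ≅ F₁ ⋙ F₂) (A B : C) (n : ℕ)
    (h : Function.Bijective (fun x : Ext.{w} A B n => x.mapExactFunctor F)) :
    Function.Bijective (fun x : Ext.{w} A B n => (x.mapExactFunctor F₁).mapExactFunctor F₂) := by
  have i1 : PreservesFiniteLimits (F₁ ⋙ F₂) := comp_preservesFiniteLimits F₁ F₂
  have i2 : PreservesFiniteColimits (F₁ ⋙ F₂) := comp_preservesFiniteColimits F₁ F₂
  have i3 : (F₁ ⋙ F₂).Additive := inferInstance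
  have h1 := bij_of_natIso τ A B n h
  have h2 : (fun x : Ext.{w} A B n => x.mapExactFunctor (F₁ ⋙ F₂)) =
      fun x : Ext.{w} A B n => (x.mapExactFunctor F₁).mapExactFunctor F₂ := by
    funext x
    exact mapExactFunctor_compFunctor F₁ F₂ x
  rw [← h2]
  exact h1

/-- If one of the factors vanishes, so does the composite. -/
theorem eq_zero_of_comp {F : C ⥤ E} [F.Additive] [PreservesFiniteLimits F]
    [PreservesFiniteColimits F]
    {F₁ : C ⥤ D} [F₁.Additive] [PreservesFiniteLimits F₁] [PreservesFiniteColimits F₁]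
    {F₂ : D ⥤ E} [F₂.Additive] [PreservesFiniteLimits F₂] [PreservesFiniteColimits F₂]
    (τ : F₁ ⋙ F₂ ≅ F) {A B : C} {n : ℕ} (x : Ext.{w} A B n) (h : x.mapExactFunctor F₁ = 0) :
    x.mapExactFunctor F = 0 := by
  have i1 : PreservesFiniteLimits (F₁ ⋙ F₂) := comp_preservesFiniteLimits F₁ F₂
  have i2 : PreservesFiniteColimits (F₁ ⋙ F₂) := comp_preservesFiniteColimits F₁ F₂
  have i3 : (F₁ ⋙ F₂).Additive := inferInstance
  refine eq_zero_of_natIso τ x ?_
  rw [mapExactFunctor_compFunctor F₁ F₂ x, h]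
  exact map_zero (F₂.mapExtAddHom (F₁.obj A) (F₁.obj B) n)

end K338.ExtTools
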