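import Groth.Agent.EtDual.K338.Theta

/-!
# Lifting the Gysin classes to the constant sheaf
-/

set_option autoImplicit false
set_option linter.unusedSectionVars false
universe u
open CategoryTheory CategoryTheory.Limits AlgebraicGeometry Opposite Abelian BlowUp

namespace K338.Gamma

open Groth.Agent Groth.Agent.Sga4B.PureLine K338.PA K338.LocPA K338.Supp2 K338.Geo K338.Tors
  K338.TorsChart K338.GysAbs K338.Theta
open scoped Groth.Agent.Etcore.EtInst

variable {n : ℕ} (hpbc : StmtPBC.{u}) (hac : StmtAcyc.{u} n) (hP1 : StmtP1.{u} n)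
  (hacy : StmtAcycAll.{u} n) (hn0 : n ≠ 0)
  {X Y U X' U' V : Scheme.{u}} (i : Y ⟶ X) [IsClosedImmersion i] (j : U ⟶ X)
  [IsOpenImmersion j] (hij : Set.range j = (Set.range i)ᶜ) {b : X' ⟶ X} (j' : U' ⟶ X')
  [IsOpenImmersion j'] (hj' : Set.range j' = ((BlowUp.exceptional b i.ker).support : Set X')ᶜ)
  {v : V ⟶ X} {t : Γ(V, ⊤)} (hV : IsTors i.ker v t) (hb : IsBlowUp b i.ker) {q : V ⟶ X'}
  (hq : q ≫ b = v) (hn : IsUnit (n : Γ(X, ⊤)))

include hV hb hq hn hpbc hac hP1 hacy hn0 hij hj'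

/-- The class `η` of the Tate twist lifts to `i_* i^*`. -/
theorem exists_gamma (m : ℕ)
    (τ : (EtCoh.pull b).obj (EtDual.tate X n m) ≅
        P1 (EtCoh.pull q) (EtCoh.push q) ((EtCoh.pull b).obj (EtDual.tate X n (m + 1))))
    (θ : (EtCoh.pull b).obj (MM n i m) ≅
        P1 (EtCoh.pull q) (EtCoh.push q) ((EtCoh.pull b).obj (MM n i (m + 1))))
    (hθ : (EtCoh.pull b).map (ff n i m) ≫ θ.hom = τ.hom ≫
        ((EtCoh.push q).rightDerived 1).map ((EtCoh.pull q).map ((EtCoh.pull b).map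
          (ff n i (m + 1)))))
    (hu : IsIso ((EtCoh.pullPushAdj q).unit.app ((EtCoh.pull b).obj (MM n i (m + 1))))) :
    ∃ γ : Ext.{u + 1} ((EtCoh.pull b).obj (MM n i m))
        ((EtCoh.pull b).obj (EtDual.tate X n (m + 1))) 2,
      γ.comp (Ext.mk₀ ((EtCoh.pull b).map (ff n i (m + 1)))) (add_zero 2) =
        (Ext.mk₀ θ.hom).comp (eta (EtCoh.pullPushAdj q) ((EtCoh.pull b).obj (MM n i (m + 1))))
          (zero_add 2) := by
  have hc := Geo2.isCompl i j hij
  have hc' := Geo2.isCompl' i j hij b j' hj'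
  have hq' := isLocPA_q hV hb hq
  have hnX' : IsUnit (n : Γ(X', ⊤)) := isUnit_comp b hn
  obtain ⟨r, sq⟩ := Geo2.exists_r i j hij b j' hj'
  have kb : ∀ {F : EtCoh.Ab X}, EtCoh.KilledBy n F → EtCoh.KilledBy n ((EtCoh.pull b).obj F) :=
    fun h => EtpbcB.NKillEt.killedBy_pull b h
  have hS1 := (shortExact n i j hc m).map_of_exact (EtCoh.pull b)
  have hKm : ∀ k, IsZero ((EtCoh.pull (pullback.fst b i)).obj ((EtCoh.pull b).obj (KK n j k))) :=
    fun k => isZero_pull_pull pullback.condition _ (isZero_pull_KK n i j hc k)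
  have hMm : ∀ k, IsZero ((EtCoh.pull j').obj ((EtCoh.pull b).obj (MM n i k))) :=
    fun k => isZero_pull_pull sq.w.symm _ (isZero_pull_MM n i j hc k)
  have hcl : IsClosedImmersion (pullback.fst b i) := inferInstance
  have hu2 : IsIso ((EtCoh.pullPushAdj q).unit.app
      ((EtCoh.pull b).obj (EtDual.tate X n (m + 1)))) :=
    isIso_unit hpbc hac hP1 hacy hn0 i hV hb hq hn _ (kb (killedBy_tate n (m + 1)))
  obtain ⟨s, hs⟩ := exists_section hV hb hq j' hj'.subset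
  let η : Ext.{u + 1} ((EtCoh.pull b).obj (EtDual.tate X n m))
      ((EtCoh.pull b).obj (EtDual.tate X n (m + 1))) 2 :=
    (Ext.mk₀ τ.hom).comp (eta (EtCoh.pullPushAdj q)
      ((EtCoh.pull b).obj (EtDual.tate X n (m + 1)))) (zero_add 2)
  have hη : η.mapExactFunctor (EtCoh.pull q) = 0 := map_comp_eta (EtCoh.pullPushAdj q) _
  have hη' : η.mapExactFunctor (EtCoh.pull j') = 0 :=
    ExtTools.eq_zero_of_comp (F₁ := EtCoh.pull q) (F₂ := EtCoh.pull s)
      (EtpbcA.PullFLC.pullComp s q ≪≫ EtpbcA.PullFLC.pullCongr hs) η hη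
  refine GysGlue.exists_gamma hS1 η ((EtCoh.pull b).map (ff n i (m + 1))) _ ?_ ?_ ?_
  · apply ext_eq_zero (pullback.fst b i) j' hc' (hKm m)
    change ((Ext.mk₀ ((EtCoh.pull b).map (ii n j m))).comp η (zero_add 2)).mapExactFunctor
      (EtCoh.pull j') = 0
    rw [Ext.mapExactFunctor_comp, hη', Ext.comp_zero]
  · have h1 := eta_nat (EtCoh.pullPushAdj q) ((EtCoh.pull b).map (ff n i (m + 1)))
    change ((Ext.mk₀ τ.hom).comp (eta (EtCoh.pullPushAdj q)
      ((EtCoh.pull b).obj (EtDual.tate X n (m + 1)))) (zero_add 2)).comp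
        (Ext.mk₀ ((EtCoh.pull b).map (ff n i (m + 1)))) (add_zero 2) =
      (Ext.mk₀ ((EtCoh.pull b).map (ff n i m))).comp ((Ext.mk₀ θ.hom).comp
        (eta (EtCoh.pullPushAdj q) ((EtCoh.pull b).obj (MM n i (m + 1)))) (zero_add 2)) (zero_add 2)
    rw [Ext.comp_assoc_of_third_deg_zero, h1, Ext.mk₀_comp_mk₀_assoc, Ext.mk₀_comp_mk₀_assoc, hθ]
  · intro x
    exact ext_subsingleton (pullback.fst b i) j' hc' (hKm m) (hMm (m + 1)) x

end K338.Gamma
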