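import Groth.Agent.Etcore.OpenClosed
import Groth.Agent.Etcore.ShriekExact
import Groth.Agent.Etcore.EtInst
import Groth.Agent.Sga4h.EtaleRes
import Groth.Agent.Sga4h.PushDer
import Groth.Agent.Sga5.H855.EtUnit
import Groth.Agent.EtDual.K338.ExtTools

/-!
# Sheaves supported on an open or on a closed subscheme
-/

set_option autoImplicit false
universe u
open CategoryTheory CategoryTheory.Limits AlgebraicGeometry Opposite Abelian

namespace K338.Supp2

open Groth.Agent Groth.Agent.Etcore Groth.Agent.Etcore.EtInst Groth.Agent.Sga4h.PushDer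
open scoped Groth.Agent.Etcore.EtInst

variable {X U E : Scheme.{u}} (i : E ⟶ X) (j : U ⟶ X)

/-- A family of jointly surjective morphisms detects zero objects. -/
theorem isZero_of_family (A : EtCoh.Ab X)
    (h : ∀ x : X, ∃ (V : Scheme.{u}) (h : V ⟶ X) (v : V), h v = x ∧ IsZero ((EtCoh.pull h).obj A)) :
    IsZero A := by
  refine Stalks.isZero_of_stalks A fun x => ?_
  obtain ⟨V, h, v, rfl, hV⟩ := h x
  obtain ⟨Ω, i1, i2, ξ, hξ⟩ := Etcore.Stalks.exists_geom v
  refine ⟨Ω, i1, i2, ξ ≫ h, ?_, ?_⟩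
  · rw [Scheme.Hom.comp_apply, hξ]
  · exact ((EtCoh.stalk ξ).map_isZero hV).of_iso
      ((Groth.Agent.Etbase.StalkPull.stalkPullIso h ξ).app A)

theorem mem_or (hc : IsCompl (Set.range i) (Set.range j)) (x : X) :
    x ∈ Set.range i ∨ x ∈ Set.range j :=
  hc.codisjoint.top_le (Set.mem_univ x)

theorem isZero_of_both (hc : IsCompl (Set.range i) (Set.range j)) (A : EtCoh.Ab X)
    (h1 : IsZero ((EtCoh.pull i).obj A)) (h2 : IsZero ((EtCoh.pull j).obj A)) : IsZero A := by
  refine isZero_of_family A fun x => ?_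
  rcases mem_or i j hc x with ⟨y, hy⟩ | ⟨y, hy⟩
  · exact ⟨E, i, y, hy, h1⟩
  · exact ⟨U, j, y, hy, h2⟩

theorem isIso_of_both (hc : IsCompl (Set.range i) (Set.range j)) {A B : EtCoh.Ab X} (φ : A ⟶ B)
    (h1 : IsIso ((EtCoh.pull i).map φ)) (h2 : IsIso ((EtCoh.pull j).map φ)) : IsIso φ := by
  refine Sga5.H855.EtUnit.isIso_of_family φ fun x => ?_
  rcases mem_or i j hc x with ⟨y, hy⟩ | ⟨y, hy⟩
  · exact ⟨E, i, y, hy, h1⟩
  · exact ⟨U, j, y, hy, h2⟩

variable [IsClosedImmersion i] [IsOpenImmersion j]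

instance jCont_inst : EtShriek.JCont j := Groth.Agent.Sga4h.EtaleRes.jCont j

/-- `j_! j^* A ≅ A` when `i^* A = 0`. -/
theorem isIso_counit (hc : IsCompl (Set.range i) (Set.range j)) (A : EtCoh.Ab X)
    (hA : IsZero ((EtCoh.pull i).obj A)) : IsIso ((EtShriek.extZeroAdj j).counit.app A) := by
  have hS := OpenClosed.shortExact i j hc A
  have h1 : IsZero ((EtCoh.push i).obj ((EtCoh.pull i).obj A)) := (EtCoh.push i).map_isZero hA
  have h2 : Epi ((EtShriek.extZeroAdj j).counit.app A) := hS.exact.epi_f (h1.eq_of_tgt _ _)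
  have h3 : Mono ((EtShriek.extZeroAdj j).counit.app A) := hS.mono_f
  exact isIso_of_mono_of_epi _

theorem hom_eq_zero (hc : IsCompl (Set.range i) (Set.range j)) {A B : EtCoh.Ab X}
    (hA : IsZero ((EtCoh.pull i).obj A)) (hB : IsZero ((EtShriek.restrAlong j).obj B)) (φ : A ⟶ B) :
    φ = 0 := by
  have h1 := isIso_counit i j hc A hA
  rw [← cancel_epi ((EtShriek.extZeroAdj j).counit.app A), comp_zero]
  have h2 := (EtShriek.extZeroAdj j).counit.naturality φ
  refine h2.symm.trans ?_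
  have h3 : (EtShriek.restrAlong j).map φ = 0 := hB.eq_of_tgt _ _
  change (EtShriek.extZero j).map ((EtShriek.restrAlong j).map φ) ≫ _ = 0
  rw [h3, Functor.map_zero, zero_comp]

instance pfl : PreservesFiniteLimits (EtShriek.restrAlong j) := inferInstance
instance pfc : PreservesFiniteColimits (EtShriek.restrAlong j) := inferInstance
instance pfl' : PreservesFiniteLimits (EtShriek.extZero j) := inferInstance
instance pfc' : PreservesFiniteColimits (EtShriek.extZero j) := by
  have : PreservesColimitsOfSize.{0, 0} (EtShriek.extZero j) :=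
    (EtShriek.extZeroAdj j).leftAdjoint_preservesColimits
  exact PreservesColimitsOfSize.preservesFiniteColimits _
instance add' : (EtShriek.extZero j).Additive := (EtShriek.extZeroAdj j).left_adjoint_additive

/-- the two inverse images -/
noncomputable def pullRestr : EtCoh.pull j ≅ EtShriek.restrAlong j :=
  Groth.Agent.Etcore.ShriekBasic.pullIsoRestr j

theorem bij_restr (hc : IsCompl (Set.range i) (Set.range j)) {A B : EtCoh.Ab X}
    (hA : IsZero ((EtCoh.pull i).obj A)) (n : ℕ) :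
    Function.Bijective (fun x : Ext.{u + 1} A B n => x.mapExactFunctor (EtShriek.restrAlong j)) := by
  have h1 := isIso_counit i j hc A hA
  exact ExtTools.bij_of_counit (EtShriek.extZeroAdj j) A B n

theorem bij_pull (hc : IsCompl (Set.range i) (Set.range j)) {A B : EtCoh.Ab X}
    (hA : IsZero ((EtCoh.pull i).obj A)) (n : ℕ) :
    Function.Bijective (fun x : Ext.{u + 1} A B n => x.mapExactFunctor (EtCoh.pull j)) :=
  ExtTools.bij_of_natIso (pullRestr j).symm A B n (bij_restr i j hc hA n)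

theorem ext_eq_zero (hc : IsCompl (Set.range i) (Set.range j)) {A B : EtCoh.Ab X}
    (hA : IsZero ((EtCoh.pull i).obj A)) {n : ℕ} (x : Ext.{u + 1} A B n)
    (hx : x.mapExactFunctor (EtCoh.pull j) = 0) : x = 0 := by
  apply (bij_pull i j hc hA n).1
  dsimp only
  rw [hx]
  exact (map_zero ((EtCoh.pull j).mapExtAddHom A B n)).symm

theorem ext_eq_zero_of_isZero {C : Type*} [Category* C] [Abelian C] [HasExt.{u + 1} C] {A B : C}
    (hB : IsZero B) {n : ℕ} (x : Ext.{u + 1} A B n) : x = 0 := by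
  have h1 := Ext.comp_mk₀_id x
  rw [hB.eq_of_src (𝟙 B) 0, Ext.mk₀_zero, Ext.comp_zero] at h1
  exact h1.symm

theorem ext_subsingleton (hc : IsCompl (Set.range i) (Set.range j)) {A B : EtCoh.Ab X}
    (hA : IsZero ((EtCoh.pull i).obj A)) (hB : IsZero ((EtCoh.pull j).obj B)) {n : ℕ}
    (x : Ext.{u + 1} A B n) : x = 0 :=
  ext_eq_zero i j hc hA x (ext_eq_zero_of_isZero hB _)

theorem hom_eq_zero' (hc : IsCompl (Set.range i) (Set.range j)) {A B : EtCoh.Ab X}
    (hA : IsZero ((EtCoh.pull i).obj A)) (hB : IsZero ((EtCoh.pull j).obj B)) (φ : A ⟶ B) :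
    φ = 0 :=
  hom_eq_zero i j hc hA (hB.of_iso ((pullRestr j).symm.app B)) φ

end K338.Supp2
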