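import Groth.Agent.EtDual.K338.LocPA
import Groth.Agent.EtDual.K338.Supp2
import Groth.Agent.EtDual.K338.ClosedCoh
import Groth.Agent.S0653
import Groth.Agent.Divis.BlowUpFormal

/-!
# Vanishing on the exceptional divisor and on its complement
-/

set_option autoImplicit false
universe u
open CategoryTheory CategoryTheory.Limits AlgebraicGeometry Opposite Abelian

namespace K338.Geo

open Groth.Agent Groth.Agent.Sga4B.PureLine K338.PA K338.LocPA K338.Supp2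

theorem isZero_pull_pull {A B B' C : Scheme.{u}} {f : A ⟶ B} {g : B ⟶ C} {f' : A ⟶ B'} {g' : B' ⟶ C}
    (w : f ≫ g = f' ≫ g') (F : EtCoh.Ab C) (h : IsZero ((EtCoh.pull g').obj F)) :
    IsZero ((EtCoh.pull f).obj ((EtCoh.pull g).obj F)) :=
  ((EtCoh.pull f').map_isZero h).of_iso ((EtpbcA.PullFLC.pullComp f g).app F ≪≫
    (EtpbcA.PullFLC.pullCongr w).app F ≪≫ ((EtpbcA.PullFLC.pullComp f' g').app F).symm)

theorem isZero_pull_push {X Y U : Scheme.{u}} (i : Y ⟶ X) (j : U ⟶ X) [IsOpenImmersion j]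
    (hd : Disjoint (Set.range i) (Set.range j)) (S : EtCoh.Ab Y) :
    IsZero ((EtCoh.pull j).obj ((EtCoh.push i).obj S)) :=
  (Etcore.OpenClosed.isZero_restr_push i j hd S).of_iso ((pullRestr j).app _)

section LocPA

variable {n : ℕ} (hpbc : StmtPBC.{u}) (hac : StmtAcyc.{u} n) (hP1 : StmtP1.{u} n)
  (hn0 : n ≠ 0) {V T : Scheme.{u}} {f : V ⟶ T}
  (hf : IsLocPA 0 f) (hn : IsUnit (n : Γ(T, ⊤)))

include hpbc hac hP1 hn0 hf hn

/-- Stalks of `R^1 q_* q^* F`. -/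
theorem isZero_stalk (F : EtCoh.Ab T) (hF : EtCoh.KilledBy n F) (Ω : Type u)
    [Field Ω] [IsAlgClosed Ω] (ξ : Spec (CommRingCat.of Ω) ⟶ T)
    (h : IsZero ((EtCoh.pull ξ).obj F)) :
    IsZero ((EtCoh.stalk ξ).obj ((EtCoh.Rpush f 1).obj ((EtCoh.pull f).obj F))) := by
  obtain ⟨W, w, _, k, ⟨y, hy⟩, sq⟩ := hf (ξ default)
  have hr : Set.range ξ ⊆ Set.range w := by
    rintro _ ⟨z, rfl⟩
    rw [Subsingleton.elim z default]
    exact ⟨y, hy⟩
  let ξ' : Spec (CommRingCat.of Ω) ⟶ W := IsOpenImmersion.lift w ξ hr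
  have hξ : ξ' ≫ w = ξ := IsOpenImmersion.lift_fac _ _ _
  rw [← hξ] at h ⊢
  have h1 : IsZero ((EtCoh.pull ξ').obj ((EtCoh.pull w).obj F)) :=
    h.of_iso ((EtpbcA.PullFLC.pullComp ξ' w).app F)
  have hs := isZero_stalk_pa hpbc hac hP1 hn0 (isUnit_comp w hn) ((EtCoh.pull w).obj F)
    (EtpbcB.NKillEt.killedBy_pull w hF) Ω ξ' h1
  obtain ⟨i⟩ := Etdl.H441.Loc.etaleBC sq ((EtCoh.pull f).obj F) 1
  have hz : IsZero ((EtCoh.stalk ξ').obj ((EtCoh.Rpush (pa 0 W) 1).obj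
      ((EtCoh.pull (pa 0 W)).obj ((EtCoh.pull w).obj F)))) :=
    AddCommGrpCat.isZero_of_subsingleton _
  exact hz.of_iso ((Etbase.StalkPull.stalkPullIso w ξ').app _ ≪≫ (EtCoh.stalk ξ').mapIso (i ≪≫
    (EtCoh.Rpush (pa 0 W) 1).mapIso ((EtpbcA.PullFLC.pullComp k f).app F ≪≫
      (EtpbcA.PullFLC.pullCongr sq.w).app F ≪≫ ((EtpbcA.PullFLC.pullComp (pa 0 W) w).app F).symm)))

/-- `i^* R^1 q_* q^* F = 0` when `i^* F = 0`. -/
theorem isZero_pull_P1 {E : Scheme.{u}} (i : E ⟶ T) (F : EtCoh.Ab T) (hF : EtCoh.KilledBy n F)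
    (h : IsZero ((EtCoh.pull i).obj F)) :
    IsZero ((EtCoh.pull i).obj ((EtCoh.Rpush f 1).obj ((EtCoh.pull f).obj F))) := by
  refine Etcore.Stalks.isZero_of_stalks _ fun x => ?_
  obtain ⟨Ω, _, _, ξ, hξ⟩ := Etbase.EtSections.exists_geometricPoint x
  refine ⟨Ω, inferInstance, inferInstance, ξ, hξ, ?_⟩
  have h1 : IsZero ((EtCoh.pull (ξ ≫ i)).obj F) :=
    ((EtCoh.pull ξ).map_isZero h).of_iso ((EtpbcA.PullFLC.pullComp ξ i).app F).symm
  exact (isZero_stalk hpbc hac hP1 hn0 hf hn F hF Ω (ξ ≫ i) h1).of_iso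
    ((Etbase.StalkPull.stalkPullIso i ξ).app _).symm

end LocPA

/-- `j^* R^q f_* f^* F = 0` when `j^* F = 0`, `j` étale. -/
theorem isZero_pull_Rpush {V T U : Scheme.{u}} (f : V ⟶ T) (j : U ⟶ T) [Etale j] (F : EtCoh.Ab T)
    (q : ℕ) (h : IsZero ((EtCoh.pull j).obj F)) :
    IsZero ((EtCoh.pull j).obj ((EtCoh.Rpush f q).obj ((EtCoh.pull f).obj F))) := by
  obtain ⟨i⟩ := Etdl.H441.Loc.etaleBC (IsPullback.of_hasPullback f j) ((EtCoh.pull f).obj F) q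
  exact ((EtCoh.Rpush (pullback.snd f j) q).map_isZero
    (isZero_pull_pull pullback.condition F h)).of_iso i

end K338.Geo
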