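import Groth.Agent.EtDual.K338.Geo

/-!
# The geometry of the complement of the exceptional divisor
-/

set_option autoImplicit false
set_option linter.unusedSectionVars false
universe u
open CategoryTheory CategoryTheory.Limits AlgebraicGeometry Opposite BlowUp

namespace K338.Geo2

open Groth.Agent

variable {X Y U X' U' : Scheme.{u}} (i : Y ⟶ X) [IsClosedImmersion i] (j : U ⟶ X)
  [IsOpenImmersion j] (hij : Set.range j = (Set.range i)ᶜ) (b : X' ⟶ X) (j' : U' ⟶ X')
  [IsOpenImmersion j'] (hj' : Set.range j' = ((BlowUp.exceptional b i.ker).support : Set X')ᶜ)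

omit [IsOpenImmersion j] in
include hij in
theorem isCompl : IsCompl (Set.range i) (Set.range j) := by
  rw [hij]
  exact isCompl_compl

theorem support_exceptional :
    ((BlowUp.exceptional b i.ker).support : Set X') = b ⁻¹' (Set.range i) := by
  rw [BlowUp.exceptional, Scheme.IdealSheafData.support_comap]
  have h1 : (i.ker.support : Set X) = Set.range i := by
    rw [Scheme.Hom.support_ker, i.isClosedEmbedding.isClosed_range.closure_eq]
  rw [← h1]
  rfl

omit [IsOpenImmersion j] [IsOpenImmersion j'] in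
include hij hj' in
theorem range_j' : Set.range j' = b ⁻¹' (Set.range j) := by
  rw [hj', support_exceptional, hij]
  rfl

include hij hj' in
theorem exists_r : ∃ r : U' ⟶ U, IsPullback r j' j b := by
  have h1 := range_j' i j hij b j' hj'
  have h2 : Set.range (j' ≫ b) ⊆ Set.range j := by
    rintro _ ⟨x, rfl⟩
    have h3 : j' x ∈ Set.range j' := ⟨x, rfl⟩
    rw [h1] at h3
    exact h3
  refine ⟨IsOpenImmersion.lift j (j' ≫ b) h2, IsOpenImmersion.isPullback _ _ _ _
    (IsOpenImmersion.lift_fac _ _ _).symm ?_⟩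
  ext x
  constructor
  · intro hx
    have h4 : x ∈ b ⁻¹' (Set.range j) := hx
    rw [← h1] at h4
    exact h4
  · intro hx
    have h4 : x ∈ Set.range j' := hx
    rw [h1] at h4
    exact h4

include hij hj' in
omit [IsOpenImmersion j'] in
theorem isCompl' : IsCompl (Set.range (pullback.fst b i)) (Set.range j') := by
  have h1 : Set.range (pullback.fst b i) = b ⁻¹' (Set.range i) :=
    Scheme.Pullback.range_fst b i
  rw [h1, hj', support_exceptional]
  exact isCompl_compl

include hij in
theorem isIso_r (hb : IsBlowUp b i.ker) (r : U' ⟶ U) (sq : IsPullback r j' j b) : IsIso r := by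
  have h1 : IsIso (b ∣_ j.opensRange) := by
    refine Divis.BlowUpFormal.isIso_morphismRestrict_compl_support hb _ ?_
    rw [Scheme.Hom.support_ker, i.isClosedEmbedding.isClosed_range.closure_eq]
    have h2 : (j.opensRange : Set X) = (Set.range i)ᶜ := hij
    rw [h2]
    exact disjoint_compl_left
  have h2 : IsPullback (b ⁻¹ᵁ j.opensRange).ι (b ∣_ j.opensRange) b j.opensRange.ι :=
    (isPullback_morphismRestrict b j.opensRange).flip
  have h3 : j.isoOpensRange.hom ≫ j.opensRange.ι = j := by simp
  let l : U' ⟶ (b ⁻¹ᵁ j.opensRange : Scheme.{u}) := h2.lift j' (r ≫ j.isoOpensRange.hom) (by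
    rw [Category.assoc, h3, sq.w])
  have h4 : l ≫ (b ⁻¹ᵁ j.opensRange).ι = j' := h2.lift_fst _ _ _
  have h5 : l ≫ (b ∣_ j.opensRange) = r ≫ j.isoOpensRange.hom := h2.lift_snd _ _ _
  have h6 : IsPullback l r (b ∣_ j.opensRange) j.isoOpensRange.hom := by
    refine IsPullback.of_right (h₁₂ := (b ⁻¹ᵁ j.opensRange).ι) (h₂₂ := j.opensRange.ι) ?_ h5 h2
    rw [h3, h4]
    exact sq.flip
  exact h6.isIso_snd_of_isIso

end K338.Geo2
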