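import Groth.Agent.MilnorK.K766.TwoRow
import Groth.Agent.RDer.K887.LES
import Groth.Agent.EtpbcB.RDerLES

/-!
# The Gysin two-term extension of an adjunction

`Q ⊣ G` with `Q` exact, `F` with `F ≅ G Q F` and `R^{≥ 2} G (Q F) = 0`; `P = R^1 G (Q F)`.  There is a class
`η ∈ Ext^2(P, F)` and a long exact sequence
`Ext^i(Z, F) ⟶ Ext^i(Q Z, Q F) ⟶ Ext^{i-1}(Z, P) ⟶ Ext^{i+1}(Z, F)`, the last map being `y ↦ y · η`.
-/

set_option autoImplicit false
set_option linter.unusedSectionVars false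

universe w v v' u u'

open CategoryTheory CategoryTheory.Limits CategoryTheory.Abelian

namespace K338.GysAbs

open K766.TwoRow Groth.Agent.EtpbcB

variable {C : Type u} [Category.{v} C] [Abelian C] {D : Type u'} [Category.{v'} D] [Abelian D]
  [HasExt.{w} C] [HasExt.{w} D] [EnoughInjectives D]
  {Q : C ⥤ D} {G : D ⥤ C} (adj : Q ⊣ G) [Q.Additive] [PreservesFiniteLimits Q]
  [PreservesFiniteColimits Q] [G.Additive] [PreservesFiniteLimits G]

theorem adjMap_unit {T F : C} {n : ℕ} (x : Ext.{w} T F n) :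
    adjMap adj T (Q.obj F) n (x.comp (Ext.mk₀ (adj.unit.app F)) (add_zero n)) =
      x.mapExactFunctor Q := by
  rw [adjMap_comp_mk₀', adj.left_triangle_components, Ext.comp_mk₀_id]

theorem isZero_injective (A : D) [Injective A] (q : ℕ) (hq : 1 ≤ q) :
    IsZero ((G.rightDerived q).obj A) := by
  obtain ⟨q, rfl⟩ : ∃ p, q = p + 1 := ⟨q - 1, by omega⟩
  exact G.isZero_rightDerived_obj_injective_succ q A

theorem shortExact_map {S : ShortComplex D} (hS : S.ShortExact)
    (h : IsZero ((G.rightDerived 1).obj S.X₁)) : (S.map G).ShortExact := by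
  have h1 : Epi (S.map G).g := RDerLES.epi_map_g G hS h
  have h2 := hS.mono_f
  have h3 : Mono (S.map G).f := inferInstanceAs (Mono (G.map S.f))
  exact { exact := (hS.exact.map_of_mono_of_preservesKernel G hS.mono_f inferInstance) }

/-- Partially acyclic objects. -/
theorem adjMap_bijective_le (T : C) (n : ℕ) : ∀ A : D,
    (∀ q, 1 ≤ q → q ≤ n → IsZero ((G.rightDerived q).obj A)) →
    Function.Bijective (adjMap adj T A n) := by
  induction n with
  | zero => exact fun A _ => adjMap_zero_bijective adj T A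
  | succ n ih =>
    intro A hA
    obtain ⟨S, hS, hJ, rfl⟩ := exists_ses A
    have hS' := shortExact_map (G := G) hS (hA 1 le_rfl (by omega))
    have hA' : ∀ q, 1 ≤ q → q ≤ n → IsZero ((G.rightDerived q).obj S.X₃) := fun q h1 h2 =>
      RDerLES.isZero_right G hS q (isZero_injective S.X₂ q h1) (hA (q + 1) (by omega) (by omega))
    have hJ' : ∀ q, 1 ≤ q → q ≤ n → IsZero ((G.rightDerived q).obj S.X₂) := fun q h1 _ =>
      isZero_injective S.X₂ q h1
    have hGJ : Injective (S.map G).X₂ := Injective.injective_of_adjoint adj S.X₂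
    constructor
    · rw [injective_iff_map_eq_zero]
      intro x hx
      obtain ⟨x', hx'⟩ := Ext.covariant_sequence_exact₁ T hS' x (Ext.eq_zero_of_injective _) rfl
      rw [← hx'] at hx ⊢
      have hx2 : (adjMap adj T S.X₃ n x').comp hS.extClass rfl = 0 := by
        rw [← adjMap_comp_extClass adj hS hS' rfl x']
        exact hx
      obtain ⟨z, hz⟩ := Ext.covariant_sequence_exact₃ _ hS _ rfl hx2
      obtain ⟨z', rfl⟩ := (ih S.X₂ hJ').2 z
      rw [← adjMap_comp_mk₀] at hz
      have h3 := (ih S.X₃ hA').1 hz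
      rw [← h3]
      have h4 : (Ext.mk₀ (G.map S.g)).comp hS'.extClass (zero_add 1) = 0 := hS'.comp_extClass
      exact (Ext.comp_assoc_of_second_deg_zero _ _ _ _).trans (by
        erw [h4]; exact Ext.comp_zero _ _ _ _ _)
    · intro y
      obtain ⟨y', hy'⟩ := Ext.covariant_sequence_exact₁ (Q.obj T) hS y
        (Ext.eq_zero_of_injective _) rfl
      obtain ⟨x', rfl⟩ := (ih S.X₃ hA').2 y'
      exact ⟨x'.comp (show Ext.{w} (G.obj S.X₃) (G.obj S.X₁) 1 from hS'.extClass) rfl, by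
        rw [adjMap_comp_extClass adj hS hS' rfl x', hy']⟩

/-- `Q` is bijective on `Ext^n(T, F)` when `F ≅ G Q F` and `R^q G (Q F) = 0` for `1 ≤ q ≤ n`. -/
theorem map_bijective_le (T F : C) [IsIso (adj.unit.app F)] (n : ℕ)
    (h : ∀ q, 1 ≤ q → q ≤ n → IsZero ((G.rightDerived q).obj (Q.obj F))) :
    Function.Bijective (fun x : Ext.{w} T F n => x.mapExactFunctor Q) := by
  have h1 := adjMap_bijective_le adj T n (Q.obj F) h
  have h2 : Function.Bijective (fun x : Ext.{w} T F n =>
      x.comp (Ext.mk₀ (adj.unit.app F)) (add_zero n)) := by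
    constructor
    · intro x y hxy
      have := congrArg (fun z => z.comp (Ext.mk₀ (inv (adj.unit.app F))) (add_zero n)) hxy
      simpa using this
    · intro y
      exact ⟨y.comp (Ext.mk₀ (inv (adj.unit.app F))) (add_zero n), by simp⟩
  have h3 : (fun x : Ext.{w} T F n => x.mapExactFunctor Q) =
      (adjMap adj T (Q.obj F) n) ∘ (fun x : Ext.{w} T F n =>
        x.comp (Ext.mk₀ (adj.unit.app F)) (add_zero n)) := by
    funext x
    exact (adjMap_unit adj x).symm
  rw [h3]
  exact h1.comp h2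

section Gysin

/-- The injective embedding of `Q F`. -/
noncomputable abbrev sI (Q : C ⥤ D) (F : C) : ShortComplex D :=
  ShortComplex.mk (Injective.ι (Q.obj F)) (cokernel.π (Injective.ι (Q.obj F))) (by simp)

theorem sI_shortExact (F : C) : (sI Q F).ShortExact :=
  { exact := ShortComplex.exact_cokernel _
    mono_f := inferInstanceAs (Mono (Injective.ι (Q.obj F)))
    epi_g := inferInstanceAs (Epi (cokernel.π _)) }

/-- `R^1 G Q F`. -/
noncomputable abbrev P1 (Q : C ⥤ D) (G : D ⥤ C) [G.Additive] (F : C) : C :=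
  (G.rightDerived 1).obj (Q.obj F)

variable (Q G) in
/-- The map `G C₀ ⟶ R^1 G Q F`. -/
noncomputable def dd (F : C) :
    G.obj (sI Q F).X₃ ⟶ P1 Q G F :=
  G.toRightDerivedZero.app (sI Q F).X₃ ≫ (K887.LES.derivedLES G).δ (sI Q F) (sI_shortExact F) 0 1 rfl

variable (F : C)

theorem map_dd : G.map (sI Q F).g ≫ dd Q G F = 0 := by
  rw [dd, ← Category.assoc, G.toRightDerivedZero.naturality, Category.assoc,
    (K887.LES.derivedLES G).comp_δ (sI Q F) (sI_shortExact F) 0 1 rfl, comp_zero]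

theorem exact_dd : (ShortComplex.mk _ _ (map_dd (Q := Q) (G := G) F)).Exact := by
  let e : ShortComplex.mk _ _ (map_dd (Q := Q) (G := G) F) ≅
      ShortComplex.mk _ _ ((K887.LES.derivedLES G).comp_δ (sI Q F) (sI_shortExact F) 0 1 rfl) :=
    ShortComplex.isoMk (S₁ := ShortComplex.mk _ _ (map_dd (Q := Q) (G := G) F))
      (S₂ := ShortComplex.mk _ _
        ((K887.LES.derivedLES G).comp_δ (sI Q F) (sI_shortExact F) 0 1 rfl))
      (asIso (G.toRightDerivedZero.app (sI Q F).X₂) : G.obj (sI Q F).X₂ ≅ (G.rightDerived 0).obj (sI Q F).X₂)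
      (asIso (G.toRightDerivedZero.app (sI Q F).X₃) : G.obj (sI Q F).X₃ ≅ (G.rightDerived 0).obj (sI Q F).X₃)
      (Iso.refl ((G.rightDerived 1).obj (sI Q F).X₁))
      (G.toRightDerivedZero.naturality (sI Q F).g).symm (by simp [dd])
  exact (ShortComplex.exact_iff_of_iso e).2 ((K887.LES.derivedLES G).exact₃ _ _ 0 1 rfl)

instance epi_dd : Epi (dd Q G F) := by
  have h1 : Epi ((K887.LES.derivedLES G).δ (sI Q F) (sI_shortExact F) 0 1 rfl) := by
    refine ((K887.LES.derivedLES G).exact₁ (sI Q F) (sI_shortExact F) 0 1 rfl).epi_f ?_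
    exact (isZero_injective (G := G) (sI Q F).X₂ 1 le_rfl).eq_of_tgt _ _
  have h2 : IsIso (G.toRightDerivedZero.app (sI Q F).X₃) := inferInstance
  unfold dd
  exact epi_comp _ _

variable (Q G) in
/-- The kernel of `G C₀ ⟶ R^1 G Q F`. -/
noncomputable abbrev BB (F : C) : C :=
  kernel (dd Q G F)

variable (Q G) in
/-- The sequence `B ⟶ G C₀ ⟶ P`. -/
noncomputable abbrev s2 (F : C) : ShortComplex C :=
  ShortComplex.mk (kernel.ι (dd Q G F)) (dd Q G F) (kernel.condition _)

theorem s2_shortExact : (s2 Q G F).ShortExact :=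
  { exact := ShortComplex.exact_kernel _
    mono_f := inferInstanceAs (Mono (kernel.ι _))
    epi_g := epi_dd F }

variable (Q G) in
/-- The map `G I ⟶ B`. -/
noncomputable def g1 (F : C) :
    G.obj (sI Q F).X₂ ⟶ BB Q G F :=
  kernel.lift _ (G.map (sI Q F).g) (map_dd F)

@[reassoc]
theorem g1_ι : g1 Q G F ≫ kernel.ι (dd Q G F) = G.map (sI Q F).g := kernel.lift_ι _ _ _

/-- The sequence `F ⟶ G I ⟶ B`. -/
noncomputable abbrev s1 : ShortComplex C :=
  ShortComplex.mk (adj.unit.app F ≫ G.map (sI Q F).f) (g1 Q G F) (by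
    rw [← cancel_mono (kernel.ι (dd Q G F)), Category.assoc, Category.assoc, g1_ι,
      ← G.map_comp, (sI Q F).zero, G.map_zero, comp_zero, zero_comp])

theorem s1_shortExact [IsIso (adj.unit.app F)] : (s1 adj F).ShortExact := by
  have hm : Mono (G.map (sI Q F).f) := by
    have := (sI_shortExact (Q := Q) F).mono_f
    infer_instance
  have he : (ShortComplex.mk (G.map (sI Q F).f) (G.map (sI Q F).g)
      (by rw [← G.map_comp, (sI Q F).zero, G.map_zero])).Exact :=
    ((sI_shortExact (Q := Q) F).exact.map_of_mono_of_preservesKernel G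
      (sI_shortExact (Q := Q) F).mono_f inferInstance)
  have he' : (ShortComplex.mk (G.map (sI Q F).f) (g1 Q G F) (by
      rw [← cancel_mono (kernel.ι (dd Q G F)), Category.assoc, g1_ι,
        ← G.map_comp, (sI Q F).zero, G.map_zero, zero_comp])).Exact := by
    rw [ShortComplex.exact_iff_exact_up_to_refinements] at he ⊢
    intro A x hx
    exact he x (by
      change x ≫ g1 Q G F = 0 at hx
      change x ≫ G.map (sI Q F).g = 0
      have h : x ≫ g1 Q G F ≫ kernel.ι (dd Q G F) = 0 := by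
        rw [← Category.assoc, hx, zero_comp]
      exact (congrArg (fun z => x ≫ z) (g1_ι (Q := Q) (G := G) F)).symm.trans h)
  refine { exact := ?_, mono_f := ?_, epi_g := ?_ }
  · have e1 : F ≅ G.obj (Q.obj F) := asIso (adj.unit.app F)
    have e : s1 adj F ≅ ShortComplex.mk (G.map (sI Q F).f) (g1 Q G F) (by
      rw [← cancel_mono (kernel.ι (dd Q G F)), Category.assoc, g1_ι,
        ← G.map_comp, (sI Q F).zero, G.map_zero, zero_comp]) :=
      ShortComplex.isoMk (S₁ := s1 adj F) (S₂ := ShortComplex.mk (G.map (sI Q F).f) (g1 Q G F) _)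
        (asIso (adj.unit.app F) : F ≅ G.obj (Q.obj F)) (Iso.refl (G.obj (sI Q F).X₂))
        (Iso.refl (BB Q G F)) (by simp) (by simp)
    exact (ShortComplex.exact_iff_of_iso e).2 he'
  · exact inferInstanceAs (Mono (adj.unit.app F ≫ G.map (sI Q F).f))
  · have h := (exact_dd (Q := Q) (G := G) F).epi_kernelLift
    exact h

/-- The Gysin class. -/
noncomputable def eta [IsIso (adj.unit.app F)] : Ext.{w} (P1 Q G F) F 2 :=
  (s2_shortExact (Q := Q) (G := G) F).extClass.comp (s1_shortExact adj F).extClass rfl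

variable {F}

theorem comp_eta [IsIso (adj.unit.app F)] {Z : C} {i : ℕ} (y : Ext.{w} Z (P1 Q G F) i) :
    y.comp (eta adj F) rfl = (y.comp (s2_shortExact (Q := Q) (G := G) F).extClass rfl).comp
      (s1_shortExact adj F).extClass rfl := by
  rw [eta]
  exact (Ext.comp_assoc y (s2_shortExact (Q := Q) (G := G) F).extClass
    (s1_shortExact adj F).extClass rfl rfl rfl).symm

/-- The comparison `Q s1 ⟶ sI`. -/
noncomputable def cmp : (s1 adj F).map Q ⟶ sI Q F where
  τ₁ := 𝟙 _
  τ₂ := adj.counit.app _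
  τ₃ := Q.map (kernel.ι (dd Q G F)) ≫ adj.counit.app _
  comm₁₂ := by
    change 𝟙 _ ≫ (sI Q F).f = Q.map (adj.unit.app F ≫ G.map (sI Q F).f) ≫ adj.counit.app _
    rw [Q.map_comp, Category.assoc]
    have h1 := adj.counit_naturality (sI Q F).f
    have h2 : Q.map (adj.unit.app F) ≫ adj.counit.app (sI Q F).X₁ = 𝟙 _ :=
      adj.left_triangle_components F
    rw [h1, ← Category.assoc, h2]
    rfl
  comm₂₃ := by
    change adj.counit.app _ ≫ (sI Q F).g =
      Q.map (g1 Q G F) ≫ Q.map (kernel.ι (dd Q G F)) ≫ adj.counit.app _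
    rw [← Category.assoc, ← Q.map_comp, g1_ι]
    exact (adj.counit_naturality (sI Q F).g).symm

theorem map_comp_e1 [IsIso (adj.unit.app F)] {Z : C} {i j : ℕ} (h : i + 1 = j)
    (x : Ext.{w} Z (BB Q G F) i) :
    ((x.comp (s1_shortExact adj F).extClass h).mapExactFunctor Q) =
      (adjMap adj Z _ i (x.comp (Ext.mk₀ (kernel.ι (dd Q G F))) (add_zero i))).comp
        (sI_shortExact (Q := Q) F).extClass h := by
  have h1 := map_comp_extClass (F := Q) (s1_shortExact adj F) (sI_shortExact (Q := Q) F) (cmp adj) h x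
  rw [adjMap_comp_mk₀']
  exact (Ext.comp_mk₀_id (Y := Q.obj F) _).symm.trans h1

/-- `Q (y · η) = 0`. -/
theorem map_comp_eta [IsIso (adj.unit.app F)] {Z : C} {i : ℕ} (y : Ext.{w} Z (P1 Q G F) i) :
    (y.comp (eta adj F) rfl).mapExactFunctor Q = 0 := by
  rw [comp_eta, map_comp_e1]
  have h1 : ((y.comp (s2_shortExact (Q := Q) (G := G) F).extClass rfl).comp
      (Ext.mk₀ (kernel.ι (dd Q G F))) (add_zero (i + 1))) = 0 := by
    rw [Ext.comp_assoc_of_third_deg_zero]
    have h2 : (s2_shortExact (Q := Q) (G := G) F).extClass.comp (Ext.mk₀ (kernel.ι (dd Q G F)))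
      (add_zero 1) = 0 := (s2_shortExact (Q := Q) (G := G) F).extClass_comp
    rw [h2, Ext.comp_zero]
  rw [h1, map_zero, Ext.zero_comp]

variable (hF : ∀ q, 2 ≤ q → IsZero ((G.rightDerived q).obj (Q.obj F)))

include hF

theorem isZero_C0 (q : ℕ) (hq : 1 ≤ q) : IsZero ((G.rightDerived q).obj (sI Q F).X₃) :=
  RDerLES.isZero_right G (sI_shortExact F) q (isZero_injective (sI Q F).X₂ q hq)
    (hF (q + 1) (by omega))

theorem bij_C0 (Z : C) (i : ℕ) : Function.Bijective (adjMap adj Z (sI Q F).X₃ i) :=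
  adjMap_bijective_le adj Z i _ (fun q h1 _ => isZero_C0 hF q h1)

/-- Exactness at `Ext^{i+2}(Z, F)`. -/
theorem exists_of_map_eq_zero [IsIso (adj.unit.app F)] {Z : C} {i : ℕ} (x : Ext.{w} Z F (i + 2))
    (hx : x.mapExactFunctor Q = 0) : ∃ y : Ext.{w} Z (P1 Q G F) i, y.comp (eta adj F) rfl = x := by
  have hGI : Injective (s1 adj F).X₂ := Injective.injective_of_adjoint adj (sI Q F).X₂
  obtain ⟨x', hx'⟩ := Ext.covariant_sequence_exact₁ Z (s1_shortExact adj F) x
    (Ext.eq_zero_of_injective _) (n₀ := i + 1) rfl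
  have h1 : (adjMap adj Z _ (i + 1) (x'.comp (Ext.mk₀ (kernel.ι (dd Q G F))) (add_zero (i + 1)))).comp
        (sI_shortExact (Q := Q) F).extClass (show i + 1 + 1 = i + 2 from rfl) = 0 := by
    rw [← map_comp_e1, hx', hx]
  obtain ⟨z, hz⟩ := Ext.covariant_sequence_exact₃ _ (sI_shortExact (Q := Q) F) _ rfl h1
  have hI : Injective (sI Q F).X₂ := inferInstanceAs (Injective (Injective.under _))
  have hz0 : z = 0 := Ext.eq_zero_of_injective z
  rw [hz0, Ext.zero_comp] at hz
  have h2 : x'.comp (Ext.mk₀ (kernel.ι (dd Q G F))) (add_zero (i + 1)) = 0 :=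
    (bij_C0 adj hF Z (i + 1)).1 (by rw [← hz, map_zero])
  obtain ⟨y, hy⟩ := Ext.covariant_sequence_exact₁ Z (s2_shortExact (Q := Q) (G := G) F) x' h2
    (n₀ := i) rfl
  refine ⟨y, ?_⟩
  rw [comp_eta, hy, hx']

/-- Exactness at `Ext^i(Z, P)`. -/
theorem eq_zero_of_comp_eta [IsIso (adj.unit.app F)] {Z : C} {i : ℕ} (y : Ext.{w} Z (P1 Q G F) i)
    (hs : Function.Surjective (fun x : Ext.{w} Z F (i + 1) => x.mapExactFunctor Q))
    (hy : y.comp (eta adj F) rfl = 0) : y = 0 := by
  have hGI : Injective (s1 adj F).X₂ := Injective.injective_of_adjoint adj (sI Q F).X₂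
  rw [comp_eta] at hy
  obtain ⟨w, hw⟩ := Ext.covariant_sequence_exact₃ Z (s1_shortExact adj F) _ rfl hy
  have hw0 : w = 0 := Ext.eq_zero_of_injective w
  rw [hw0, Ext.zero_comp] at hw
  obtain ⟨u, hu⟩ := Ext.covariant_sequence_exact₃ Z (s2_shortExact (Q := Q) (G := G) F) y rfl hw.symm
  obtain ⟨t, ht⟩ := hs ((adjMap adj Z _ i u).comp (sI_shortExact (Q := Q) F).extClass rfl)
  obtain ⟨t', ht'⟩ := Ext.covariant_sequence_exact₁ Z (s1_shortExact adj F) t
    (Ext.eq_zero_of_injective _) (n₀ := i) rfl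
  have h1 : (adjMap adj Z _ i (u - t'.comp (Ext.mk₀ (kernel.ι (dd Q G F))) (add_zero i))).comp
      (sI_shortExact (Q := Q) F).extClass rfl = 0 := by
    rw [map_sub, sub_eq_add_neg, Ext.add_comp, Ext.neg_comp, ← map_comp_e1, ht', ← ht]
    exact add_neg_cancel _
  obtain ⟨z, hz⟩ := Ext.covariant_sequence_exact₃ _ (sI_shortExact (Q := Q) F) _ rfl h1
  obtain ⟨z', hz'⟩ := (adjMap_bijective_le adj Z i (sI Q F).X₂
    (fun q h1 _ => isZero_injective _ q h1)).2 z
  rw [← hz', ← adjMap_comp_mk₀] at hz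
  have h2 := (bij_C0 adj hF Z i).1 hz
  have h3 : u = (t' + z'.comp (Ext.mk₀ (g1 Q G F)) (add_zero i)).comp
      (Ext.mk₀ (kernel.ι (dd Q G F))) (add_zero i) := by
    rw [Ext.add_comp, Ext.comp_assoc_of_third_deg_zero, Ext.mk₀_comp_mk₀, g1_ι, h2]
    abel
  rw [← hu, h3, Ext.comp_assoc_of_third_deg_zero, Ext.mk₀_comp_mk₀, kernel.condition, Ext.mk₀_zero,
    Ext.comp_zero]

omit hF

section Nat

variable {F' : C} (φ : F ⟶ F')

/-- The extension to the injective embeddings. -/
noncomputable def sImap : sI Q F ⟶ sI Q F' where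
  τ₁ := Q.map φ
  τ₂ := Injective.factorThru (Q.map φ ≫ Injective.ι _) (Injective.ι _)
  τ₃ := cokernel.map _ _ (Q.map φ) (Injective.factorThru (Q.map φ ≫ Injective.ι _) (Injective.ι _))
    (by rw [Injective.comp_factorThru])
  comm₁₂ := (Injective.comp_factorThru _ _).symm
  comm₂₃ := (cokernel.π_desc _ _ _).symm

@[reassoc]
theorem dd_nat : dd Q G F ≫ (G.rightDerived 1).map (Q.map φ) =
    G.map (sImap (Q := Q) φ).τ₃ ≫ dd Q G F' := by
  have h1 := (K887.LES.derivedLES G).δ_natural (sI_shortExact (Q := Q) F) (sI_shortExact (Q := Q) F')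
    (sImap φ) 0 1 rfl
  rw [dd, dd, ← Category.assoc, G.toRightDerivedZero.naturality, Category.assoc, Category.assoc]
  rw [h1]
  rfl

/-- The map of the second sequences. -/
noncomputable def s2map : s2 Q G F ⟶ s2 Q G F' where
  τ₁ := kernel.map _ _ (G.map (sImap (Q := Q) φ).τ₃) ((G.rightDerived 1).map (Q.map φ)) (dd_nat φ)
  τ₂ := G.map (sImap (Q := Q) φ).τ₃
  τ₃ := (G.rightDerived 1).map (Q.map φ)
  comm₁₂ := kernel.lift_ι _ _ _
  comm₂₃ := (dd_nat φ).symm

/-- The map of the first sequences. -/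
noncomputable def s1map : s1 adj F ⟶ s1 adj F' where
  τ₁ := φ
  τ₂ := G.map (sImap (Q := Q) φ).τ₂
  τ₃ := (s2map (Q := Q) (G := G) φ).τ₁
  comm₁₂ := by
    change φ ≫ adj.unit.app F' ≫ G.map (sI Q F').f =
      (adj.unit.app F ≫ G.map (sI Q F).f) ≫ G.map (sImap φ).τ₂
    rw [Category.assoc, ← G.map_comp, ← (sImap (Q := Q) φ).comm₁₂, G.map_comp, ← Category.assoc,
      ← Category.assoc]
    congr 1
    exact adj.unit.naturality φ
  comm₂₃ := by
    rw [← cancel_mono (kernel.ι (dd Q G F'))]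
    change (G.map (sImap φ).τ₂ ≫ g1 Q G F') ≫ kernel.ι _ =
      (g1 Q G F ≫ kernel.map _ _ _ _ (dd_nat φ)) ≫ kernel.ι _
    rw [Category.assoc, g1_ι, Category.assoc, kernel.map, kernel.lift_ι, ← Category.assoc, g1_ι,
      ← G.map_comp, ← G.map_comp, (sImap (Q := Q) φ).comm₂₃]

/-- Naturality of the Gysin class. -/
theorem eta_nat [IsIso (adj.unit.app F)] [IsIso (adj.unit.app F')] :
    (eta adj F).comp (Ext.mk₀ φ) (add_zero 2) =
      (Ext.mk₀ ((G.rightDerived 1).map (Q.map φ))).comp (eta adj F') (zero_add 2) := by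
  have h1 := ShortComplex.ShortExact.extClass_naturality (s1_shortExact adj F)
    (s1_shortExact adj F') (s1map adj φ)
  have h2 := ShortComplex.ShortExact.extClass_naturality (s2_shortExact (Q := Q) (G := G) F)
    (s2_shortExact (Q := Q) (G := G) F') (s2map φ)
  have h1' : (s1_shortExact adj F).extClass.comp (Ext.mk₀ φ) (add_zero 1) =
    (Ext.mk₀ (s2map (Q := Q) (G := G) φ).τ₁).comp (s1_shortExact adj F').extClass (zero_add 1) := h1
  have h2' : (s2_shortExact (Q := Q) (G := G) F).extClass.comp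
      (Ext.mk₀ (s2map (Q := Q) (G := G) φ).τ₁) (add_zero 1) =
    (Ext.mk₀ ((G.rightDerived 1).map (Q.map φ))).comp
      (s2_shortExact (Q := Q) (G := G) F').extClass (zero_add 1) := h2
  rw [eta, eta, Ext.comp_assoc_of_third_deg_zero, h1',
    ← Ext.comp_assoc_of_second_deg_zero, h2']
  exact Ext.comp_assoc _ _ _ _ _ (by omega)

end Nat

end Gysin

end K338.GysAbs
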