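import Groth.Agent.EtDual.K338.GysMain

/-!
# Auxiliary results for the Gysin tower
-/

set_option autoImplicit false
set_option linter.unusedSectionVars false

universe w v v' u u'

open CategoryTheory CategoryTheory.Limits CategoryTheory.Abelian

namespace K338.GysGlue

open K338.GysAbs Groth.Agent.EtpbcB

variable {C : Type u} [Category.{v} C] [Abelian C]

/-- An isomorphism of the middle terms of two short exact sequences induces an isomorphism of the
third terms when the cross terms vanish. -/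
theorem exists_iso {S₁ S₂ : ShortComplex C} (h₁ : S₁.ShortExact) (h₂ : S₂.ShortExact)
    (e : S₁.X₂ ≅ S₂.X₂) (z₁ : ∀ φ : S₁.X₁ ⟶ S₂.X₃, φ = 0) (z₂ : ∀ φ : S₂.X₁ ⟶ S₁.X₃, φ = 0) :
    ∃ θ : S₁.X₃ ≅ S₂.X₃, S₁.g ≫ θ.hom = e.hom ≫ S₂.g := by
  have e₁ := h₁.epi_g
  have e₂ := h₂.epi_g
  let a : S₁.X₃ ⟶ S₂.X₃ := h₁.exact.desc (e.hom ≫ S₂.g) (z₁ _)
  let b : S₂.X₃ ⟶ S₁.X₃ := h₂.exact.desc (e.inv ≫ S₁.g) (z₂ _)
  have ha : S₁.g ≫ a = e.hom ≫ S₂.g := h₁.exact.g_desc _ _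
  have hb : S₂.g ≫ b = e.inv ≫ S₁.g := h₂.exact.g_desc _ _
  refine ⟨⟨a, b, ?_, ?_⟩, ha⟩
  · rw [← cancel_epi S₁.g, reassoc_of% ha, hb, Iso.hom_inv_id_assoc, Category.comp_id]
  · rw [← cancel_epi S₂.g, reassoc_of% hb, ha, Iso.inv_hom_id_assoc, Category.comp_id]

section P1

variable {D : Type u'} [Category.{v'} D] [Abelian D] [HasExt.{w} D] [EnoughInjectives D]
  {Q : C ⥤ D} {G : D ⥤ C} (adj : Q ⊣ G) [Q.Additive] [PreservesFiniteLimits Q]
  [PreservesFiniteColimits Q] [G.Additive] [PreservesFiniteLimits G]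

include adj in
/-- `R^1 G Q` is exact on sequences with bijective units and `R^2 G Q = 0`. -/
theorem shortExact_P1 {S : ShortComplex C} (hS : S.ShortExact) (hu₂ : IsIso (adj.unit.app S.X₂))
    (hu₃ : IsIso (adj.unit.app S.X₃)) (h2 : IsZero ((G.rightDerived 2).obj (Q.obj S.X₁))) :
    (ShortComplex.mk ((G.rightDerived 1).map (Q.map S.f)) ((G.rightDerived 1).map (Q.map S.g))
      (by rw [← Functor.map_comp, ← Functor.map_comp, S.zero, Functor.map_zero,
        Functor.map_zero])).ShortExact := by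
  have hQ := hS.map_of_exact Q
  have hg := hS.epi_g
  have h1 : Epi (G.map (Q.map S.g)) := by
    have e1 : Epi (S.g ≫ adj.unit.app S.X₃) := inferInstance
    have e2 : S.g ≫ adj.unit.app S.X₃ = adj.unit.app S.X₂ ≫ G.map (Q.map S.g) :=
      adj.unit.naturality S.g
    rw [e2] at e1
    exact epi_of_epi (adj.unit.app S.X₂) _
  have h3 : Epi ((G.rightDerived 0).map (Q.map S.g)) := by
    have e1 := G.rightDerivedZeroIsoSelf.hom.naturality (Q.map S.g)
    have e2 : (G.rightDerived 0).map (Q.map S.g) =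
        G.rightDerivedZeroIsoSelf.hom.app _ ≫ G.map (Q.map S.g) ≫
          G.rightDerivedZeroIsoSelf.inv.app _ := by
      rw [← Category.assoc, ← e1, Category.assoc, Iso.hom_inv_id_app]
      exact (Category.comp_id _).symm
    rw [e2]
    infer_instance
  have h4 : RDerLES.δ G hQ 0 = 0 := by
    have h5 : (G.rightDerived 0).map (Q.map S.g) ≫ RDerLES.δ G hQ 0 =
        (G.rightDerived 0).map (Q.map S.g) ≫ 0 := by
      rw [comp_zero]
      exact RDerLES.comp_δ G hQ 0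
    exact h3.left_cancellation _ _ h5
  refine { exact := ?_, mono_f := ?_, epi_g := ?_ }
  · exact RDerLES.exact₂ G hQ 1
  · exact (RDerLES.exact₁ G hQ 0).mono_g h4
  · exact (RDerLES.exact₃ G hQ 1).epi_f (h2.eq_of_tgt _ _)

end P1

section Gamma

variable [HasExt.{w} C] {S : ShortComplex C} (hS : S.ShortExact) {T N : C} (η : Ext.{w} S.X₂ T 2)
  (g : T ⟶ N) (ξ : Ext.{w} S.X₃ N 2) (h1 : (Ext.mk₀ S.f).comp η (zero_add 2) = 0)
  (h2 : η.comp (Ext.mk₀ g) (add_zero 2) = (Ext.mk₀ S.g).comp ξ (zero_add 2))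
  (h3 : ∀ x : Ext.{w} S.X₁ N 1, x = 0)

include hS h1 h2 h3 in
theorem exists_gamma : ∃ γ : Ext.{w} S.X₃ T 2, γ.comp (Ext.mk₀ g) (add_zero 2) = ξ := by
  obtain ⟨γ, hγ⟩ := Ext.contravariant_sequence_exact₂ hS T η h1
  refine ⟨γ, ?_⟩
  have h4 : (Ext.mk₀ S.g).comp (γ.comp (Ext.mk₀ g) (add_zero 2) - ξ) (zero_add 2) = 0 := by
    rw [sub_eq_add_neg, Ext.comp_add, Ext.comp_neg, ← h2, ← hγ,
      Ext.comp_assoc_of_third_deg_zero]
    exact add_neg_cancel _
  obtain ⟨y, hy⟩ := Ext.contravariant_sequence_exact₃ hS N _ h4 (show 1 + 1 = 2 from rfl)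
  rw [h3 y, Ext.comp_zero] at hy
  exact sub_eq_zero.1 hy.symm

end Gamma

end K338.GysGlue
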