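import Groth.Agent.EtDual.K338.GysTower

/-!
# The decomposition of `Ext^*(L Z, L T)` for the tower of Gysin classes
-/

set_option autoImplicit false
set_option linter.unusedSectionVars false
set_option synthInstance.maxHeartbeats 20000

universe w v v' v'' u u' u''

open CategoryTheory CategoryTheory.Limits CategoryTheory.Abelian

namespace K338.GysMain

open K338.GysAbs K338.GysTower

variable {A : Type u} [Category.{v} A] [Abelian A] [HasExt.{w} A] {B : Type u'} [Category.{v'} B]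
  [Abelian B] [HasExt.{w} B] (L : A ⥤ B) [L.Additive] [PreservesFiniteLimits L]
  [PreservesFiniteColimits L] (N : ℕ → A)

theorem map0 {Z M : A} (i : ℕ) : (0 : Ext.{w} Z M i).mapExactFunctor L = 0 :=
  map_zero (L.mapExtAddHom Z M i)

section Base

variable {D : Type u''} [Category.{v''} D] [Abelian D] [HasExt.{w} D] [EnoughInjectives D]
  {Q : B ⥤ D} {G : D ⥤ B} (adj : Q ⊣ G) [Q.Additive] [PreservesFiniteLimits Q]
  [PreservesFiniteColimits Q] [G.Additive] [PreservesFiniteLimits G]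
  (hu : ∀ l, IsIso (adj.unit.app (L.obj (N l))))
  (θ : ∀ l, L.obj (N l) ≅ P1 Q G (L.obj (N (l + 1))))

/-- The Gysin classes of the tower. -/
noncomputable def xi (l : ℕ) : Ext.{w} (L.obj (N l)) (L.obj (N (l + 1))) 2 :=
  haveI := hu (l + 1)
  (Ext.mk₀ (θ l).hom).comp (eta adj (L.obj (N (l + 1)))) (zero_add 2)

theorem map_comp_xi {Z : B} {i j : ℕ} (l : ℕ) (h : i + 2 = j) (y : Ext.{w} Z (L.obj (N l)) i) :
    (y.comp (xi L N adj hu θ l) h).mapExactFunctor Q = 0 := by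
  subst h
  have := hu (l + 1)
  unfold xi
  rw [← Ext.comp_assoc_of_second_deg_zero]
  exact map_comp_eta adj _

theorem exists_comp_xi (hv : ∀ l q, 2 ≤ q → IsZero ((G.rightDerived q).obj (Q.obj (L.obj (N l)))))
    {Z : B} {i j : ℕ} (l : ℕ) (h : i + 2 = j) (x : Ext.{w} Z (L.obj (N (l + 1))) j)
    (hx : x.mapExactFunctor Q = 0) :
    ∃ y : Ext.{w} Z (L.obj (N l)) i, y.comp (xi L N adj hu θ l) h = x := by
  subst h
  have := hu (l + 1)
  obtain ⟨y, hy⟩ := exists_of_map_eq_zero adj (hv (l + 1)) x hx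
  refine ⟨y.comp (Ext.mk₀ (θ l).inv) (add_zero i), ?_⟩
  unfold xi
  rw [← Ext.comp_assoc_of_second_deg_zero, Ext.comp_assoc_of_third_deg_zero, Ext.mk₀_comp_mk₀,
    Iso.inv_hom_id, Ext.comp_mk₀_id]
  exact hy

theorem eq_zero_of_comp_xi
    (hv : ∀ l q, 2 ≤ q → IsZero ((G.rightDerived q).obj (Q.obj (L.obj (N l)))))
    {Z : B} {i j : ℕ} (l : ℕ) (h : i + 2 = j) (y : Ext.{w} Z (L.obj (N l)) i)
    (hs : Function.Surjective (fun x : Ext.{w} Z (L.obj (N (l + 1))) (i + 1) =>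
      x.mapExactFunctor Q))
    (hy : y.comp (xi L N adj hu θ l) h = 0) : y = 0 := by
  subst h
  have := hu (l + 1)
  unfold xi at hy
  rw [← Ext.comp_assoc_of_second_deg_zero] at hy
  have h1 := eq_zero_of_comp_eta adj (hv (l + 1)) _ hs hy
  have h2 := congrArg (fun z => z.comp (Ext.mk₀ (θ l).inv) (add_zero i)) h1
  simpa using h2

/-- The base case. -/
theorem Psi_bijective_zero
    (hv : ∀ l q, 2 ≤ q → IsZero ((G.rightDerived q).obj (Q.obj (L.obj (N l)))))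
    (e₀ : ℕ) (hQL : ∀ (Z : A) (l i : ℕ), i ≤ 2 * e₀ →
      Function.Bijective (fun x : Ext.{w} Z (N l) i => (x.mapExactFunctor L).mapExactFunctor Q))
    (e : ℕ) : e ≤ e₀ → ∀ Z, Function.Bijective (Psi L N (xi L N adj hu θ) e Z 0) := by
  induction e with
  | zero =>
    intro _ Z
    have h0 := hu 0
    have h1 := hQL Z 0 (0 + 2 * 0) (by omega)
    have h2 : Function.Bijective
        (fun x : Ext.{w} (L.obj Z) (L.obj (N 0)) (0 + 2 * 0) => x.mapExactFunctor Q) :=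
      map_bijective_le adj (L.obj Z) (L.obj (N 0)) (0 + 2 * 0) (fun q h1 h2 => by omega)
    constructor
    · rintro ⟨⟨⟩, x⟩ ⟨⟨⟩, y⟩ hxy
      have h3 : x = y := h1.1 (congrArg (fun z => Ext.mapExactFunctor Q z) hxy)
      rw [h3]
    · intro y
      obtain ⟨x, hx⟩ := h1.2 (y.mapExactFunctor Q)
      exact ⟨(PUnit.unit, x), h2.1 hx⟩
  | succ e ih =>
    intro he Z
    have ih' := ih (by omega) Z
    constructor
    · rw [injective_iff_map_eq_zero]
      intro x hdy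
      obtain ⟨d, y, rfl⟩ := exists_mkD N (e + 1) x
      rw [Psi_succ] at hdy
      have h3 := congrArg (fun z => Ext.mapExactFunctor Q z) hdy
      simp only [Ext.mapExactFunctor_add, Ext.mapExactFunctor_zero] at h3
      rw [map_comp_xi] at h3
      replace h3 := (zero_add (Ext.mapExactFunctor Q (Ext.mapExactFunctor L y))).symm.trans h3
      have h4 : y = 0 := (hQL Z (e + 1) (0 + 2 * (e + 1)) (by omega)).1 (h3.trans (by simp))
      subst h4
      rw [map0, add_zero] at hdy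
      have h6 := eq_zero_of_comp_xi L N adj hu θ hv e _ _ (fun z => by
        obtain ⟨x, hx⟩ := (hQL Z (e + 1) (0 + 2 * e + 1) (by omega)).2 z
        exact ⟨_, hx⟩) hdy
      have h7 : d = 0 := ih'.1 (h6.trans (map_zero _).symm)
      rw [h7]
      rfl
    · intro x
      obtain ⟨y, hy⟩ := (hQL Z (e + 1) (0 + 2 * (e + 1)) (by omega)).2 (x.mapExactFunctor Q)
      have h1 : (x - y.mapExactFunctor L).mapExactFunctor Q = 0 := by
        have h2 := map_sub (Q.mapExtAddHom (L.obj Z) (L.obj (N (e + 1))) (0 + 2 * (e + 1))) x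
          (y.mapExactFunctor L)
        refine h2.trans ?_
        change x.mapExactFunctor Q - (y.mapExactFunctor L).mapExactFunctor Q = 0
        rw [← hy]
        exact sub_self _
      obtain ⟨w, hw⟩ := exists_comp_xi L N adj hu θ hv (i := 0 + 2 * e) e (by omega) _ h1
      obtain ⟨d, rfl⟩ := ih'.2 w
      refine ⟨mkD N (e + 1) d y, ?_⟩
      rw [Psi_succ, hw]
      abel

end Base

section All

variable {L} {R : B ⥤ A} (adjL : L ⊣ R) [R.Additive] [PreservesFiniteLimits R] [EnoughInjectives B]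
  (ξ : ∀ l, Ext.{w} (L.obj (N l)) (L.obj (N (l + 1))) 2)

include adjL in
theorem Psi_bijective (e₀ : ℕ) (h0 : ∀ Z, Function.Bijective (Psi L N ξ e₀ Z 0))
    (hR : ∀ q, 2 * e₀ < q → IsZero ((R.rightDerived q).obj (L.obj (N e₀)))) (s : ℕ) (Z : A) :
    Function.Bijective (Psi L N ξ e₀ Z s) :=
  bijective_succ (DDF N (e₀ + 1)) (DF.ext L (L.obj (N e₀)) (2 * e₀)) (Psi L N ξ e₀)
    (fun f s x => Psi_pre L N ξ e₀ f s x) (fun hS s x => Psi_del L N ξ e₀ hS s x)
    (fun Z s x => effaceable_DDF N (e₀ + 1) Z s x)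
    (fun Z s x => effaceable' adjL (s + 1 + 2 * e₀) (by omega) _ (hR _ (by omega)) Z x)
    h0 s Z

end All

section Final

variable (ξ : ∀ l, Ext.{w} (L.obj (N l)) (L.obj (N (l + 1))) 2) (e₀ : ℕ) (Z : A)

theorem Psi_add (s : ℕ) (d : (DDF N e₀).H Z s) (y : Ext.{w} Z (N e₀) (s + 2 * e₀)) :
    Psi L N ξ e₀ Z s (mkD N e₀ d y) =
      Psi L N ξ e₀ Z s (mkD N e₀ d 0) + y.mapExactFunctor L := by
  cases e₀ with
  | zero =>
    change y.mapExactFunctor L = (0 : Ext.{w} Z (N 0) (s + 2 * 0)).mapExactFunctor L + _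
    rw [map0, zero_add]
  | succ e =>
    rw [Psi_succ, Psi_succ, map0, add_zero]

variable {T K : A} (ι : K ⟶ T) (f : T ⟶ N e₀) (w : ι ≫ f = 0) (hS : (ShortComplex.mk ι f w).ShortExact)
  (hK : ∀ q, Function.Bijective (fun x : Ext.{w} Z K q => x.mapExactFunctor L))
  (hΨ : ∀ s, Function.Bijective (Psi L N ξ e₀ Z s))
  (σ : ∀ s, (DDF N e₀).H Z s →+ Ext.{w} (L.obj Z) (L.obj T) (s + 2 * e₀))
  (hσ : ∀ s d, (σ s d).comp (Ext.mk₀ (L.map f)) (add_zero _) =
    Psi L N ξ e₀ Z s (mkD N e₀ d 0))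

include hS hK hΨ hσ in
theorem final_surjective (s : ℕ) (x : Ext.{w} (L.obj Z) (L.obj T) (s + 2 * e₀)) :
    ∃ (d : (DDF N e₀).H Z s) (a : Ext.{w} Z T (s + 2 * e₀)), σ s d + a.mapExactFunctor L = x := by
  obtain ⟨x', h1⟩ := (hΨ s).2 (x.comp (Ext.mk₀ (L.map f)) (add_zero _))
  obtain ⟨d, y, rfl⟩ := exists_mkD N e₀ x'
  have h2 := Psi_add L N ξ e₀ Z s d y
  have h3 : (x - σ s d).comp (Ext.mk₀ (L.map f)) (add_zero _) = y.mapExactFunctor L := by
    rw [sub_eq_add_neg, Ext.add_comp, Ext.neg_comp, hσ, ← h1, h2]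
    abel
  have h4 : (y.comp hS.extClass rfl).mapExactFunctor L = 0 := by
    have h5 : (ShortComplex.mk ι f w).map L = ShortComplex.mk (L.map ι) (L.map f)
      (by rw [← L.map_comp, w, L.map_zero]) := rfl
    rw [Ext.mapExactFunctor_comp, Ext.mapExactFunctor_extClass, ← h3]
    refine (Ext.comp_assoc_of_second_deg_zero _ _ _ _).trans ?_
    have h6 : (Ext.mk₀ (L.map f)).comp (hS.map_of_exact L).extClass (zero_add 1) = 0 :=
      (hS.map_of_exact L).comp_extClass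
    exact (congrArg (fun z => (x - σ s d).comp z _) h6).trans (Ext.comp_zero _ _ _ _ _)
  have h7 : y.comp hS.extClass rfl = 0 := (hK _).1 (h4.trans (map0 L _).symm)
  obtain ⟨a, ha⟩ := Ext.covariant_sequence_exact₃ Z hS y rfl h7
  have h8 : (x - σ s d - a.mapExactFunctor L).comp (Ext.mk₀ (L.map f)) (add_zero _) = 0 := by
    have h9 : a.comp (Ext.mk₀ f) (add_zero _) = y := ha
    rw [sub_eq_add_neg, Ext.add_comp, Ext.neg_comp, h3, ← h9, Ext.mapExactFunctor_comp,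
      Ext.mapExactFunctor_mk₀]
    exact add_neg_cancel _
  obtain ⟨g, hg⟩ := Ext.covariant_sequence_exact₂ (L.obj Z) (hS.map_of_exact L) _ h8
  obtain ⟨g, rfl⟩ := (hK _).2 g
  refine ⟨d, a + g.comp (Ext.mk₀ ι) (add_zero _), ?_⟩
  have h10 : (g.comp (Ext.mk₀ ι) (add_zero _)).mapExactFunctor L = x - σ s d - a.mapExactFunctor L := by
    rw [Ext.mapExactFunctor_comp, Ext.mapExactFunctor_mk₀]
    exact hg
  rw [Ext.mapExactFunctor_add, h10]
  abel

include hS hK hΨ hσ in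
theorem final_injective (s : ℕ) (d : (DDF N e₀).H Z (s + 1)) (a : Ext.{w} Z T (s + 1 + 2 * e₀))
    (h : σ (s + 1) d + a.mapExactFunctor L = 0) : d = 0 ∧ a = 0 := by
  have h1 := congrArg (fun z => z.comp (Ext.mk₀ (L.map f)) (add_zero _)) h
  simp only [Ext.add_comp, Ext.zero_comp] at h1
  rw [hσ, ← Ext.mapExactFunctor_mk₀, ← Ext.mapExactFunctor_comp, ← Psi_add] at h1
  have h2 := (hΨ (s + 1)).1 (h1.trans (map_zero _).symm)
  rw [← mkD_zero] at h2
  obtain ⟨h3, h4⟩ := mkD_inj N e₀ h2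
  refine ⟨h3, ?_⟩
  rw [h3, map_zero, zero_add] at h
  obtain ⟨g, hg⟩ := Ext.covariant_sequence_exact₂ Z hS a h4
  have hg' : g.comp (Ext.mk₀ ι) (add_zero _) = a := hg
  have h5 : (g.mapExactFunctor L).comp (Ext.mk₀ (L.map ι)) (add_zero _) = 0 := by
    rw [← Ext.mapExactFunctor_mk₀, ← Ext.mapExactFunctor_comp, hg', h]
  obtain ⟨m, hm⟩ := Ext.covariant_sequence_exact₁ (L.obj Z) (hS.map_of_exact L)
    (g.mapExactFunctor L) h5 (n₀ := s + 2 * e₀) (by omega)
  obtain ⟨x', hd⟩ := (hΨ s).2 m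
  obtain ⟨d', y', rfl⟩ := exists_mkD N e₀ x'
  have h6 := Psi_add L N ξ e₀ Z s d' y'
  have h7 : (Psi L N ξ e₀ Z s (mkD N e₀ d' 0)).comp
      (hS.map_of_exact L).extClass (show s + 2 * e₀ + 1 = s + 1 + 2 * e₀ by omega) = 0 := by
    rw [← hσ]
    refine (Ext.comp_assoc_of_second_deg_zero _ _ _ _).trans ?_
    have h6 : (Ext.mk₀ (L.map f)).comp (hS.map_of_exact L).extClass (zero_add 1) = 0 :=
      (hS.map_of_exact L).comp_extClass
    exact (congrArg (fun z => (σ s d').comp z _) h6).trans (Ext.comp_zero _ _ _ _ _)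
  have h8 : g.mapExactFunctor L = (y'.comp hS.extClass
      (show s + 2 * e₀ + 1 = s + 1 + 2 * e₀ by omega)).mapExactFunctor L := by
    rw [Ext.mapExactFunctor_comp, Ext.mapExactFunctor_extClass, ← hm, ← hd]
    refine (congrArg (fun z => Ext.comp z (hS.map_of_exact L).extClass
      (show s + 2 * e₀ + 1 = s + 1 + 2 * e₀ by omega)) h6).trans ?_
    refine (Ext.add_comp _ _ _ _).trans ?_
    exact (congrArg (fun z => z + (y'.mapExactFunctor L).comp (hS.map_of_exact L).extClass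
      (show s + 2 * e₀ + 1 = s + 1 + 2 * e₀ by omega)) h7).trans (zero_add _)
  have h9 := (hK _).1 h8
  rw [← hg', h9, Ext.comp_assoc_of_third_deg_zero]
  have h10 : hS.extClass.comp (Ext.mk₀ ι) (add_zero 1) = 0 := hS.extClass_comp
  rw [h10, Ext.comp_zero]

include hS hK hΨ hσ in
theorem final_equiv (s : ℕ) : Nonempty ((DDF N e₀).H Z (s + 1) × Ext.{w} Z T (s + 1 + 2 * e₀) ≃+
    Ext.{w} (L.obj Z) (L.obj T) (s + 1 + 2 * e₀)) := by
  refine ⟨AddEquiv.ofBijective ((σ (s + 1)).coprod (L.mapExtAddHom Z T (s + 1 + 2 * e₀))) ⟨?_, ?_⟩⟩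
  · rw [injective_iff_map_eq_zero]
    rintro ⟨d, a⟩ h
    obtain ⟨h1, h2⟩ := final_injective L N ξ e₀ Z ι f w hS hK hΨ σ hσ s d a h
    rw [h1, h2]
    rfl
  · intro x
    obtain ⟨d, a, h⟩ := final_surjective L N ξ e₀ Z ι f w hS hK hΨ σ hσ (s + 1) x
    exact ⟨(d, a), h⟩

end Final

section Gamma

variable (ξ : ∀ l, Ext.{w} (L.obj (N l)) (L.obj (N (l + 1))) 2) (e₀ : ℕ) (Z : A)
  {T K : A} (ι : K ⟶ T) (f : T ⟶ N e₀) (w : ι ≫ f = 0) (hS : (ShortComplex.mk ι f w).ShortExact)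
  (hK : ∀ q, Function.Bijective (fun x : Ext.{w} Z K q => x.mapExactFunctor L))
  (hΨ : ∀ s, Function.Bijective (Psi L N ξ e₀ Z s))

include hS hK hΨ in
/-- **The decomposition.** -/
theorem decomposition (hγ : ∀ e, e + 1 = e₀ → ∃ (γ : Ext.{w} (L.obj (N e)) (L.obj T) 2)
      (f' : T ⟶ N (e + 1)), HEq f' f ∧ γ.comp (Ext.mk₀ (L.map f')) (add_zero 2) = ξ e) (s : ℕ) :
    Nonempty ((DDF N e₀).H Z (s + 1) × Ext.{w} Z T (s + 1 + 2 * e₀) ≃+
      Ext.{w} (L.obj Z) (L.obj T) (s + 1 + 2 * e₀)) := by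
  cases e₀ with
  | zero =>
    refine final_equiv L N ξ 0 Z ι f w hS hK hΨ (fun s => 0) ?_ s
    intro s d
    change (0 : Ext.{w} (L.obj Z) (L.obj T) (s + 2 * 0)).comp _ _ =
      (0 : Ext.{w} Z (N 0) (s + 2 * 0)).mapExactFunctor L
    rw [Ext.zero_comp, map0]
  | succ e =>
    obtain ⟨γ, f', h1, h2⟩ := hγ e rfl
    obtain rfl := eq_of_heq h1
    refine final_equiv L N ξ (e + 1) Z ι f' w hS hK hΨ (fun s =>
      (γ.postcomp (L.obj Z) (show s + 2 * e + 2 = s + 2 * (e + 1) by omega)).comp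
        (Psi L N ξ e Z s)) ?_ s
    intro s d
    change ((Psi L N ξ e Z s d).comp γ (show s + 2 * e + 2 = s + 2 * (e + 1) by omega)).comp
      (Ext.mk₀ (L.map f')) (add_zero _) = _
    refine (Ext.comp_assoc_of_third_deg_zero _ _ _ _).trans ?_
    rw [h2, Psi_succ, map0, add_zero]

end Gamma

end K338.GysMain
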