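import Groth.Agent.EtDual.K338.GysAbs
import Groth.Agent.S1033

/-!
# Iterating the Gysin class

`L : A ⥤ B` exact, `N l` objects of `A`, classes `ξ l ∈ Ext^2(L (N l), L (N (l+1)))`: the maps
`∏_{l ≤ e} Ext^{s+2l}(Z, N l) ⟶ Ext^{s+2e}(L Z, L (N e))`, `y ↦ ∑ L(y_l) ξ_l ⋯ ξ_{e-1}`.
-/

set_option autoImplicit false
set_option linter.unusedSectionVars false

universe w v v' v'' u u' u''

open CategoryTheory CategoryTheory.Limits CategoryTheory.Abelian

namespace K338.GysTower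

set_option synthInstance.maxHeartbeats 20000

section DF

/-- A contravariant cohomological functor. -/
structure DF (A : Type u) [Category.{v} A] [Abelian A] where
  H : A → ℕ → Type w
  inst : ∀ Z s, AddCommGroup (H Z s)
  pre : ∀ {Z' Z : A} (_ : Z' ⟶ Z) (s : ℕ), H Z s →+ H Z' s
  pre_comp : ∀ {Z'' Z' Z : A} (f : Z'' ⟶ Z') (g : Z' ⟶ Z) (s : ℕ) (x : H Z s),
    pre (f ≫ g) s x = pre f s (pre g s x)
  del : ∀ {S : ShortComplex A} (_ : S.ShortExact) (s : ℕ), H S.X₁ s →+ H S.X₃ (s + 1)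
  del_pre : ∀ {S : ShortComplex A} (hS : S.ShortExact) (s : ℕ) (z : H S.X₂ s),
    del hS s (pre S.f s z) = 0
  ex₁ : ∀ {S : ShortComplex A} (hS : S.ShortExact) (s : ℕ) (k : H S.X₁ s), del hS s k = 0 →
    ∃ z : H S.X₂ s, pre S.f s z = k
  ex₃ : ∀ {S : ShortComplex A} (hS : S.ShortExact) (s : ℕ) (x : H S.X₃ (s + 1)),
    pre S.g (s + 1) x = 0 → ∃ k : H S.X₁ s, del hS s k = x

attribute [instance] DF.inst

variable {A : Type u} [Category.{v} A] [Abelian A]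

/-- The zero functor. -/
def DF.zero : DF.{w} A where
  H _ _ := PUnit
  inst _ _ := inferInstance
  pre _ _ := 0
  pre_comp _ _ _ _ := rfl
  del _ _ := 0
  del_pre _ _ _ := rfl
  ex₁ _ _ _ _ := ⟨0, rfl⟩
  ex₃ _ _ _ _ := ⟨0, rfl⟩

/-- Products. -/
def DF.prod (H₁ H₂ : DF.{w} A) : DF.{w} A where
  H Z s := H₁.H Z s × H₂.H Z s
  inst _ _ := inferInstance
  pre f s := (H₁.pre f s).prodMap (H₂.pre f s)
  pre_comp f g s x := Prod.ext (H₁.pre_comp f g s x.1) (H₂.pre_comp f g s x.2)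
  del hS s := (H₁.del hS s).prodMap (H₂.del hS s)
  del_pre hS s z := Prod.ext (H₁.del_pre hS s z.1) (H₂.del_pre hS s z.2)
  ex₁ hS s k hk := by
    obtain ⟨z₁, h₁⟩ := H₁.ex₁ hS s k.1 (congrArg Prod.fst hk)
    obtain ⟨z₂, h₂⟩ := H₂.ex₁ hS s k.2 (congrArg Prod.snd hk)
    exact ⟨(z₁, z₂), Prod.ext h₁ h₂⟩
  ex₃ hS s k hk := by
    obtain ⟨z₁, h₁⟩ := H₁.ex₃ hS s k.1 (congrArg Prod.fst hk)
    obtain ⟨z₂, h₂⟩ := H₂.ex₃ hS s k.2 (congrArg Prod.snd hk)
    exact ⟨(z₁, z₂), Prod.ext h₁ h₂⟩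

variable {B : Type u'} [Category.{v'} B] [Abelian B] [HasExt.{w} B]

/-- `Z ↦ Ext^{s+m}(L Z, M)`. -/
noncomputable def DF.ext (L : A ⥤ B) [L.Additive] [PreservesFiniteLimits L]
    [PreservesFiniteColimits L] (M : B) (m : ℕ) : DF.{w} A where
  H Z s := Ext.{w} (L.obj Z) M (s + m)
  inst _ _ := inferInstance
  pre f s := (Ext.mk₀ (L.map f)).precomp M (zero_add _)
  pre_comp f g s x := by
    change (Ext.mk₀ (L.map (f ≫ g))).comp x (zero_add _) =
      (Ext.mk₀ (L.map f)).comp ((Ext.mk₀ (L.map g)).comp x (zero_add _)) (zero_add _)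
    rw [Ext.mk₀_comp_mk₀_assoc, L.map_comp]
  del {S} hS s := (show Ext.{w} (L.obj S.X₃) (L.obj S.X₁) 1 from
    (hS.map_of_exact L).extClass).precomp M (by omega)
  del_pre {S} hS s z := by
    have h1 : (hS.map_of_exact L).extClass.comp (Ext.mk₀ (L.map S.f)) (add_zero 1) = 0 :=
      (hS.map_of_exact L).extClass_comp
    have h2 := Ext.comp_assoc_of_second_deg_zero (hS.map_of_exact L).extClass
      (Ext.mk₀ (L.map S.f)) z (show 1 + (s + m) = s + 1 + m by omega)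
    refine h2.symm.trans ?_
    rw [h1, Ext.zero_comp]
    rfl
  ex₁ {S} hS s k hk := Ext.contravariant_sequence_exact₁ (hS.map_of_exact L) M k
    (show 1 + (s + m) = s + 1 + m by omega) hk
  ex₃ {S} hS s x hx := Ext.contravariant_sequence_exact₃ (hS.map_of_exact L) M x hx
    (show 1 + (s + m) = s + 1 + m by omega)

/-- `Z ↦ Ext^{s+m}(Z, M)`. -/
noncomputable def DF.ext' (M : B) (m : ℕ) : DF.{w} B where
  H Z s := Ext.{w} Z M (s + m)
  inst _ _ := inferInstance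
  pre f s := (Ext.mk₀ f).precomp M (zero_add _)
  pre_comp f g s x := by
    change (Ext.mk₀ (f ≫ g)).comp x (zero_add _) =
      (Ext.mk₀ f).comp ((Ext.mk₀ g).comp x (zero_add _)) (zero_add _)
    rw [Ext.mk₀_comp_mk₀_assoc]
  del {S} hS s := (show Ext.{w} S.X₃ S.X₁ 1 from hS.extClass).precomp M (by omega)
  del_pre {S} hS s z := by
    have h1 : hS.extClass.comp (Ext.mk₀ S.f) (add_zero 1) = 0 := hS.extClass_comp
    have h2 := Ext.comp_assoc_of_second_deg_zero hS.extClass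
      (Ext.mk₀ S.f) z (show 1 + (s + m) = s + 1 + m by omega)
    refine h2.symm.trans ?_
    rw [h1, Ext.zero_comp]
  ex₁ {S} hS s k hk := Ext.contravariant_sequence_exact₁ hS M k
    (show 1 + (s + m) = s + 1 + m by omega) hk
  ex₃ {S} hS s x hx := Ext.contravariant_sequence_exact₃ hS M x hx
    (show 1 + (s + m) = s + 1 + m by omega)

/-- **Dimension shifting.** -/
theorem bijective_succ (H₁ H₂ : DF.{w} A) (φ : ∀ Z s, H₁.H Z s →+ H₂.H Z s)
    (hpre : ∀ {Z' Z : A} (f : Z' ⟶ Z) (s : ℕ) (x : H₁.H Z s), φ Z' s (H₁.pre f s x) =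
      H₂.pre f s (φ Z s x))
    (hdel : ∀ {S : ShortComplex A} (hS : S.ShortExact) (s : ℕ) (x : H₁.H S.X₁ s),
      φ S.X₃ (s + 1) (H₁.del hS s x) = H₂.del hS s (φ S.X₁ s x))
    (he₁ : ∀ (Z : A) (s : ℕ) (x : H₁.H Z (s + 1)), ∃ (Z' : A) (p : Z' ⟶ Z), Epi p ∧
      H₁.pre p (s + 1) x = 0)
    (he₂ : ∀ (Z : A) (s : ℕ) (x : H₂.H Z (s + 1)), ∃ (Z' : A) (p : Z' ⟶ Z), Epi p ∧
      H₂.pre p (s + 1) x = 0)
    (h0 : ∀ Z, Function.Bijective (φ Z 0)) (s : ℕ) :
    ∀ Z, Function.Bijective (φ Z s) := by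
  induction s with
  | zero => exact h0
  | succ s ih =>
    intro Z
    have hk : ∀ (Z' : A) (p : Z' ⟶ Z), Epi p →
        (ShortComplex.mk (kernel.ι p) p (kernel.condition p)).ShortExact := fun Z' p hp =>
      { exact := ShortComplex.exact_kernel _
        mono_f := inferInstanceAs (Mono (kernel.ι p))
        epi_g := hp }
    constructor
    · rw [injective_iff_map_eq_zero]
      intro x hx
      obtain ⟨Z', p, hp, hpx⟩ := he₁ Z s x
      have hS := hk Z' p hp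
      obtain ⟨k, hk'⟩ := H₁.ex₃ hS s x hpx
      have h1 : H₂.del hS s (φ _ s k) = 0 := by
        rw [← hdel hS s k, hk']
        exact hx
      obtain ⟨z, hz⟩ := H₂.ex₁ hS s _ h1
      obtain ⟨w, hw⟩ := (ih Z').2 z
      have h2 : H₁.pre (kernel.ι p) s w = k := by
        apply (ih _).1
        rw [hpre, hw]
        exact hz
      rw [← hk', ← h2]
      exact H₁.del_pre hS s w
    · intro y
      obtain ⟨Z', p, hp, hpy⟩ := he₂ Z s y
      have hS := hk Z' p hp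
      obtain ⟨k', hk'⟩ := H₂.ex₃ hS s y hpy
      obtain ⟨k, hk⟩ := (ih _).2 k'
      exact ⟨H₁.del hS s k, by
        have := hdel hS s k
        rw [hk, hk'] at this
        exact this⟩

end DF

section Eff

variable {A : Type u} [Category.{v} A] [Abelian A] {B : Type u'} [Category.{v'} B] [Abelian B]
  [HasExt.{w} B] [EnoughInjectives B] {L : A ⥤ B} {R : B ⥤ A} (adj : L ⊣ R)
  [L.Additive] [PreservesFiniteLimits L] [PreservesFiniteColimits L] [R.Additive]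
  [PreservesFiniteLimits R]

open K766.TwoRow Groth.Agent.EtpbcB

include adj in
/-- Effaceability of `Ext^q(L -, M)` when `R^q R M = 0`. -/
theorem effaceable (q : ℕ) : ∀ (M : B), IsZero ((R.rightDerived (q + 1)).obj M) →
    ∀ (Z : A) (x : Ext.{w} (L.obj Z) M (q + 1)), ∃ (Z' : A) (p : Z' ⟶ Z), Epi p ∧
      (Ext.mk₀ (L.map p)).comp x (zero_add (q + 1)) = 0 := by
  induction q with
  | zero =>
    intro M hM Z x
    obtain ⟨S, hS, hJ, rfl⟩ := exists_ses M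
    obtain ⟨y, hy⟩ := Ext.covariant_sequence_exact₁ (L.obj Z) hS x
      (Ext.eq_zero_of_injective _) (n₀ := 0) rfl
    obtain ⟨y, rfl⟩ := (Ext.mk₀_bijective _ _).2 y
    have hepi : Epi (R.map S.g) := RDerLES.epi_map_g R hS hM
    let t : Z ⟶ R.obj S.X₃ := adj.homEquiv _ _ y
    have hep : Epi (pullback.fst t (R.map S.g)) := inferInstance
    refine ⟨pullback t (R.map S.g), pullback.fst _ _, hep, ?_⟩
    have h1 : L.map (pullback.fst t (R.map S.g)) ≫ y =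
        (adj.homEquiv _ _).symm (pullback.snd t (R.map S.g)) ≫ S.g := by
      apply (adj.homEquiv _ _).injective
      rw [adj.homEquiv_naturality_left, adj.homEquiv_naturality_right, Equiv.apply_symm_apply]
      exact pullback.condition
    rw [← hy, ← Ext.comp_assoc_of_second_deg_zero, Ext.mk₀_comp_mk₀, h1, ← Ext.mk₀_comp_mk₀,
      Ext.comp_assoc_of_second_deg_zero]
    have h2 : (Ext.mk₀ S.g).comp hS.extClass (zero_add 1) = 0 := hS.comp_extClass
    rw [h2, Ext.comp_zero]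
  | succ q ih =>
    intro M hM Z x
    obtain ⟨S, hS, hJ, rfl⟩ := exists_ses M
    obtain ⟨y, hy⟩ := Ext.covariant_sequence_exact₁ (L.obj Z) hS x
      (Ext.eq_zero_of_injective _) (n₀ := q + 1) rfl
    have h1 : IsZero ((R.rightDerived (q + 1)).obj S.X₃) :=
      RDerLES.isZero_right R hS (q + 1) (R.isZero_rightDerived_obj_injective_succ q S.X₂) hM
    obtain ⟨Z', p, hp, hpy⟩ := ih S.X₃ h1 Z y
    refine ⟨Z', p, hp, ?_⟩
    rw [← hy, ← Ext.comp_assoc (Ext.mk₀ (L.map p)) y hS.extClass (zero_add (q + 1)) rfl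
      (by omega), hpy, Ext.zero_comp]

include adj in
/-- Effaceability, with a free degree. -/
theorem effaceable' (n : ℕ) (hn : 1 ≤ n) (M : B) (hM : IsZero ((R.rightDerived n).obj M))
    (Z : A) (x : Ext.{w} (L.obj Z) M n) : ∃ (Z' : A) (p : Z' ⟶ Z), Epi p ∧
      (Ext.mk₀ (L.map p)).comp x (zero_add n) = 0 := by
  obtain ⟨q, rfl⟩ : ∃ q, n = q + 1 := ⟨n - 1, by omega⟩
  exact effaceable adj q M hM Z x

end Eff

section DDF

variable {A : Type u} [Category.{v} A] [Abelian A] [HasExt.{w} A] (N : ℕ → A)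

/-- `∏_{l < e} Ext^{s+2l}(Z, N l)`. -/
noncomputable def DDF : ℕ → DF.{w} A
  | 0 => DF.zero
  | e + 1 => (DDF e).prod (DF.ext' (N e) (2 * e))

/-- Elements of the product. -/
def mkD (e : ℕ) {Z : A} {s : ℕ} (d : (DDF N e).H Z s) (y : Ext.{w} Z (N e) (s + 2 * e)) :
    (DDF N (e + 1)).H Z s := (d, y)

theorem exists_mkD (e : ℕ) {Z : A} {s : ℕ} (x : (DDF N (e + 1)).H Z s) :
    ∃ (d : (DDF N e).H Z s) (y : Ext.{w} Z (N e) (s + 2 * e)), mkD N e d y = x :=
  ⟨x.1, x.2, rfl⟩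

theorem mkD_zero (e : ℕ) (Z : A) (s : ℕ) :
    mkD N e (0 : (DDF N e).H Z s) (0 : Ext.{w} Z (N e) (s + 2 * e)) = 0 := rfl

theorem mkD_inj (e : ℕ) {Z : A} {s : ℕ} {d d' : (DDF N e).H Z s} {y y' : Ext.{w} Z (N e) (s + 2 * e)}
    (h : mkD N e d y = mkD N e d' y') : d = d' ∧ y = y' :=
  ⟨congrArg Prod.fst h, congrArg Prod.snd h⟩

theorem effaceable_ext' (M : A) (n : ℕ) (hn : 1 ≤ n) (Z : A) (x : Ext.{w} Z M n) :
    ∃ (Z' : A) (p : Z' ⟶ Z), Epi p ∧ (Ext.mk₀ p).comp x (zero_add n) = 0 := by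
  obtain ⟨q, rfl⟩ : ∃ q, n = q + 1 := ⟨n - 1, by omega⟩
  exact Groth.Agent.S1033.exists_epi_ext_comp_eq_zero x

theorem effaceable_DDF (e : ℕ) : ∀ (Z : A) (s : ℕ) (x : (DDF N e).H Z (s + 1)),
    ∃ (Z' : A) (p : Z' ⟶ Z), Epi p ∧ (DDF N e).pre p (s + 1) x = 0 := by
  induction e with
  | zero => exact fun Z s x => ⟨Z, 𝟙 Z, inferInstance, rfl⟩
  | succ e ih =>
    rintro Z s ⟨d, y⟩
    obtain ⟨Z₁, p₁, hp₁, h₁⟩ := ih Z s d
    obtain ⟨Z₂, p₂, hp₂, h₂⟩ := effaceable_ext' (N e) (s + 1 + 2 * e) (by omega) Z₁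
      ((DF.ext' (N e) (2 * e)).pre p₁ (s + 1) y)
    refine ⟨Z₂, p₂ ≫ p₁, epi_comp _ _, Prod.ext ?_ ?_⟩
    · refine ((DDF N e).pre_comp p₂ p₁ (s + 1) d).trans ?_
      rw [h₁, map_zero]
      rfl
    · refine ((DF.ext' (N e) (2 * e)).pre_comp p₂ p₁ (s + 1) y).trans ?_
      exact h₂

end DDF

section Tower

variable {A : Type u} [Category.{v} A] [Abelian A] [HasExt.{w} A] {B : Type u'} [Category.{v'} B]
  [Abelian B] [HasExt.{w} B] (L : A ⥤ B) [L.Additive] [PreservesFiniteLimits L]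
  [PreservesFiniteColimits L] (N : ℕ → A)

variable (ξ : ∀ l, Ext.{w} (L.obj (N l)) (L.obj (N (l + 1))) 2)

/-- The total map. -/
noncomputable def Psi : ∀ (e : ℕ) (Z : A) (s : ℕ), (DDF N (e + 1)).H Z s →+
    Ext.{w} (L.obj Z) (L.obj (N e)) (s + 2 * e)
  | 0, Z, s => (L.mapExtAddHom Z (N 0) (s + 2 * 0)).comp (AddMonoidHom.snd _ _)
  | e + 1, Z, s => (((ξ e).postcomp (L.obj Z) (show s + 2 * e + 2 = s + 2 * (e + 1) by omega)).comp
      (Psi e Z s)).coprod (L.mapExtAddHom Z (N (e + 1)) (s + 2 * (e + 1)))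

theorem Psi_zero (Z : A) (s : ℕ) (x : (DDF N 1).H Z s) :
    Psi L N ξ 0 Z s x = (show Ext.{w} Z (N 0) (s + 2 * 0) from x.2).mapExactFunctor L := rfl

theorem Psi_succ (e : ℕ) (Z : A) (s : ℕ) (d : (DDF N (e + 1)).H Z s)
    (y : Ext.{w} Z (N (e + 1)) (s + 2 * (e + 1))) :
    Psi L N ξ (e + 1) Z s (mkD N (e + 1) d y) =
      (Psi L N ξ e Z s d).comp (ξ e) (show s + 2 * e + 2 = s + 2 * (e + 1) by omega) +
        y.mapExactFunctor L := rfl

theorem Psi_pre (e : ℕ) {Z' Z : A} (f : Z' ⟶ Z) (s : ℕ) : ∀ x : (DDF N (e + 1)).H Z s,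
    Psi L N ξ e Z' s ((DDF N (e + 1)).pre f s x) =
      (Ext.mk₀ (L.map f)).comp (Psi L N ξ e Z s x) (zero_add _) := by
  induction e with
  | zero =>
    intro x
    change ((Ext.mk₀ f).comp (show Ext.{w} Z (N 0) (s + 2 * 0) from x.2)
      (zero_add _)).mapExactFunctor L = _
    rw [Ext.mapExactFunctor_comp, Ext.mapExactFunctor_mk₀]
    rfl
  | succ e ih =>
    rintro ⟨d, y⟩
    change (Psi L N ξ e Z' s ((DDF N (e + 1)).pre f s d)).comp (ξ e)
        (show s + 2 * e + 2 = s + 2 * (e + 1) by omega) +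
      ((Ext.mk₀ f).comp (show Ext.{w} Z (N (e + 1)) (s + 2 * (e + 1)) from y)
        (zero_add _)).mapExactFunctor L =
      (Ext.mk₀ (L.map f)).comp ((Psi L N ξ e Z s d).comp (ξ e)
        (show s + 2 * e + 2 = s + 2 * (e + 1) by omega) +
        (show Ext.{w} Z (N (e + 1)) (s + 2 * (e + 1)) from y).mapExactFunctor L) (zero_add _)
    rw [ih, Ext.mapExactFunctor_comp, Ext.mapExactFunctor_mk₀, Ext.comp_add]
    congr 1
    exact Ext.comp_assoc _ _ _ _ _ (by omega)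

theorem Psi_del (e : ℕ) {S : ShortComplex A} (hS : S.ShortExact) (s : ℕ) :
    ∀ x : (DDF N (e + 1)).H S.X₁ s,
    Psi L N ξ e S.X₃ (s + 1) ((DDF N (e + 1)).del hS s x) =
      (DF.ext L (L.obj (N e)) (2 * e)).del hS s (Psi L N ξ e S.X₁ s x) := by
  induction e with
  | zero =>
    intro x
    change (hS.extClass.comp (show Ext.{w} S.X₁ (N 0) (s + 2 * 0) from x.2)
      (show 1 + (s + 2 * 0) = s + 1 + 2 * 0 by omega)).mapExactFunctor L = _
    rw [Ext.mapExactFunctor_comp, Ext.mapExactFunctor_extClass]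
    rfl
  | succ e ih =>
    rintro ⟨d, y⟩
    change (Psi L N ξ e S.X₃ (s + 1) ((DDF N (e + 1)).del hS s d)).comp (ξ e)
        (show s + 1 + 2 * e + 2 = s + 1 + 2 * (e + 1) by omega) +
      (hS.extClass.comp (show Ext.{w} S.X₁ (N (e + 1)) (s + 2 * (e + 1)) from y)
        (show 1 + (s + 2 * (e + 1)) = s + 1 + 2 * (e + 1) by omega)).mapExactFunctor L =
      (hS.map_of_exact L).extClass.comp
        ((Psi L N ξ e S.X₁ s d).comp (ξ e) (show s + 2 * e + 2 = s + 2 * (e + 1) by omega) +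
          (show Ext.{w} S.X₁ (N (e + 1)) (s + 2 * (e + 1)) from y).mapExactFunctor L)
        (show 1 + (s + 2 * (e + 1)) = s + 1 + 2 * (e + 1) by omega)
    rw [ih, Ext.mapExactFunctor_comp, Ext.mapExactFunctor_extClass]
    refine Eq.trans ?_ (Ext.comp_add _ _ _ _).symm
    congr 1
    exact Ext.comp_assoc (hS.map_of_exact L).extClass (Psi L N ξ e S.X₁ s d) (ξ e)
      (show 1 + (s + 2 * e) = s + 1 + 2 * e by omega) (show s + 2 * e + 2 = s + 2 * (e + 1) by omega)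
      (by omega)

end Tower

end K338.GysTower
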