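import Groth.Agent.Sga5x.H857.KumCls
import Groth.Agent.EtpbcA.EqLocus
import Groth.Agent.EtpbcA.Germ

/-!
# `R^1 g_* μ_n = ℤ/n` from the glued Kummer class of local units
-/

set_option autoImplicit false
universe u
open CategoryTheory CategoryTheory.Limits AlgebraicGeometry Opposite

namespace K338.KumGlue

open Groth.Agent Groth.Agent.CurvesA.MuConst Groth.Agent.Etcore.Stalks
  Groth.Agent.Sga5x.H857.KumCls

/-- A global section from local sections which are locally unique. -/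
theorem exists_global {T : Scheme.{u}} (F : EtCoh.Ab T) (P : ∀ V : T.Etale, EtCoh.sect F V → Prop)
    (hres : ∀ {V V' : T.Etale} (a : V' ⟶ V) (s : EtCoh.sect F V), P V s → P V' (F.obj.map a.op s))
    (hloc : ∀ t : T, ∃ (V : T.Etale) (v : V.left), V.hom v = t ∧ ∃ s, P V s)
    (huniq : ∀ (V : T.Etale) (s s' : EtCoh.sect F V), P V s → P V s' → s = s') :
    ∃ s₀ : EtCoh.sect F (EtCoh.top T), ∀ (V : T.Etale) (s : EtCoh.sect F V), P V s →
      F.obj.map (toTop V).op s₀ = s := by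
  choose V v hv s hs using hloc
  obtain ⟨t, ht⟩ := EtpbcA.EqLocus.exists_glue F (U := EtCoh.top T) V (fun i => toTop (V i))
    (fun x => ⟨x, v x, by
      have h1 : (toTop (V x)).left ≫ (EtCoh.top T).hom = (V x).hom := MorphismProperty.Over.w _
      have h2 : (toTop (V x)).left = (V x).hom := by
        rw [← h1]
        exact (Category.comp_id _).symm
      rw [h2]
      exact hv x⟩) s
    (fun i j W a b _ => huniq W _ _ (hres a _ (hs i)) (hres b _ (hs j)))
  refine ⟨t, fun W r hr => ?_⟩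
  apply EtpbcA.Germ.sect_ext F
  intro x
  obtain ⟨W', a, b, w, hab, hw, -⟩ := Etbase.EtSite.exists_pullback (toTop W) (toTop (V (W.hom x))) x
    (v (W.hom x)) (by
      have h1 : ∀ Z : T.Etale, (toTop Z).left = Z.hom := by
        intro Z
        have h1 : (toTop Z).left ≫ (EtCoh.top T).hom = Z.hom := MorphismProperty.Over.w _
        rw [← h1]
        exact (Category.comp_id _).symm
      rw [h1, h1]
      exact (hv _).symm)
  refine ⟨W', a, ⟨w, hw⟩, ?_⟩
  refine Eq.trans ?_ (huniq W' _ _ (hres b _ (hs (W.hom x))) (hres a _ hr))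
  rw [← ht (W.hom x)]
  have h2 : ∀ {A B C : T.Etale} (f : A ⟶ B) (g : B ⟶ C) (z : EtCoh.sect F C),
      F.obj.map f.op (F.obj.map g.op z) = F.obj.map (f ≫ g).op z := by
    intro A B C f g z
    rw [op_comp, F.obj.map_comp]
    rfl
  rw [h2, h2, toTop_ext (a ≫ toTop W) (b ≫ toTop (V (W.hom x)))]

variable {G T : Scheme.{u}} (g : G ⟶ T) {n : ℕ}

/-- A unit on `G_V` as a section of `g_* G_m`. -/
noncomputable def yV (V : T.Etale) (y : (Γ(((EtCoh.bc g).obj V).left, ⊤))ˣ) :
    EtCoh.sect ((EtCoh.push g).obj (EtCoh.Gm G)) V :=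
  ofUnit (X := G) (U := (EtCoh.bc g).obj V) y

/-- Restriction of units. -/
noncomputable def resU {V V' : T.Etale} (a : V' ⟶ V) (y : (Γ(((EtCoh.bc g).obj V).left, ⊤))ˣ) :
    (Γ(((EtCoh.bc g).obj V').left, ⊤))ˣ :=
  Units.map ((EtCoh.bc g).map a).left.appTop.hom.toMonoidHom y

theorem yV_map {V V' : T.Etale} (a : V' ⟶ V) (y : (Γ(((EtCoh.bc g).obj V).left, ⊤))ˣ) :
    ((EtCoh.push g).obj (EtCoh.Gm G)).obj.map a.op (yV g V y) = yV g V' (resU g a y) := by
  apply unitOf_injective (X := G) (U := (EtCoh.bc g).obj V')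
  apply Units.ext
  exact unitOf_map ((EtCoh.bc g).map a) _

variable (hn : IsUnit (n : Γ(G, ⊤)))

/-- The Kummer class of a unit on `G_V`. -/
noncomputable def clsV (V : T.Etale) (y : (Γ(((EtCoh.bc g).obj V).left, ⊤))ˣ) :
    EtCoh.sect ((EtCoh.Rpush g 1).obj (EtCoh.mu G n)) V :=
  (bd g hn).hom.app (op V) (yV g V y)

theorem clsV_map {V V' : T.Etale} (a : V' ⟶ V) (y : (Γ(((EtCoh.bc g).obj V).left, ⊤))ˣ) :
    ((EtCoh.Rpush g 1).obj (EtCoh.mu G n)).obj.map a.op (clsV g hn V y) =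
      clsV g hn V' (resU g a y) := by
  have h1 := ConcreteCategory.congr_hom ((bd g hn).hom.naturality a.op) (yV g V y)
  refine Eq.trans h1.symm ?_
  exact congrArg ((bd g hn).hom.app (op V')) (yV_map g a y)

theorem clsV_mul (V : T.Etale) (y y' : (Γ(((EtCoh.bc g).obj V).left, ⊤))ˣ) :
    clsV g hn V (y * y') = clsV g hn V y + clsV g hn V y' := by
  have h1 : yV g V (y * y') = yV g V y + yV g V y' := rfl
  have h2 := map_add ((bd g hn).hom.app (op V)).hom (yV g V y) (yV g V y')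
  exact (congrArg ((bd g hn).hom.app (op V)) h1).trans h2

theorem clsV_pow (V : T.Etale) (y : (Γ(((EtCoh.bc g).obj V).left, ⊤))ˣ) :
    clsV g hn V (y ^ n) = 0 := by
  have h1 : (bd g hn).hom.app (op V) (((EtCoh.push g).map (EtCoh.powMap G n)).hom.app (op V)
      (yV g V y)) = 0 :=
    congrArg (fun f => f.hom.app (op V) (yV g V y)) (pow_bd g hn)
  rw [push_powMap_app] at h1
  have h2 : n • yV g V y = yV g V (y ^ n) := by
    apply unitOf_injective (X := G) (U := (EtCoh.bc g).obj V)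
    exact unitOf_nsmul (X := G) (U := (EtCoh.bc g).obj V) n _
  rw [h2] at h1
  exact h1

theorem nsmul_clsV (V : T.Etale) (y : (Γ(((EtCoh.bc g).obj V).left, ⊤))ˣ) :
    n • clsV g hn V y = 0 := by
  have h2 : n • yV g V y = yV g V (y ^ n) := by
    apply unitOf_injective (X := G) (U := (EtCoh.bc g).obj V)
    exact unitOf_nsmul (X := G) (U := (EtCoh.bc g).obj V) n _
  have h3 := map_nsmul ((bd g hn).hom.app (op V)).hom n (yV g V y)
  have h4 := congrArg ((bd g hn).hom.app (op V)) h2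
  exact (h3.symm.trans h4).trans (clsV_pow g hn V y)

/-- The pullback of a unit of the base. -/
noncomputable def baseU (V : T.Etale) (c : (Γ(V.left, ⊤))ˣ) : (Γ(((EtCoh.bc g).obj V).left, ⊤))ˣ :=
  Units.map (pullback.fst V.hom g : ((EtCoh.bc g).obj V).left ⟶ V.left).appTop.hom.toMonoidHom c

theorem resU_baseU {V V' : T.Etale} (a : V' ⟶ V) (c : (Γ(V.left, ⊤))ˣ) :
    resU g a (baseU g V c) = baseU g V' (Units.map a.left.appTop.hom.toMonoidHom c) := by
  apply Units.ext
  have h1 : ((EtCoh.bc g).map a).left ≫ (pullback.fst V.hom g : ((EtCoh.bc g).obj V).left ⟶ V.left) =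
      (pullback.fst V'.hom g : ((EtCoh.bc g).obj V').left ⟶ V'.left) ≫ a.left :=
    (EtCoh.isPullback_bc_map g a).w
  have h2 := congrArg (fun f => f.appTop.hom (c : Γ(V.left, ⊤))) h1
  simp only [Scheme.Hom.comp_appTop] at h2
  exact h2

/-- The Kummer class of a unit of the base vanishes. -/
theorem clsV_baseU (hnT : IsUnit (n : Γ(T, ⊤))) (V : T.Etale) (c : (Γ(V.left, ⊤))ˣ) :
    clsV g hn V (baseU g V c) = 0 := by
  apply EtpbcA.Germ.sect_ext
  intro x
  have hepi : Epi (EtCoh.powMap T n) := (Dix.KummerLES.shortExact hnT).epi_g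
  rw [Dix.EtaleSieve.epi_iff] at hepi
  obtain ⟨V', a, hv, s, hs⟩ := hepi V (ofUnit (X := T) (U := V) c) x
  refine ⟨V', a, hv, ?_⟩
  rw [clsV_map, resU_baseU, map_zero]
  let d : (Γ(V'.left, ⊤))ˣ := unitOf (X := T) (U := V') s
  have h1 : d ^ n = Units.map a.left.appTop.hom.toMonoidHom c := by
    have h2 : n • s = (EtCoh.Gm T).obj.map a.op (ofUnit (X := T) (U := V) c) :=
      (powMap_app n V' s).symm.trans hs
    have h3 := congrArg (unitOf (X := T) (U := V')) h2
    rw [unitOf_nsmul] at h3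
    rw [h3]
    apply Units.ext
    exact unitOf_map a _
  have h4 : baseU g V' (Units.map a.left.appTop.hom.toMonoidHom c) = (baseU g V' d) ^ n := by
    rw [← h1]
    exact map_pow _ _ _
  rw [h4, clsV_pow]

/-- If a multiple of the class vanishes, a power is locally an `n`-th power. -/
theorem exists_pow' (V : T.Etale) (y : (Γ(((EtCoh.bc g).obj V).left, ⊤))ˣ) (v : V.left) (k : ℕ)
    (h : k • clsV g hn V y = 0) :
    ∃ (V' : T.Etale) (a : V' ⟶ V) (_ : V'.left) (z : (Γ(((EtCoh.bc g).obj V').left, ⊤))ˣ),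
      z ^ n = (resU g a y) ^ k := by
  have h1 : (bd g hn).hom.app (op V) (k • yV g V y) = 0 := by
    have h2 := map_nsmul ((bd g hn).hom.app (op V)).hom k (yV g V y)
    exact h2.trans h
  obtain ⟨V', a, ⟨v', hv'⟩, t, ht⟩ := local_of_exact (exact_bd g hn) V _ h1 v
  refine ⟨V', a, v', unitOf (X := G) (U := (EtCoh.bc g).obj V') t, ?_⟩
  have h3 : n • t = k • yV g V' (resU g a y) := by
    refine (push_powMap_app g V' t).symm.trans (ht.trans ?_)
    have h4 := map_nsmul (((EtCoh.push g).obj (EtCoh.Gm G)).obj.map a.op).hom k (yV g V y)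
    refine h4.trans ?_
    exact congrArg (fun z => k • z) (yV_map g a y)
  have h5 := congrArg (unitOf (X := G) (U := (EtCoh.bc g).obj V')) h3
  have h6 := (unitOf_nsmul (X := G) (U := (EtCoh.bc g).obj V') n t).symm.trans
    (h5.trans (unitOf_nsmul (X := G) (U := (EtCoh.bc g).obj V') k (yV g V' (resU g a y))))
  exact h6

include hn in
/-- **`R^1 g_* μ_n = ℤ/n`.** -/
theorem nonempty_iso (hnT : IsUnit (n : Γ(T, ⊤))) (hn0 : n ≠ 0)
    (Y : ∀ V : T.Etale, (Γ(((EtCoh.bc g).obj V).left, ⊤))ˣ → Prop)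
    (hres : ∀ {V V' : T.Etale} (a : V' ⟶ V) (y : (Γ(((EtCoh.bc g).obj V).left, ⊤))ˣ), Y V y →
      Y V' (resU g a y))
    (hloc : ∀ t : T, ∃ (V : T.Etale) (v : V.left), V.hom v = t ∧ ∃ y, Y V y)
    (huniq : ∀ (V : T.Etale) (y y' : (Γ(((EtCoh.bc g).obj V).left, ⊤))ˣ), Y V y → Y V y' →
      ∃ c : (Γ(V.left, ⊤))ˣ, y = baseU g V c * y')
    (hord : ∀ (V : T.Etale) (_ : V.left) (y z : (Γ(((EtCoh.bc g).obj V).left, ⊤))ˣ) (k : ℕ), Y V y →
      z ^ n = y ^ k → n ∣ k)
    (hcard : ∀ t : T, ∃ (Ω : Type u) (_ : Field Ω) (_ : IsSepClosed Ω)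
      (ξ : Spec (CommRingCat.of Ω) ⟶ T), ξ default = t ∧
        Nat.card ((EtCoh.stalk ξ).obj ((EtCoh.Rpush g 1).obj (EtCoh.mu G n)) :
          AddCommGrpCat.{u + 1}) = n) :
    Nonempty (EtCoh.const T (ZMod n) ≅ (EtCoh.Rpush g 1).obj (EtCoh.mu G n)) := by
  have : NeZero n := ⟨hn0⟩
  let F := (EtCoh.Rpush g 1).obj (EtCoh.mu G n)
  have hFcomp : ∀ {A B C : T.Etale} (f : A ⟶ B) (g : B ⟶ C) (z : EtCoh.sect F C),
      F.obj.map f.op (F.obj.map g.op z) = F.obj.map (f ≫ g).op z := by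
    intro A B C f g z
    rw [op_comp, F.obj.map_comp]
    rfl
  obtain ⟨s₀, hs₀⟩ := exists_global F (fun V s => ∃ y, Y V y ∧ s = clsV g hn V y)
    (by
      rintro V V' a s ⟨y, hy, rfl⟩
      exact ⟨_, hres a y hy, clsV_map g hn a y⟩)
    (by
      intro t
      obtain ⟨V, v, hv, y, hy⟩ := hloc t
      exact ⟨V, v, hv, _, y, hy, rfl⟩)
    (by
      rintro V s s' ⟨y, hy, rfl⟩ ⟨y', hy', rfl⟩
      obtain ⟨c, rfl⟩ := huniq V y y' hy hy'
      rw [clsV_mul, clsV_baseU g hn hnT, zero_add])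
  have hcover : ∀ (U : T.Etale) (x : U.left), ∃ (V : T.Etale) (a : V ⟶ U) (v : V.left),
      a.left v = x ∧ ∃ y, Y V y := by
    intro U x
    obtain ⟨V, v, hv, y, hy⟩ := hloc (U.hom x)
    have h1 : ∀ Z : T.Etale, (toTop Z).left = Z.hom := by
      intro Z
      have h1 : (toTop Z).left ≫ (EtCoh.top T).hom = Z.hom := MorphismProperty.Over.w _
      rw [← h1]
      exact (Category.comp_id _).symm
    obtain ⟨W', a, b, w, hab, hw, -⟩ := Etbase.EtSite.exists_pullback (toTop U) (toTop V) x v (by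
      rw [h1, h1]
      exact hv.symm)
    exact ⟨W', a, w, hw, _, hres b y hy⟩
  have hn₀ : n • s₀ = 0 := by
    apply EtpbcA.Germ.sect_ext F
    intro x
    obtain ⟨V, a, v, hv, y, hy⟩ := hcover _ x
    refine ⟨V, a, ⟨v, hv⟩, ?_⟩
    have h1 := map_nsmul (F.obj.map a.op).hom n s₀
    refine h1.trans ?_
    rw [map_zero]
    have h2 : (F.obj.map a.op).hom s₀ = clsV g hn V y := by
      have h3 := hs₀ V _ ⟨y, hy, rfl⟩
      rw [toTop_ext (toTop V) a] at h3
      exact h3
    rw [h2]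
    exact nsmul_clsV g hn V y
  let φ : ZMod n →+ EtCoh.sect F (EtCoh.top T) :=
    ZMod.lift n ⟨zmultiplesHom _ s₀, by
      rw [zmultiplesHom_apply, natCast_zsmul]
      exact hn₀⟩
  have hφ : ∀ m : ZMod n, φ m = m.val • s₀ := by
    intro m
    have h1 : φ ((m.val : ℤ) : ZMod n) = zmultiplesHom _ s₀ (m.val : ℤ) := ZMod.lift_coe n _ _
    rw [zmultiplesHom_apply, natCast_zsmul] at h1
    rw [← h1]
    congr 1
    rw [Int.cast_natCast, ZMod.natCast_zmod_val]
  have hφU : ∀ (U : T.Etale) (m : ZMod n),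
      F.obj.map (toTop U).op (φ m) = m.val • F.obj.map (toTop U).op s₀ := by
    intro U m
    rw [hφ]
    exact map_nsmul (F.obj.map (toTop U).op).hom m.val s₀
  have hinj : ∀ (U : T.Etale), Nonempty U.left → ∀ m : ZMod n,
      F.obj.map (toTop U).op (φ m) = 0 → m = 0 := by
    rintro U ⟨x⟩ m hm
    obtain ⟨V, a, v, -, y, hy⟩ := hcover U x
    have h0 : F.obj.map (toTop V).op (φ m) = 0 := by
      have h1 := congrArg (F.obj.map a.op) hm
      rw [hFcomp, toTop_ext (a ≫ toTop U) (toTop V), map_zero] at h1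
      exact h1
    rw [hφU, hs₀ V _ ⟨y, hy, rfl⟩] at h0
    obtain ⟨V', a', v', z, hz⟩ := exists_pow' g hn V y v m.val h0
    have h1 := hord V' v' _ z m.val (hres a' y hy) hz
    have h2 : m.val = 0 := Nat.eq_zero_of_dvd_of_lt h1 (ZMod.val_lt m)
    exact (ZMod.val_eq_zero m).1 h2
  refine nonempty_iso_const F (ZMod n) φ hinj ?_
  intro U t v
  let R : Sieve U :=
    { arrows := fun V f => ∃ m : ZMod n, F.obj.map f.op t = F.obj.map (toTop V).op (φ m)
      downward_closed := by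
        rintro V V' f ⟨m, hm⟩ f'
        refine ⟨m, ?_⟩
        have h1 : F.obj.map (f' ≫ f).op t = F.obj.map f'.op (F.obj.map f.op t) := by
          rw [op_comp, F.obj.map_comp]
          rfl
        rw [h1, hm]
        have h2 : F.obj.map f'.op (F.obj.map (toTop V).op (φ m)) =
            F.obj.map (f' ≫ toTop V).op (φ m) := by
          rw [op_comp, F.obj.map_comp]
          rfl
        rw [h2, toTop_ext (f' ≫ toTop V) (toTop V')] }
  have hR : R ∈ T.smallEtaleTopology U := by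
    apply mem_of_geom
    intro x₀
    obtain ⟨Ω, _, _, ξ, hξ, hc⟩ := hcard x₀
    refine ⟨Ω, inferInstance, inferInstance, ξ, hξ, ?_⟩
    intro w
    let ψ : ZMod n →+ ((EtCoh.stalk ξ).obj F : AddCommGrpCat.{u + 1}) :=
      ((germ ξ F w).hom.comp (F.obj.map (toTop U).op).hom).comp φ
    have hψ : Function.Injective ψ := by
      rw [injective_iff_map_eq_zero]
      intro m hm
      have h1 : germ ξ F w (F.obj.map (toTop U).op (φ m)) = germ ξ F w 0 := by
        rw [map_zero]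
        exact hm
      rw [germ_eq_iff] at h1
      obtain ⟨V, a, v', -, h2⟩ := h1
      have h3 : F.obj.map (toTop V).op (φ m) = 0 := by
        have h4 : F.obj.map a.op (F.obj.map (toTop U).op (φ m)) =
            F.obj.map (a ≫ toTop U).op (φ m) := by
          rw [op_comp, F.obj.map_comp]
          rfl
        rw [toTop_ext (a ≫ toTop U) (toTop V)] at h4
        rw [← h4, h2, map_zero]
      exact hinj V ⟨(Scheme.pointSmallEtaleFiberObjToPreimage ξ hξ v').1⟩ m h3
    have hfin : Finite ((EtCoh.stalk ξ).obj F : AddCommGrpCat.{u + 1}) :=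
      Nat.finite_of_card_ne_zero (by rw [hc]; exact hn0)
    have hbij : Function.Bijective ψ := by
      rw [Nat.bijective_iff_injective_and_card]
      refine ⟨hψ, ?_⟩
      rw [hc, Nat.card_zmod]
    obtain ⟨m, hm⟩ := hbij.2 (germ ξ F w t)
    have h1 : germ ξ F w t = germ ξ F w (F.obj.map (toTop U).op (φ m)) := hm.symm
    rw [germ_eq_iff] at h1
    obtain ⟨V, a, v', hv', h2⟩ := h1
    refine ⟨V, a, v', ⟨m, ?_⟩, hv'⟩
    rw [h2]
    have h4 : F.obj.map a.op (F.obj.map (toTop U).op (φ m)) =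
        F.obj.map (a ≫ toTop U).op (φ m) := by
      rw [op_comp, F.obj.map_comp]
      rfl
    rw [h4, toTop_ext (a ≫ toTop U) (toTop V)]
  obtain ⟨V, a, ⟨v', hv'⟩, m, hm⟩ := Dix.EtaleSieve.exists_of_mem U R hR v
  exact ⟨V, a, v', m, hv', hm⟩

end K338.KumGlue
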