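import Mathlib.AlgebraicGeometry.AffineSpace
import Mathlib.AlgebraicGeometry.Morphisms.Flat

/-!
# Punctured affine spaces
-/

set_option autoImplicit false
universe u
open CategoryTheory CategoryTheory.Limits AlgebraicGeometry Opposite

namespace K338.PA

/-- The punctured affine space. -/
noncomputable abbrev pOpen (e : ℕ) (T : Scheme.{u}) : (𝔸(ULift.{u} (Fin (e + 1)); T)).Opens :=
  ⨆ a : ULift.{u} (Fin (e + 1)), (𝔸(ULift.{u} (Fin (e + 1)); T)).basicOpen (AffineSpace.coord T a)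

/-- The projection of the punctured affine space. -/
noncomputable abbrev pa (e : ℕ) (T : Scheme.{u}) : (pOpen e T : Scheme.{u}) ⟶ T :=
  (pOpen e T).ι ≫ (𝔸(ULift.{u} (Fin (e + 1)); T) ↘ T)

/-- `f` is Zariski locally on the target a punctured affine space. -/
def IsLocPA (e : ℕ) {V T : Scheme.{u}} (f : V ⟶ T) : Prop :=
  ∀ t : T, ∃ (W : Scheme.{u}) (w : W ⟶ T) (_ : IsOpenImmersion w)
    (k : (pOpen e W : Scheme.{u}) ⟶ V), t ∈ Set.range w ∧ IsPullback k (pa e W) f w

theorem flat_affineSpace (n : Type u) (S : Scheme.{u}) : Flat (𝔸(n; S) ↘ S) := by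
  wlog hS : ∃ R, S = Spec R
  · refine (IsZariskiLocalAtTarget.iff_of_openCover
      (P := @Flat) S.affineCover).mpr ?_
    intro i
    have := this n (S.affineCover.X i) ⟨_, rfl⟩
    rwa [← (AffineSpace.isPullback_map (n := n) (S.affineCover.f i)).isoPullback_hom_snd,
      MorphismProperty.cancel_left_of_respectsIso (P := @Flat)] at this
  obtain ⟨R, rfl⟩ := hS
  rw [← MorphismProperty.cancel_left_of_respectsIso (P := @Flat)
    (AffineSpace.SpecIso n R).inv, AffineSpace.SpecIso_inv_over, Flat.SpecMap_iff]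
  exact RingHom.flat_algebraMap_iff.mpr (inferInstanceAs (Module.Flat R (MvPolynomial n R)))

instance flat_pa (e : ℕ) (T : Scheme.{u}) : Flat (pa e T) := by
  have := flat_affineSpace (ULift.{u} (Fin (e + 1))) T
  infer_instance

/-- The coordinate functions. -/
noncomputable def crd (e : ℕ) (T : Scheme.{u}) (a : ULift.{u} (Fin (e + 1))) :
    Γ((pOpen e T : Scheme.{u}), ⊤) := (pOpen e T).ι.appTop.hom (AffineSpace.coord T a)

/-- Morphisms to the punctured affine space. -/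
theorem exists_hom (e : ℕ) {T S : Scheme.{u}} (g : S ⟶ T) (x : ULift.{u} (Fin (e + 1)) → Γ(S, ⊤))
    (hx : ∀ s : S, ∃ a, s ∈ S.basicOpen (x a)) :
    ∃ h : S ⟶ (pOpen e T : Scheme.{u}), h ≫ pa e T = g ∧ ∀ a, h.appTop.hom (crd e T a) = x a := by
  let k : S ⟶ 𝔸(ULift.{u} (Fin (e + 1)); T) := AffineSpace.homOfVector g x
  have hr : Set.range k ⊆ Set.range (pOpen e T).ι := by
    rintro _ ⟨s, rfl⟩
    rw [Scheme.Opens.range_ι]
    obtain ⟨a, ha⟩ := hx s
    refine TopologicalSpace.Opens.mem_iSup.2 ⟨a, ?_⟩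
    have h0 : s ∈ k ⁻¹ᵁ (𝔸(ULift.{u} (Fin (e + 1)); T)).basicOpen (AffineSpace.coord T a) := by
      rw [Scheme.preimage_basicOpen_top]
      have h1 : k.appTop (AffineSpace.coord T a) = x a :=
        AffineSpace.homOfVector_appTop_coord _ _ _
      rw [h1]
      exact ha
    exact h0
  refine ⟨IsOpenImmersion.lift (pOpen e T).ι k hr, ?_, ?_⟩
  · change _ ≫ (pOpen e T).ι ≫ _ = g
    rw [← Category.assoc, IsOpenImmersion.lift_fac]
    exact AffineSpace.homOfVector_over _ _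
  · intro a
    have h1 : k.appTop.hom (AffineSpace.coord T a) = x a :=
      AffineSpace.homOfVector_appTop_coord _ _ _
    rw [← h1, crd, ← CommRingCat.comp_apply, ← Scheme.Hom.comp_appTop, IsOpenImmersion.lift_fac]

theorem hom_ext {e : ℕ} {T S : Scheme.{u}} {h h' : S ⟶ (pOpen e T : Scheme.{u})}
    (h1 : h ≫ pa e T = h' ≫ pa e T)
    (h2 : ∀ a, h.appTop.hom (crd e T a) = h'.appTop.hom (crd e T a)) : h = h' := by
  rw [← cancel_mono (pOpen e T).ι]
  apply AffineSpace.hom_ext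
  · rw [Category.assoc, Category.assoc]
    exact h1
  · intro a
    have h3 := h2 a
    rw [crd, ← CommRingCat.comp_apply, ← CommRingCat.comp_apply, ← Scheme.Hom.comp_appTop,
      ← Scheme.Hom.comp_appTop] at h3
    exact h3

theorem exists_mem_basicOpen_crd (e : ℕ) (T : Scheme.{u}) (s : (pOpen e T : Scheme.{u})) :
    ∃ a, s ∈ (pOpen e T : Scheme.{u}).basicOpen (crd e T a) := by
  obtain ⟨a, ha⟩ := TopologicalSpace.Opens.mem_iSup.1 s.2
  refine ⟨a, ?_⟩
  have h1 : s ∈ (pOpen e T).ι ⁻¹ᵁ (𝔸(ULift.{u} (Fin (e + 1)); T)).basicOpen (AffineSpace.coord T a) := ha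
  rw [Scheme.preimage_basicOpen_top] at h1
  exact h1

theorem isUnit_crd (T : Scheme.{u}) : IsUnit (crd 0 T ⟨0⟩) := by
  refine RingedSpace.isUnit_of_isUnit_germ
    ((pOpen 0 T : Scheme.{u}).toSheafedSpace) ⊤ _ fun x hx => ?_
  obtain ⟨a, ha⟩ := exists_mem_basicOpen_crd 0 T x
  have hsub : Subsingleton (Fin (0 + 1)) := inferInstanceAs (Subsingleton (Fin 1))
  have ha0 : a = ⟨0⟩ := by
    obtain ⟨a⟩ := a
    exact congrArg ULift.up (Subsingleton.elim _ _)
  rw [ha0] at ha
  exact (Scheme.mem_basicOpen_top _ _ _).1 ha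

end K338.PA
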