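import Groth.Agent.Sga5x.H857.LineStalk
import Groth.Agent.Sga5x.H857.KumLine
import Groth.Agent.Sga5.H855.EtUnit
import Groth.Agent.Etdl.H441.Loc
import Groth.Agent.EtDual.K338.PA

/-!
# Morphisms which are locally a punctured affine space
-/

set_option autoImplicit false
universe u
open CategoryTheory CategoryTheory.Limits AlgebraicGeometry Opposite

namespace K338.LocPA

open Groth.Agent Groth.Agent.Sga4B.PureLine Groth.Agent.Sga5x.H857 K338.PA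

theorem range_pOpen (e : ℕ) (T : Scheme.{u}) :
    Set.range (pOpen e T).ι = (Set.range (ZLine.zs (ULift.{u} (Fin (e + 1))) T))ᶜ :=
  ZLine.range_iSup_basicOpen (ULift.{u} (Fin (e + 1))) T

/-- Acyclicity of affine spaces. -/
def StmtAcycAll (n : ℕ) : Prop :=
  ∀ (Y : Scheme.{u}) (m : ℕ), IsUnit (n : Γ(Y, ⊤)) →
    Sga4B.AcycMor.Acyc n (𝔸(ULift.{u} (Fin m); Y) ↘ Y)

variable {n : ℕ} (hpbc : StmtPBC.{u}) (hac : StmtAcyc.{u} n) (hP1 : StmtP1.{u} n)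
  (hacy : StmtAcycAll.{u} n) (hn0 : n ≠ 0) {e : ℕ} {V T : Scheme.{u}} {f : V ⟶ T}
  (hf : IsLocPA e f) (hn : IsUnit (n : Γ(T, ⊤)))

theorem isUnit_comp {X Y : Scheme.{u}} (f : X ⟶ Y) (hn : IsUnit (n : Γ(Y, ⊤))) :
    IsUnit (n : Γ(X, ⊤)) := by
  have h1 := hn.map f.appTop.hom
  rwa [map_natCast] at h1

section

include hpbc hac hP1 hacy hn0 hf hn

theorem isIso_unit (F : EtCoh.Ab T) (hF : EtCoh.KilledBy n F) :
    IsIso ((EtCoh.pullPushAdj f).unit.app F) := by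
  refine Sga5.H855.EtUnit.isIso_of_family _ fun t => ?_
  obtain ⟨W, w, _, k, ⟨t', rfl⟩, sq⟩ := hf t
  refine ⟨W, w, t', rfl, ?_⟩
  rw [Sga5.H855.EtUnit.isIso_unit_iff (f := f) (g := w) (f' := pa e W) (g' := k) sq.w F
    (Sga5.H855.EtUnit.isIso_baseChange0_of_etale sq _)]
  exact GenBase.punctured_unit e _ (range_pOpen e W) hpbc hac hP1 hn0 (isUnit_comp w hn)
    (hacy W (e + 1) (isUnit_comp w hn)) _ (EtpbcB.NKillEt.killedBy_pull w hF)

theorem isZero_Rpush (F : EtCoh.Ab T) (hF : EtCoh.KilledBy n F) (q : ℕ) (hq : q ≠ 0)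
    (hq' : q ≠ 2 * e + 1) : IsZero ((EtCoh.Rpush f q).obj ((EtCoh.pull f).obj F)) := by
  refine Sga4B.LocCohLocal.isZero_of_pull _ fun t => ?_
  obtain ⟨W, w, _, k, ⟨t', rfl⟩, sq⟩ := hf t
  refine ⟨W, w, inferInstance, inferInstance, t', rfl, ?_⟩
  obtain ⟨i⟩ := Etdl.H441.Loc.etaleBC sq ((EtCoh.pull f).obj F) q
  refine IsZero.of_iso ?_ i
  refine IsZero.of_iso (GenBase.punctured_isZero e _ (range_pOpen e W) hpbc hac hP1 hn0
    (isUnit_comp w hn) (hacy W (e + 1) (isUnit_comp w hn)) _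
    (EtpbcB.NKillEt.killedBy_pull w hF) q hq hq') ((EtCoh.Rpush (pa e W) q).mapIso ?_)
  exact (EtpbcA.PullFLC.pullComp k f).app F ≪≫ (EtpbcA.PullFLC.pullCongr sq.w).app F ≪≫
      ((EtpbcA.PullFLC.pullComp (pa e W) w).app F).symm

end

section Stalk

theorem subsingleton_H_of_isZero {Z : Scheme.{u}} {F : EtCoh.Ab Z} (h : IsZero F) (q : ℕ) :
    Subsingleton (EtCoh.H Z F q) := by
  have key : ∀ x : EtCoh.H Z F q, x = 0 := fun x => by
    have h1 := Abelian.Ext.comp_mk₀_id x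
    rw [h.eq_of_src (𝟙 F) 0, Abelian.Ext.mk₀_zero, Abelian.Ext.comp_zero] at h1
    exact h1.symm
  exact ⟨fun a b => by rw [key a, key b]⟩

/-- The complement of the zero section of the standard line. -/
theorem isZero_stalk_pa (hpbc : StmtPBC.{u}) (hac : StmtAcyc.{u} n) (hP1 : StmtP1.{u} n)
    (hn0 : n ≠ 0) (hn : IsUnit (n : Γ(T, ⊤))) (F : EtCoh.Ab T) (hF : EtCoh.KilledBy n F) (Ω : Type u)
    [Field Ω] [IsAlgClosed Ω] (ξ : Spec (CommRingCat.of Ω) ⟶ T)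
    (h : IsZero ((EtCoh.pull ξ).obj F)) :
    Subsingleton ((EtCoh.stalk ξ).obj ((EtCoh.Rpush (pa 0 T) 1).obj
      ((EtCoh.pull (pa 0 T)).obj F)) : AddCommGrpCat.{u + 1}) := by
  obtain ⟨R, v, hv, y, hy⟩ : ∃ (R : CommRingCat.{u}) (v : Spec R ⟶ T) (_ : IsOpenImmersion v)
      (y : Spec R), v y = ξ default := by
    obtain ⟨i, y, hy⟩ := T.affineCover.exists_eq (ξ default)
    exact ⟨_, T.affineCover.f i, T.affineCover.map_prop i, y, hy⟩
  have hr : Set.range ξ ⊆ Set.range v := by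
    rintro _ ⟨z, rfl⟩
    rw [Subsingleton.elim z default]
    exact ⟨y, hy⟩
  let ξ' : Spec (CommRingCat.of Ω) ⟶ Spec R := IsOpenImmersion.lift v ξ hr
  have hξ : ξ' ≫ v = ξ := IsOpenImmersion.lift_fac _ _ _
  rw [← hξ] at h ⊢
  obtain ⟨i⟩ := LineStalk.stalk_R1 (𝔸(ULift.{u} (Fin (0 + 1)); T) ↘ T)
    (ZLine.zs (ULift.{u} (Fin (0 + 1))) T) (pOpen 0 T).ι hpbc hac hP1 hn0 hn (ZLine.isZLine_self T)
    (range_pOpen 0 T) F hF R v Ω ξ'
  have h1 : IsZero ((EtCoh.pull (g Ω)).obj ((EtCoh.pull (ξ' ≫ v)).obj F)) :=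
    (EtCoh.pull (g Ω)).map_isZero h
  have h2 : Subsingleton (EtCoh.H (CohB1.ProjSpace 1 Ω)
      ((EtCoh.pull (g Ω)).obj ((EtCoh.pull (ξ' ≫ v)).obj F)) 2) := by
    exact subsingleton_H_of_isZero h1 2
  exact i.toEquiv.subsingleton

end Stalk

end K338.LocPA
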