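import Groth.Agent.EtDual.K338.TorsChart
import Groth.Agent.EtDual.K338.LocPA
import Groth.Agent.EtDual.K338.KumGlue
import Groth.Agent.Sga5x.H857.Gysin

/-!
# `R^1 q_* μ_n = ℤ/n` for the torsor of generators
-/

set_option autoImplicit false
universe u
open CategoryTheory AlgebraicGeometry Limits BlowUp Opposite

namespace K338.TorsKum

open Groth.Agent Groth.Agent.Divis Groth.Agent.Divis.BlowChart Groth.Agent.Divis.BlowChart2
  Groth.Agent.Divis.IdealComap K338.Tors K338.PA K338.TorsChart K338.LocPA K338.KumGlue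
  Groth.Agent.Sga4B.PureLine Groth.Agent.Sga5x.H857 Groth.Agent.CurvesA.MuConst

variable {X : Scheme.{u}} {J : X.IdealSheafData} {V X' : Scheme.{u}} {v : V ⟶ X} {t : Γ(V, ⊤)}
  {b : X' ⟶ X} {q : V ⟶ X'}

/-- The first projection. -/
noncomputable abbrev p1 (q : V ⟶ X') (W : X'.Etale) : ((EtCoh.bc q).obj W).left ⟶ W.left :=
  pullback.fst W.hom q

/-- The second projection. -/
noncomputable abbrev p2 (q : V ⟶ X') (W : X'.Etale) : ((EtCoh.bc q).obj W).left ⟶ V :=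
  pullback.snd W.hom q

/-- The units obtained by dividing `t` by a generator. -/
def isY (J : X.IdealSheafData) {V X' : Scheme.{u}} (t : Γ(V, ⊤)) (b : X' ⟶ X) (q : V ⟶ X')
    (W : X'.Etale) (y : (Γ(((EtCoh.bc q).obj W).left, ⊤))ˣ) : Prop :=
  ∃ f : Γ(W.left, ⊤), GenBy J (W.hom ≫ b) f ∧
    (p2 q W).appTop.hom t = (p1 q W).appTop.hom f * (y : Γ(((EtCoh.bc q).obj W).left, ⊤))

theorem flat_left {W W' : X'.Etale} (a : W' ⟶ W) : Flat a.left := by
  have h1 : AlgebraicGeometry.Etale a.left := Etbase.EtSite.etale_left a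
  infer_instance

theorem isY_res {W W' : X'.Etale} (a : W' ⟶ W) (y : (Γ(((EtCoh.bc q).obj W).left, ⊤))ˣ)
    (h : isY J t b q W y) : isY J t b q W' (resU q a y) := by
  obtain ⟨f, hf, hy⟩ := h
  have ha : a.left ≫ W.hom = W'.hom := MorphismProperty.Over.w _
  have hfl : Flat a.left := flat_left a
  refine ⟨a.left.appTop.hom f, ?_, ?_⟩
  · rw [← ha, Category.assoc]
    exact hf.comap_flat a.left
  · have h1 : ((EtCoh.bc q).map a).left ≫ p1 q W = p1 q W' ≫ a.left := (EtCoh.isPullback_bc_map q a).w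
    have h2 : ((EtCoh.bc q).map a).left ≫ p2 q W = p2 q W' :=
      MorphismProperty.Over.w ((EtCoh.bc q).map a)
    have h3 := congrArg ((EtCoh.bc q).map a).left.appTop.hom hy
    rw [map_mul, ← appTop_comp, ← appTop_comp, h1, h2, appTop_comp] at h3
    exact h3

theorem flat_q [hq : Flat q] (W : X'.Etale) : Flat (p1 q W) :=
  MorphismProperty.pullback_fst (P := @Flat) W.hom q hq

theorem isY_uniq [Flat q] (W : X'.Etale) (y y' : (Γ(((EtCoh.bc q).obj W).left, ⊤))ˣ)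
    (h : isY J t b q W y) (h' : isY J t b q W y') : ∃ c : (Γ(W.left, ⊤))ˣ, y = baseU q W c * y' := by
  obtain ⟨f, hf, hy⟩ := h
  obtain ⟨f', hf', hy'⟩ := h'
  obtain ⟨c, hc, hcf⟩ := exists_unit_of_prin_eq hf.reg (hf'.gen.symm.trans hf.gen)
  refine ⟨hc.unit, ?_⟩
  have hfl := flat_q (q := q) W
  have h7 : RegSec _ ((p1 q W).appTop.hom f) := (hf.comap_flat (p1 q W)).reg
  rw [hcf, map_mul, mul_assoc, hy] at hy'
  have h8 := (mul_cancel_left_mem_nonZeroDivisors h7.mem_top).1 hy'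
  apply Units.ext
  exact h8

section

variable (hV : IsTors J v t) (hb : IsBlowUp b J) (hq : q ≫ b = v)

include hV hb hq

theorem isY_loc (x : X') : ∃ (W : X'.Etale) (w : W.left), W.hom w = x ∧ ∃ y, isY J t b q W y := by
  obtain ⟨W, w, hw, f, ⟨x', rfl⟩, hf⟩ := exists_gen hb x
  obtain ⟨k, hk, hkt⟩ := exists_chart hV hb hq w f hf
  let WE : X'.Etale := Scheme.Etale.mk w
  let e : ((EtCoh.bc q).obj WE).left ≅ (pOpen 0 W : Scheme.{u}) :=
    (IsPullback.of_hasPullback w q).isoIsPullback _ _ hk.flip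
  have e1 : e.hom ≫ pa 0 W = p1 q WE :=
    (IsPullback.of_hasPullback w q).isoIsPullback_hom_fst _ _ hk.flip
  have e2 : e.hom ≫ k = p2 q WE :=
    (IsPullback.of_hasPullback w q).isoIsPullback_hom_snd _ _ hk.flip
  have hu : IsUnit (e.hom.appTop.hom (crd 0 W ⟨0⟩)) := (isUnit_crd W).map _
  refine ⟨WE, x', rfl, hu.unit, f, hf, ?_⟩
  rw [← e2, ← e1]
  have h1 := congrArg e.hom.appTop.hom hkt
  rw [map_mul, ← appTop_comp, ← appTop_comp] at h1
  exact h1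

theorem isY_ord (n : ℕ) (W : X'.Etale) (w₀ : W.left) (y z : (Γ(((EtCoh.bc q).obj W).left, ⊤))ˣ)
    (k : ℕ) (h : isY J t b q W y) (hz : z ^ n = y ^ k) : n ∣ k := by
  obtain ⟨f, hf, hy⟩ := h
  have hW : AlgebraicGeometry.Etale W.hom := W.prop
  have hfl : Flat W.hom := inferInstance
  obtain ⟨k', hk, hkt⟩ := exists_chart hV hb hq W.hom f hf
  let e : ((EtCoh.bc q).obj W).left ≅ (pOpen 0 W.left : Scheme.{u}) :=
    (IsPullback.of_hasPullback W.hom q).isoIsPullback _ _ hk.flip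
  have e1 : e.inv ≫ p1 q W = pa 0 W.left :=
    (IsPullback.of_hasPullback W.hom q).isoIsPullback_inv_fst _ _ hk.flip
  have e2 : e.inv ≫ p2 q W = k' :=
    (IsPullback.of_hasPullback W.hom q).isoIsPullback_inv_snd _ _ hk.flip
  have h1 : e.inv.appTop.hom (y : Γ(((EtCoh.bc q).obj W).left, ⊤)) = crd 0 W.left ⟨0⟩ := by
    have h2 := congrArg e.inv.appTop.hom hy
    rw [map_mul, ← appTop_comp, ← appTop_comp, e1, e2, hkt] at h2
    have h6 : Flat (pa 0 W.left) := flat_pa 0 W.left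
    have h7 : RegSec _ ((pa 0 W.left).appTop.hom f) := (hf.comap_flat (pa 0 W.left)).reg
    exact ((mul_cancel_left_mem_nonZeroDivisors h7.mem_top).1 h2).symm
  refine KumOrd.dvd_of_pow_eq_pow (pOpen 0 W.left).ι (range_pOpen 0 W.left) (𝟙 W.left)
    (pa 0 W.left) (𝟙 _) (IsPullback.id_horiz _).flip w₀ n k
    (e.inv.appTop.hom (z : Γ(((EtCoh.bc q).obj W).left, ⊤))) ?_
  have h3 := congrArg (fun u => e.inv.appTop.hom (Units.val u)) hz
  simp only [Units.val_pow_eq_pow_val, map_pow, h1] at h3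
  rw [h3]
  rfl

end

/-- The number of elements of the stalks of `R^1 q_* μ_n`. -/
theorem card_stalk {n : ℕ} (hpbc : StmtPBC.{u}) (hac : StmtAcyc.{u} n) (hP1 : StmtP1.{u} n)
    (hn0 : n ≠ 0) {T : Scheme.{u}} {q : V ⟶ T} (hq : IsLocPA 0 q) (hn : IsUnit (n : Γ(T, ⊤)))
    (x : T) : ∃ (Ω : Type u) (_ : Field Ω) (_ : IsSepClosed Ω)
      (ξ : Spec (CommRingCat.of Ω) ⟶ T), ξ default = x ∧
        Nat.card ((EtCoh.stalk ξ).obj ((EtCoh.Rpush q 1).obj (EtCoh.mu V n)) :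
          AddCommGrpCat.{u + 1}) = n := by
  obtain ⟨W, w, hw, k, ⟨x', rfl⟩, sq⟩ := hq x
  have hnW : IsUnit (n : Γ(W, ⊤)) := KumLine.isUnit_comp w hn
  have : NeZero n := ⟨hn0⟩
  obtain ⟨Ω, _, _, ξ, hξ, hc⟩ := LineStalk.card_stalk (𝔸(ULift.{u} (Fin 1); W) ↘ W)
      (ZLine.zs (ULift.{u} (Fin 1)) W) (pOpen 0 W).ι hpbc hac hP1 hn0 hnW (ZLine.isZLine_self W)
      (range_pOpen 0 W) (EtCoh.mu W n)
      (KumLine.killedBy_mu W n) (ZMod n) (fun m => by rw [nsmul_eq_mul, ZMod.natCast_self, zero_mul])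
      (fun Ω _ _ ξ => by
        have h1 : IsUnit (n : Γ(Spec (CommRingCat.of Ω), ⊤)) := KumLine.isUnit_comp ξ hnW
        have hΩ : (n : Ω) ≠ 0 := by
          have h2 := h1.map (Scheme.ΓSpecIso (CommRingCat.of Ω)).hom.hom
          rw [map_natCast] at h2
          exact h2.ne_zero
        obtain ⟨e⟩ := KumLine.nonempty_const_mu n Ω hΩ
        exact ⟨Sga5.H848.PullMu.pullMuIso ξ n hnW ≪≫ e.symm⟩) x'
  refine ⟨Ω, inferInstance, inferInstance, ξ ≫ w, ?_, ?_⟩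
  · rw [Scheme.Hom.comp_apply, hξ]
  · obtain ⟨i⟩ := Etdl.H441.Loc.etaleBC sq (EtCoh.mu V n) 1
    have hnV : IsUnit (n : Γ(V, ⊤)) := KumLine.isUnit_comp q hn
    let e : (EtCoh.stalk (ξ ≫ w)).obj ((EtCoh.Rpush q 1).obj (EtCoh.mu V n)) ≅
        (EtCoh.stalk ξ).obj ((EtCoh.Rpush (pa 0 W) 1).obj ((EtCoh.pull (pa 0 W)).obj
          (EtCoh.mu W n))) :=
      (Etbase.StalkPull.stalkPullIso w ξ).app _ ≪≫ (EtCoh.stalk ξ).mapIso (i ≪≫
        (EtCoh.Rpush (pa 0 W) 1).mapIso (Sga5.H848.PullMu.pullMuIso k n hnV ≪≫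
          (Sga5.H848.PullMu.pullMuIso (pa 0 W) n hnW).symm))
    rw [Nat.card_zmod] at hc
    rw [Nat.card_congr e.addCommGroupIsoToAddEquiv.toEquiv]
    exact hc

/-- `R^1 q_* μ_n = ℤ/n`. -/
theorem nonempty_iso_mu {n : ℕ} (hpbc : StmtPBC.{u}) (hac : StmtAcyc.{u} n) (hP1 : StmtP1.{u} n)
    (hn0 : n ≠ 0) (hn : IsUnit (n : Γ(X', ⊤))) (hV : IsTors J v t) (hb : IsBlowUp b J)
    (hq : q ≫ b = v) (hfl : Flat q) :
    Nonempty (EtCoh.const X' (ZMod n) ≅ (EtCoh.Rpush q 1).obj (EtCoh.mu V n)) :=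
  KumGlue.nonempty_iso q (KumLine.isUnit_comp q hn) hn hn0 (isY J t b q)
    (fun a y h => isY_res a y h) (isY_loc hV hb hq) (fun W y y' h h' => isY_uniq W y y' h h')
    (fun W w₀ y z k h hz => isY_ord hV hb hq n W w₀ y z k h hz)
    (card_stalk hpbc hac hP1 hn0 (isLocPA_q hV hb hq) hn)

/-- `R^1 q_* ℤ/n(m+1) = ℤ/n(m)`. -/
theorem nonempty_iso_tate {n : ℕ} (hpbc : StmtPBC.{u}) (hac : StmtAcyc.{u} n) (hP1 : StmtP1.{u} n)
    (hn0 : n ≠ 0) (hn : IsUnit (n : Γ(X', ⊤))) (hV : IsTors J v t) (hb : IsBlowUp b J)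
    (hq : q ≫ b = v) (hfl : Flat q) (d : ℕ) :
    Nonempty ((EtCoh.Rpush q 1).obj ((EtCoh.pull q).obj (EtDual.tate X' n (d + 1))) ≅
      EtDual.tate X' n d) := by
  obtain ⟨e1⟩ := Sga5.H848.TateTwist.nonempty_rpush_tate_succ q hn 1 d
  obtain ⟨e2⟩ := nonempty_iso_mu hpbc hac hP1 hn0 hn hV hb hq hfl
  obtain ⟨e3⟩ := Sga4h.TensorConst.nonempty_iso_tensor_const (EtDual.tate X' n d) n
    (Sga5.H848.TateTwist.killedBy_tate (X := X') (n := n) d)
  obtain ⟨-, ⟨e4⟩⟩ := Sga5.H848.TateTwist.nonempty_pull_tate q hn (d + 1)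
  exact ⟨(EtCoh.Rpush q 1).mapIso e4 ≪≫ e1 ≪≫
    Sga4h.EtaleRes2.tensorAbIso (Iso.refl _) e2.symm ≪≫ e3.symm⟩

end K338.TorsKum
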