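import Groth.Agent.EtDual.K338.Geo2
import Groth.Agent.EtDual.K338.GysGlue
import Groth.Agent.EtDual.K338.TorsKum

/-!
# The isomorphisms `b^* i_* ℤ/n(m) ≅ R^1 q_* q^* b^* i_* ℤ/n(m+1)`
-/

set_option autoImplicit false
set_option linter.unusedSectionVars false
universe u
open CategoryTheory CategoryTheory.Limits AlgebraicGeometry Opposite Abelian BlowUp

namespace K338.Theta

open Groth.Agent Groth.Agent.Sga4B.PureLine K338.PA K338.LocPA K338.Supp2 K338.Geo K338.Tors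
  K338.TorsChart K338.GysAbs
open scoped Groth.Agent.Etcore.EtInst

theorem killedBy_of_mono {X : Scheme.{u}} {F G : EtCoh.Ab X} (f : F ⟶ G) [Mono f] {n : ℕ}
    (h : EtCoh.KilledBy n G) : EtCoh.KilledBy n F := by
  rw [EtpbcB.NKillEt.killedBy_iff] at h ⊢
  exact EtpbcB.NKill.killed_of_mono f h

theorem flat_of_isLocPA {e : ℕ} {V T : Scheme.{u}} {f : V ⟶ T} (hf : IsLocPA e f) : Flat f := by
  choose W w hw k hk sq using hf
  choose y hy using hk
  let 𝒰 : T.OpenCover := Scheme.Cover.mkOfCovers T W w (fun x => ⟨x, y x, hy x⟩) hw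
  refine (IsZariskiLocalAtTarget.iff_of_openCover (P := @Flat) 𝒰).2 fun x => ?_
  have h1 : (sq x).isoPullback.hom ≫ pullback.snd f (w x) = pa e (W x) :=
    (sq x).isoPullback_hom_snd
  have h2 : Flat ((sq x).isoPullback.hom ≫ pullback.snd f (w x)) := by
    rw [h1]
    exact flat_pa e (W x)
  exact (MorphismProperty.cancel_left_of_respectsIso (P := @Flat) (sq x).isoPullback.hom
    (pullback.snd f (w x))).1 h2

theorem killedBy_push {X Y : Scheme.{u}} (f : X ⟶ Y) {F : EtCoh.Ab X} {n : ℕ}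
    (h : EtCoh.KilledBy n F) : EtCoh.KilledBy n ((EtCoh.push f).obj F) :=
  fun U s => h ((EtCoh.bc f).obj U) s

theorem isTorsion_of_killedBy {X : Scheme.{u}} (m : ℕ) (hm : m ≠ 0) (F : EtCoh.Ab X)
    (h : EtCoh.KilledBy m F) : EtCoh.IsTorsion F := by
  intro U s x
  refine ⟨U, 𝟙 U, ⟨x, rfl⟩, ?_⟩
  rw [isOfFinAddOrder_iff_nsmul_eq_zero]
  exact ⟨m, Nat.pos_of_ne_zero hm, h U _⟩

section Sheaves

variable (n : ℕ) {X Y U : Scheme.{u}} (i : Y ⟶ X) [IsClosedImmersion i] (j : U ⟶ X)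
  [IsOpenImmersion j] (hc : IsCompl (Set.range i) (Set.range j))

/-- `i_* i^* ℤ/n(m)` -/
noncomputable abbrev MM (m : ℕ) : EtCoh.Ab X :=
  (EtCoh.push i).obj ((EtCoh.pull i).obj (EtDual.tate X n m))

/-- `j_! j^* ℤ/n(m)` -/
noncomputable abbrev KK (m : ℕ) : EtCoh.Ab X :=
  (EtShriek.extZero j).obj ((EtShriek.restrAlong j).obj (EtDual.tate X n m))

/-- the unit -/
noncomputable abbrev ff (m : ℕ) : EtDual.tate X n m ⟶ MM n i m :=
  (EtCoh.pullPushAdj i).unit.app (EtDual.tate X n m)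

/-- the counit -/
noncomputable abbrev ii (m : ℕ) : KK n j m ⟶ EtDual.tate X n m :=
  (EtShriek.extZeroAdj j).counit.app (EtDual.tate X n m)

include hc in
theorem w (m : ℕ) : ii n j m ≫ ff n i m = 0 :=
  Etcore.OpenClosed.counit_unit i j hc.disjoint (EtDual.tate X n m)

include hc in
theorem shortExact (m : ℕ) : (ShortComplex.mk (ii n j m) (ff n i m) (w n i j hc m)).ShortExact :=
  Etcore.OpenClosed.shortExact i j hc (EtDual.tate X n m)

theorem killedBy_tate (m : ℕ) : EtCoh.KilledBy n (EtDual.tate X n m) :=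
  Sga5.H848.TateTwist.killedBy_tate (X := X) (n := n) m

theorem killedBy_MM (m : ℕ) : EtCoh.KilledBy n (MM n i m) :=
  killedBy_push i (EtpbcB.NKillEt.killedBy_pull i (killedBy_tate n m))

include hc in
theorem killedBy_KK (m : ℕ) : EtCoh.KilledBy n (KK n j m) := by
  have h1 := (shortExact n i j hc m).mono_f
  exact killedBy_of_mono (ii n j m) (killedBy_tate n m)

include hc in
theorem isZero_pull_KK (m : ℕ) : IsZero ((EtCoh.pull i).obj (KK n j m)) :=
  S0653.isZero_pull_extZero j i hc.disjoint.symm _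

include hc in
theorem isZero_pull_MM (m : ℕ) : IsZero ((EtCoh.pull j).obj (MM n i m)) :=
  isZero_pull_push i j hc.disjoint _

end Sheaves

section Main

variable {n : ℕ} (hpbc : StmtPBC.{u}) (hac : StmtAcyc.{u} n) (hP1 : StmtP1.{u} n)
  (hacy : StmtAcycAll.{u} n) (hn0 : n ≠ 0)
  {X Y U X' U' V : Scheme.{u}} (i : Y ⟶ X) [IsClosedImmersion i] (j : U ⟶ X)
  [IsOpenImmersion j] (hij : Set.range j = (Set.range i)ᶜ) {b : X' ⟶ X} (j' : U' ⟶ X')
  [IsOpenImmersion j'] (hj' : Set.range j' = ((BlowUp.exceptional b i.ker).support : Set X')ᶜ)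
  {v : V ⟶ X} {t : Γ(V, ⊤)} (hV : IsTors i.ker v t) (hb : IsBlowUp b i.ker) {q : V ⟶ X'}
  (hq : q ≫ b = v) (hn : IsUnit (n : Γ(X, ⊤)))

include hV hb hq hn hpbc hac hP1 hacy hn0

theorem isIso_unit (F : EtCoh.Ab X') (hF : EtCoh.KilledBy n F) :
    IsIso ((EtCoh.pullPushAdj q).unit.app F) :=
  LocPA.isIso_unit hpbc hac hP1 hacy hn0 (isLocPA_q hV hb hq) (isUnit_comp b hn) F hF

theorem isZero_Rq (F : EtCoh.Ab X') (hF : EtCoh.KilledBy n F) (r : ℕ) (hr : 2 ≤ r) :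
    IsZero ((EtCoh.Rpush q r).obj ((EtCoh.pull q).obj F)) :=
  LocPA.isZero_Rpush hpbc hac hP1 hacy hn0 (isLocPA_q hV hb hq) (isUnit_comp b hn) F hF r
    (by omega) (by omega)

include hij hj'

theorem exists_theta (m : ℕ) :
    ∃ (τ : (EtCoh.pull b).obj (EtDual.tate X n m) ≅
        P1 (EtCoh.pull q) (EtCoh.push q) ((EtCoh.pull b).obj (EtDual.tate X n (m + 1))))
      (θ : (EtCoh.pull b).obj (MM n i m) ≅
        P1 (EtCoh.pull q) (EtCoh.push q) ((EtCoh.pull b).obj (MM n i (m + 1)))),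
      (EtCoh.pull b).map (ff n i m) ≫ θ.hom = τ.hom ≫
        ((EtCoh.push q).rightDerived 1).map ((EtCoh.pull q).map ((EtCoh.pull b).map
          (ff n i (m + 1)))) := by
  have hc := Geo2.isCompl i j hij
  have hc' := Geo2.isCompl' i j hij b j' hj'
  have hq' := isLocPA_q hV hb hq
  have hnX' : IsUnit (n : Γ(X', ⊤)) := isUnit_comp b hn
  obtain ⟨r, sq⟩ := Geo2.exists_r i j hij b j' hj'
  obtain ⟨-, ⟨e1⟩⟩ := Sga5.H848.TateTwist.nonempty_pull_tate b hn m
  obtain ⟨-, ⟨e2⟩⟩ := Sga5.H848.TateTwist.nonempty_pull_tate b hn (m + 1)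
  obtain ⟨e3⟩ := TorsKum.nonempty_iso_tate hpbc hac hP1 hn0 hnX' hV hb hq (flat_of_isLocPA hq') m
  let τ : (EtCoh.pull b).obj (EtDual.tate X n m) ≅
        P1 (EtCoh.pull q) (EtCoh.push q) ((EtCoh.pull b).obj (EtDual.tate X n (m + 1))) :=
    e1 ≪≫ e3.symm ≪≫ ((EtCoh.push q).rightDerived 1).mapIso ((EtCoh.pull q).mapIso e2.symm)
  have hS1 := (shortExact n i j hc m).map_of_exact (EtCoh.pull b)
  have hS2 := (shortExact n i j hc (m + 1)).map_of_exact (EtCoh.pull b)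
  have kb : ∀ {F : EtCoh.Ab X}, EtCoh.KilledBy n F → EtCoh.KilledBy n ((EtCoh.pull b).obj F) :=
    fun h => EtpbcB.NKillEt.killedBy_pull b h
  have hP := GysGlue.shortExact_P1 (EtCoh.pullPushAdj q) hS2
    (isIso_unit hpbc hac hP1 hacy hn0 i hV hb hq hn _ (kb (killedBy_tate n (m + 1))))
    (isIso_unit hpbc hac hP1 hacy hn0 i hV hb hq hn _ (kb (killedBy_MM n i (m + 1))))
    (isZero_Rq hpbc hac hP1 hacy hn0 i hV hb hq hn _ (kb (killedBy_KK n i j hc (m + 1))) 2 le_rfl)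
  have hKm : ∀ k, IsZero ((EtCoh.pull (pullback.fst b i)).obj ((EtCoh.pull b).obj (KK n j k))) :=
    fun k => isZero_pull_pull pullback.condition _ (isZero_pull_KK n i j hc k)
  have hMm : ∀ k, IsZero ((EtCoh.pull j').obj ((EtCoh.pull b).obj (MM n i k))) :=
    fun k => isZero_pull_pull sq.w.symm _ (isZero_pull_MM n i j hc k)
  have hcl : IsClosedImmersion (pullback.fst b i) := inferInstance
  obtain ⟨θ, hθ⟩ := GysGlue.exists_iso hS1 hP τ
    (fun φ => hom_eq_zero' (pullback.fst b i) j' hc' (hKm m)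
      (isZero_pull_Rpush q j' _ 1 (hMm (m + 1))) φ)
    (fun φ => hom_eq_zero' (pullback.fst b i) j' hc'
      (isZero_pull_P1 hpbc hac hP1 hn0 hq' hnX' (pullback.fst b i) _
        (kb (killedBy_KK n i j hc (m + 1))) (hKm (m + 1))) (hMm m) φ)
  exact ⟨τ, θ, hθ⟩

end Main

end K338.Theta
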