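import Groth.Agent.Divis.BlowChart2
import Groth.Agent.Flat2C.BlowExist
import Mathlib.AlgebraicGeometry.AffineSpace

/-!
# The torsor of generators of the inverse image ideal

For an ideal sheaf `J` on `X` there is a universal `v : V ⟶ X` with a function `t` on `V` which is a
nonzerodivisor and generates the inverse image of `J`.
-/

set_option autoImplicit false
universe u
open CategoryTheory AlgebraicGeometry Limits BlowUp

namespace K338.Tors

open Groth.Agent.Divis Groth.Agent.Divis.BlowChart Groth.Agent.Divis.BlowChart2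
  Groth.Agent.Divis.IdealComap

variable {X S : Scheme.{u}}

/-- The ideal sheaf generated by a global function. -/
noncomputable def prin (t : Γ(S, ⊤)) : S.IdealSheafData :=
  Scheme.IdealSheafData.ofIdealTop (Ideal.span {t})

theorem prin_ideal (t : Γ(S, ⊤)) (W : S.affineOpens) :
    (prin t).ideal W = Ideal.span {resT S W.1 t} := by
  rw [prin, Scheme.IdealSheafData.ofIdealTop_ideal, Ideal.map_span, Set.image_singleton]
  rfl

theorem map_resT' {V W : S.Opens} (h : W ≤ V) (s : Γ(S, ⊤)) :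
    S.presheaf.map (homOfLE h).op (resT S V s) = resT S W s := by
  unfold resT
  rw [← CategoryTheory.comp_apply, ← Functor.map_comp]
  rfl

theorem eq_prin_of_local (J : S.IdealSheafData) (t : Γ(S, ⊤))
    (h : ∀ x : S, ∃ W : S.affineOpens, x ∈ W.1 ∧ J.ideal W = Ideal.span {resT S W.1 t}) :
    J = prin t := by
  ext1
  funext U
  rw [prin_ideal]
  apply ideal_eq_span_of_local U
  intro x hx
  obtain ⟨W, hxW, hW⟩ := h x
  obtain ⟨W', hW', hxW', hle⟩ := exists_isAffineOpen_mem_and_subset (U := W.1 ⊓ U.1) (x := x)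
    ⟨hxW, hx⟩
  have h1 : W' ≤ W.1 := le_trans hle inf_le_left
  have h2 : W' ≤ U.1 := le_trans hle inf_le_right
  refine ⟨⟨W', hW'⟩, h2, hxW', ?_⟩
  have h3 := J.map_ideal (U := ⟨W', hW'⟩) (V := W) h1
  rw [← h3, hW, Ideal.map_span, Set.image_singleton]
  congr 2
  exact (map_resT' h1 t).trans (map_resT' h2 t).symm

theorem comap_prin {S' : Scheme.{u}} (h : S' ⟶ S) (t : Γ(S, ⊤)) :
    (prin t).comap h = prin (h.appTop.hom t) := by
  apply eq_prin_of_local
  intro x
  obtain ⟨U, hU, hxU, -⟩ := exists_isAffineOpen_mem_and_subset (U := (⊤ : S.Opens)) (x := h x) trivial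
  obtain ⟨V, hV, hxV, hle⟩ := exists_isAffineOpen_mem_and_subset (U := h ⁻¹ᵁ U) (x := x) hxU
  refine ⟨⟨V, hV⟩, hxV, ?_⟩
  rw [ideal_comap (prin t) h ⟨U, hU⟩ ⟨V, hV⟩ hle, prin_ideal, Ideal.map_span, Set.image_singleton,
    resT_appTop h U V hle]

theorem isEff_prin_iff (t : Γ(S, ⊤)) : IsEffCartierIdeal (prin t) ↔ RegSec S t := by
  constructor
  · intro h
    apply regSec_of_affine
    intro y
    obtain ⟨U, hU, hyU, -⟩ := exists_isAffineOpen_mem_and_subset (U := (⊤ : S.Opens)) (x := y) trivial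
    exact ⟨⟨U, hU⟩, hyU, mem_nonZeroDivisors_of_ideal_eq_span h ⟨U, hU⟩ _ (prin_ideal t _)⟩
  · intro h x
    obtain ⟨U, hU, hxU, -⟩ := exists_isAffineOpen_mem_and_subset (U := (⊤ : S.Opens)) (x := x) trivial
    exact ⟨⟨U, hU⟩, hxU, _, h.resT_mem U, prin_ideal t _⟩

/-- `t` is regular and generates the inverse image of `J` along `g`. -/
structure GenBy (J : X.IdealSheafData) (g : S ⟶ X) (t : Γ(S, ⊤)) : Prop where
  reg : RegSec S t
  gen : J.comap g = prin t

variable {J : X.IdealSheafData}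

theorem GenBy.isEff {g : S ⟶ X} {t : Γ(S, ⊤)} (h : GenBy J g t) : IsEffCartierIdeal (J.comap g) := by
  rw [h.gen, isEff_prin_iff]
  exact h.reg

theorem GenBy.of_isEff {g : S ⟶ X} {t : Γ(S, ⊤)} (h : IsEffCartierIdeal (J.comap g))
    (hg : J.comap g = prin t) : GenBy J g t :=
  ⟨(isEff_prin_iff t).1 (by rwa [← hg]), hg⟩

theorem GenBy.comap_gen {g : S ⟶ X} {t : Γ(S, ⊤)} (h : GenBy J g t) {S' : Scheme.{u}} (k : S' ⟶ S) :
    J.comap (k ≫ g) = prin (k.appTop.hom t) := by
  rw [Scheme.IdealSheafData.comap_comp, h.gen, comap_prin]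

theorem GenBy.comap_flat {g : S ⟶ X} {t : Γ(S, ⊤)} (h : GenBy J g t) {S' : Scheme.{u}} (k : S' ⟶ S)
    [Flat k] : GenBy J (k ≫ g) (k.appTop.hom t) := by
  refine .of_isEff ?_ (h.comap_gen k)
  rw [Scheme.IdealSheafData.comap_comp]
  exact EffCartier.isEff_comap_flat h.isEff k

section Locus

variable (J) {P : Scheme.{u}} (p : P ⟶ X) (t : Γ(P, ⊤))

/-- The open locus where `t` generates the inverse image ideal. -/
noncomputable def gLocus : P.Opens :=
  sSup {W : P.Opens | ∃ hW : IsAffineOpen W, (J.comap p).ideal ⟨W, hW⟩ = Ideal.span {resT P W t}}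

theorem mem_gLocus_iff (x : P) : x ∈ gLocus J p t ↔
    ∃ W : P.affineOpens, x ∈ W.1 ∧ (J.comap p).ideal W = Ideal.span {resT P W.1 t} := by
  unfold gLocus
  rw [TopologicalSpace.Opens.mem_sSup]
  constructor
  · rintro ⟨W, ⟨hW, h⟩, hx⟩
    exact ⟨⟨W, hW⟩, hx, h⟩
  · rintro ⟨⟨W, hW⟩, hx, h⟩
    exact ⟨W, ⟨hW, h⟩, hx⟩

theorem comap_gLocus : J.comap ((gLocus J p t).ι ≫ p) = prin ((gLocus J p t).ι.appTop.hom t) := by
  apply eq_prin_of_local
  intro y
  obtain ⟨W, hyW, hW⟩ := (mem_gLocus_iff J p t ((gLocus J p t).ι y)).1 y.2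
  have hWle : W.1 ≤ gLocus J p t := fun x hx => (mem_gLocus_iff J p t x).2 ⟨W, hx, hW⟩
  have hW' : IsAffineOpen ((gLocus J p t).ι ⁻¹ᵁ W.1) :=
    W.2.preimage_of_isOpenImmersion (gLocus J p t).ι (by simpa using hWle)
  refine ⟨⟨_, hW'⟩, hyW, ?_⟩
  rw [Scheme.IdealSheafData.comap_comp,
    ideal_comap (J.comap p) (gLocus J p t).ι W ⟨_, hW'⟩ le_rfl, hW, Ideal.map_span,
    Set.image_singleton, resT_appTop (gLocus J p t).ι W.1 ((gLocus J p t).ι ⁻¹ᵁ W.1) le_rfl]

/-- The universal morphism lands in the locus. -/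
theorem mem_gLocus_of_genBy (E : P.IdealSheafData) (hE : IsEffCartierIdeal E)
    (hEJ : E = J.comap p ⊔ prin t) (k : S ⟶ P) (hk : GenBy J (k ≫ p) (k.appTop.hom t)) (y : S) :
    k y ∈ gLocus J p t := by
  obtain ⟨U, hxU, f, hf, hfU⟩ := hE (k y)
  obtain ⟨W, hW, hyW, e⟩ := exists_isAffineOpen_mem_and_subset (U := k ⁻¹ᵁ U.1) (x := y) hxU
  let φ : Γ(P, U.1) →+* Γ(S, W) := (k.appLE U.1 W e).hom
  have h1 : E.comap k = prin (k.appTop.hom t) := by
    rw [hEJ, Scheme.IdealSheafData.comap_sup, ← Scheme.IdealSheafData.comap_comp, hk.gen,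
      comap_prin, sup_idem]
  have h2 : Ideal.span {φ f} = Ideal.span {resT S W (k.appTop.hom t)} := by
    have h3 := ideal_comap E k U ⟨W, hW⟩ e
    rw [h1, prin_ideal, hfU, Ideal.map_span, Set.image_singleton] at h3
    exact h3.symm
  have hs : resT S W (k.appTop.hom t) ∈ nonZeroDivisors Γ(S, W) := hk.reg.resT_mem W
  have hφf : φ f ∈ nonZeroDivisors Γ(S, W) := by
    have h4 : resT S W (k.appTop.hom t) ∈ Ideal.span {φ f} := by
      rw [h2]
      exact Ideal.mem_span_singleton_self _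
    obtain ⟨c, hc⟩ := Ideal.mem_span_singleton.1 h4
    rw [hc] at hs
    exact (mul_mem_nonZeroDivisors.1 hs).1
  -- the ideal of `J` is contained in the one of `f`
  have hJE : (J.comap p).ideal U ≤ Ideal.span {f} := by
    rw [← hfU, hEJ, Scheme.IdealSheafData.ideal_sup]
    exact le_sup_left
  have htE : resT P U.1 t ∈ Ideal.span {f} := by
    rw [← hfU, hEJ, Scheme.IdealSheafData.ideal_sup]
    apply Ideal.mem_sup_right
    rw [prin_ideal]
    exact Ideal.mem_span_singleton_self _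
  obtain ⟨h, hh⟩ := Ideal.mem_span_singleton.1 htE
  have hJW : (J.comap (k ≫ p)).ideal ⟨W, hW⟩ = ((J.comap p).ideal U).map φ := by
    rw [Scheme.IdealSheafData.comap_comp, ideal_comap (J.comap p) k U ⟨W, hW⟩ e]
  let Py : Ideal Γ(S, W) :=
    (IsLocalRing.maximalIdeal (S.presheaf.stalk y)).comap (S.presheaf.germ W y hyW).hom
  have hPy : ∀ z : Γ(S, W), z ∉ Py ↔ y ∈ S.basicOpen z := by
    intro z
    rw [Scheme.mem_basicOpen _ _ _ hyW, Ideal.mem_comap, IsLocalRing.mem_maximalIdeal,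
      mem_nonunits_iff, not_not]
  -- first claim
  have c1 : ∃ b : Γ(P, U.1), f * b ∈ (J.comap p).ideal U ∧ φ b ∉ Py := by
    by_contra hcon
    push Not at hcon
    have h5 : ((J.comap p).ideal U).map φ ≤ Ideal.span {φ f} * Py := by
      rw [Ideal.map_le_iff_le_comap]
      intro a ha
      obtain ⟨b, hb⟩ := Ideal.mem_span_singleton.1 (hJE ha)
      rw [hb] at ha ⊢
      rw [Ideal.mem_comap, Ideal.mem_span_singleton_mul]
      exact ⟨φ b, hcon b ha, (map_mul _ _ _).symm⟩
    rw [← hJW, hk.gen, prin_ideal, ← h2] at h5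
    obtain ⟨z, hz, hz'⟩ := Ideal.mem_span_singleton_mul.1 (h5 (Ideal.mem_span_singleton_self _))
    have h6 : z = 1 := by
      have : φ f * z = φ f * 1 := by rw [hz', mul_one]
      exact (mul_cancel_left_mem_nonZeroDivisors hφf).1 this
    rw [h6] at hz
    refine ((hPy 1).2 ?_) hz
    rw [Scheme.basicOpen_one]
    exact hyW
  obtain ⟨b, hb, hbP⟩ := c1
  -- second claim
  have hφh : IsUnit (φ h) := by
    have h7 : φ f ∈ Ideal.span {resT S W (k.appTop.hom t)} := by
      rw [← h2]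
      exact Ideal.mem_span_singleton_self _
    obtain ⟨c, hc⟩ := Ideal.mem_span_singleton.1 h7
    have h8 : resT S W (k.appTop.hom t) = φ f * φ h := by
      rw [← map_mul, ← hh]
      exact resT_appTop k U.1 W e t
    rw [h8, mul_assoc] at hc
    have h9 : φ f * 1 = φ f * (φ h * c) := by rw [mul_one]; exact hc
    exact IsUnit.of_mul_eq_one _ ((mul_cancel_left_mem_nonZeroDivisors hφf).1 h9).symm
  have hy1 : y ∈ S.basicOpen (φ (b * h)) := by
    rw [← hPy, map_mul]
    intro h10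
    obtain ⟨c, hc⟩ := hφh.exists_right_inv
    apply hbP
    have := Py.mul_mem_right c h10
    rwa [mul_assoc, hc, mul_one] at this
  have hx1 : k y ∈ P.basicOpen (b * h) := by
    have h11 := hy1
    rw [Scheme.basicOpen_appLE] at h11
    exact h11.2
  rw [mem_gLocus_iff]
  refine ⟨⟨P.basicOpen (b * h), U.2.basicOpen _⟩, hx1, ?_⟩
  have hle : P.basicOpen (b * h) ≤ U.1 := P.basicOpen_le _
  let r : Γ(P, U.1) →+* Γ(P, P.basicOpen (b * h)) := (P.presheaf.map (homOfLE hle).op).hom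
  have hu : IsUnit (r (b * h)) := RingedSpace.isUnit_res_basicOpen _ (b * h)
  rw [map_mul] at hu
  have hub : IsUnit (r b) := isUnit_of_mul_isUnit_left hu
  have huh : IsUnit (r h) := isUnit_of_mul_isUnit_right hu
  have h12 : (J.comap p).ideal ⟨P.basicOpen (b * h), U.2.basicOpen _⟩ =
      ((J.comap p).ideal U).map r :=
    ((J.comap p).map_ideal (U := ⟨P.basicOpen (b * h), U.2.basicOpen _⟩) (V := U) hle).symm
  have h13 : resT P (P.basicOpen (b * h)) t = r f * r h := by
    rw [← map_mul, ← hh]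
    exact (map_resT' hle t).symm
  rw [h12, h13, Ideal.span_singleton_mul_right_unit huh]
  apply le_antisymm
  · refine (Ideal.map_mono hJE).trans ?_
    rw [Ideal.map_span, Set.image_singleton]
  · rw [Ideal.span_singleton_le_iff_mem]
    have h14 := Ideal.mem_map_of_mem r hb
    rw [map_mul] at h14
    obtain ⟨c, hc⟩ := hub.exists_right_inv
    have := Ideal.mul_mem_right c _ h14
    rwa [mul_assoc, hc, mul_one] at this

end Locus

/-- **The torsor of generators.** -/
theorem exists_torsor (J : X.IdealSheafData) : ∃ (V : Scheme.{u}) (v : V ⟶ X) (t : Γ(V, ⊤)),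
    GenBy J v t ∧ ∀ (S : Scheme.{u}) (g : S ⟶ X) (s : Γ(S, ⊤)), GenBy J g s →
      ∃! h : S ⟶ V, h ≫ v = g ∧ h.appTop.hom t = s := by
  let A := 𝔸(ULift.{u} (Fin 1); X)
  let π : A ⟶ X := 𝔸(ULift.{u} (Fin 1); X) ↘ X
  let T : Γ(A, ⊤) := AffineSpace.coord X ⟨0⟩
  let E := J.comap π ⊔ prin T
  let P := Groth.Agent.Flat2C.BlowExist.blowUp E
  let β : P ⟶ A := Groth.Agent.Flat2C.BlowExist.b E
  have hβ : IsBlowUp β E := Groth.Agent.Flat2C.BlowExist.isBlowUp_b E
  let p : P ⟶ X := β ≫ π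
  let t : Γ(P, ⊤) := β.appTop.hom T
  have hEJ : E.comap β = J.comap p ⊔ prin t := by
    rw [Scheme.IdealSheafData.comap_sup, comap_prin, ← Scheme.IdealSheafData.comap_comp]
  let O := gLocus J p t
  have hgen := comap_gLocus J p t
  have hGen : GenBy J (O.ι ≫ p) (O.ι.appTop.hom t) := by
    refine .of_isEff ?_ hgen
    have h1 : (E.comap β).comap O.ι = J.comap (O.ι ≫ p) := by
      rw [hEJ, Scheme.IdealSheafData.comap_sup, ← Scheme.IdealSheafData.comap_comp, hgen,
        comap_prin, sup_idem]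
    rw [← h1]
    exact EffCartier.isEff_comap_flat hβ.1 _
  refine ⟨O, O.ι ≫ p, O.ι.appTop.hom t, hGen, ?_⟩
  intro S g s hg
  let a : S ⟶ A := AffineSpace.homOfVector g (fun _ => s)
  have ha1 : a ≫ π = g := AffineSpace.homOfVector_over _ _
  have ha2 : a.appTop.hom T = s := AffineSpace.homOfVector_appTop_coord _ _ _
  have hEa : IsEffCartierIdeal (E.comap a) := by
    rw [Scheme.IdealSheafData.comap_sup, comap_prin, ← Scheme.IdealSheafData.comap_comp, ha1, ha2,
      hg.gen, sup_idem, isEff_prin_iff]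
    exact hg.reg
  obtain ⟨k, hk, huniq⟩ := hβ.2 S a hEa
  have hk' : k ≫ β = a := hk
  have hkp : k ≫ p = g := by
    change k ≫ β ≫ π = g
    rw [← Category.assoc, hk', ha1]
  have hkt : k.appTop.hom t = s := by
    have h1 : (k ≫ β).appTop.hom T = k.appTop.hom (β.appTop.hom T) := by
      rw [Scheme.Hom.comp_appTop, CommRingCat.comp_apply]
    rw [hk', ha2] at h1
    exact h1.symm
  have hrange : Set.range k ⊆ Set.range O.ι := by
    rintro _ ⟨y, rfl⟩
    rw [Scheme.Opens.range_ι]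
    refine mem_gLocus_of_genBy J p t (E.comap β) hβ.1 hEJ k ?_ y
    rw [hkp, hkt]
    exact hg
  let h := IsOpenImmersion.lift O.ι k hrange
  have hh : h ≫ O.ι = k := IsOpenImmersion.lift_fac _ _ _
  refine ⟨h, ⟨?_, ?_⟩, ?_⟩
  · change h ≫ O.ι ≫ p = g
    rw [← Category.assoc, hh, hkp]
  · have h1 : (h ≫ O.ι).appTop.hom t = h.appTop.hom (O.ι.appTop.hom t) := by
      rw [Scheme.Hom.comp_appTop, CommRingCat.comp_apply]
    rw [hh, hkt] at h1
    exact h1.symm
  · rintro h' ⟨h1, h2⟩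
    rw [← cancel_mono O.ι, hh]
    apply huniq
    change (h' ≫ O.ι) ≫ β = a
    apply AffineSpace.hom_ext
    · rw [ha1, Category.assoc, Category.assoc, ← h1]
    · rintro ⟨i⟩
      have hi : i = 0 := Subsingleton.elim _ _
      subst hi
      change _ = a.appTop.hom T
      rw [ha2, ← h2, Category.assoc, Scheme.Hom.comp_appTop, CommRingCat.comp_apply,
        Scheme.Hom.comp_appTop, CommRingCat.comp_apply]

end K338.Tors
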