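import Groth.Agent.EtDual.K338.Tors
import Groth.Agent.EtDual.K338.PA

/-!
# The torsor of generators over the blow-up
-/

set_option autoImplicit false
universe u
open CategoryTheory AlgebraicGeometry Limits BlowUp

namespace K338.TorsChart

open Groth.Agent.Divis Groth.Agent.Divis.BlowChart Groth.Agent.Divis.BlowChart2
  Groth.Agent.Divis.IdealComap K338.Tors K338.PA

variable {X : Scheme.{u}}

/-- The universal property of the torsor of generators. -/
structure IsTors (J : X.IdealSheafData) {V : Scheme.{u}} (v : V ⟶ X) (t : Γ(V, ⊤)) : Prop where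
  gen : GenBy J v t
  lift : ∀ (S : Scheme.{u}) (g : S ⟶ X) (s : Γ(S, ⊤)), GenBy J g s →
      ∃! h : S ⟶ V, h ≫ v = g ∧ h.appTop.hom t = s

theorem exists_isTors (J : X.IdealSheafData) : ∃ (V : Scheme.{u}) (v : V ⟶ X) (t : Γ(V, ⊤)),
    IsTors J v t := by
  obtain ⟨V, v, t, h1, h2⟩ := exists_torsor J
  exact ⟨V, v, t, h1, h2⟩

theorem appTop_comp {S T R : Scheme.{u}} (f : S ⟶ T) (g : T ⟶ R) (x : Γ(R, ⊤)) :
    (f ≫ g).appTop.hom x = f.appTop.hom (g.appTop.hom x) := by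
  rw [Scheme.Hom.comp_appTop, CommRingCat.comp_apply]

theorem prin_mul_unit {S : Scheme.{u}} (a b : Γ(S, ⊤)) (hb : IsUnit b) : prin (a * b) = prin a := by
  ext1
  funext W
  rw [prin_ideal, prin_ideal, map_mul, Ideal.span_singleton_mul_right_unit (hb.map _)]

theorem prin_of_isUnit {S : Scheme.{u}} (b : Γ(S, ⊤)) (hb : IsUnit b) : prin b = ⊤ := by
  ext1
  funext W
  rw [prin_ideal, Ideal.span_singleton_eq_top.2 (hb.map _)]
  rfl

theorem GenBy.mul_unit {J : X.IdealSheafData} {S : Scheme.{u}} {g : S ⟶ X} {a : Γ(S, ⊤)}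
    (h : GenBy J g a) (b : Γ(S, ⊤)) (hb : IsUnit b) : GenBy J g (a * b) := by
  refine .of_isEff h.isEff ?_
  rw [h.gen, prin_mul_unit _ _ hb]

/-- Two regular functions generating the same ideal differ by a unit. -/
theorem exists_mul_of_prin_le {S : Scheme.{u}} {a b : Γ(S, ⊤)} (ha : RegSec S a)
    (h : prin b ≤ prin a) : ∃ c : Γ(S, ⊤), b = a * c := by
  refine exists_mul_of_local ha b fun y => ?_
  obtain ⟨U, hU, hyU, -⟩ := exists_isAffineOpen_mem_and_subset (U := (⊤ : S.Opens)) (x := y) trivial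
  have h1 := h ⟨U, hU⟩
  rw [prin_ideal, prin_ideal, Ideal.span_singleton_le_iff_mem] at h1
  obtain ⟨r, hr⟩ := Ideal.mem_span_singleton.1 h1
  exact ⟨U, hyU, r, hr⟩

theorem exists_unit_of_prin_eq {S : Scheme.{u}} {a b : Γ(S, ⊤)} (ha : RegSec S a)
    (h : prin b = prin a) : ∃ c : Γ(S, ⊤), IsUnit c ∧ b = a * c := by
  have hb : RegSec S b := by
    rw [← isEff_prin_iff, h, isEff_prin_iff]
    exact ha
  obtain ⟨c, hc⟩ := exists_mul_of_prin_le ha h.le
  obtain ⟨d, hd⟩ := exists_mul_of_prin_le hb h.ge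
  refine ⟨c, ?_, hc⟩
  rw [hc, mul_assoc] at hd
  have h1 : a * 1 = a * (c * d) := by rw [mul_one]; exact hd
  exact IsUnit.of_mul_eq_one _ ((mul_cancel_left_mem_nonZeroDivisors ha.mem_top).1 h1).symm

section BlowUp

variable {J : X.IdealSheafData} {V X' : Scheme.{u}} {v : V ⟶ X} {t : Γ(V, ⊤)} (hV : IsTors J v t)
  {b : X' ⟶ X} (hb : IsBlowUp b J)

include hV hb in
theorem exists_q : ∃ q : V ⟶ X', q ≫ b = v := (hb.2 V v hV.gen.isEff).exists

variable {q : V ⟶ X'} (hq : q ≫ b = v)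

include hb in
theorem blow_ext {S : Scheme.{u}} {k₁ k₂ : S ⟶ X'} (h : k₁ ≫ b = k₂ ≫ b)
    (hE : IsEffCartierIdeal (J.comap (k₁ ≫ b))) : k₁ = k₂ :=
  (hb.2 S (k₁ ≫ b) hE).unique rfl h.symm

include hV hb hq in
/-- The section over the complement of the exceptional divisor. -/
theorem exists_section {U' : Scheme.{u}} (j' : U' ⟶ X') [IsOpenImmersion j']
    (hj' : Set.range j' ⊆ ((exceptional b J).support : Set X')ᶜ) : ∃ s : U' ⟶ V, s ≫ q = j' := by
  have h1 : J.comap (j' ≫ b) = ⊤ := by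
    rw [Scheme.IdealSheafData.comap_comp, ← Scheme.IdealSheafData.support_eq_bot_iff,
      Scheme.IdealSheafData.support_comap]
    ext x
    constructor
    · intro hx
      exact (hj' ⟨x, rfl⟩ hx).elim
    · intro hx
      exact hx.elim
  have h2 : GenBy J (j' ≫ b) (1 : Γ(U', ⊤)) := by
    refine .of_isEff ?_ ?_
    · rw [h1]
      exact EffCartier.isEff_top
    · rw [h1, prin_of_isUnit _ isUnit_one]
  obtain ⟨s, ⟨hs, -⟩, -⟩ := hV.lift U' (j' ≫ b) 1 h2
  refine ⟨s, blow_ext hb ?_ ?_⟩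
  · rw [Category.assoc, hq, hs]
  · rw [Category.assoc, hq, hs]
    exact h2.isEff

include hV hb hq in
/-- The local triviality. -/
theorem exists_chart {W : Scheme.{u}} (w : W ⟶ X') [Flat w] (f : Γ(W, ⊤))
    (hf : GenBy J (w ≫ b) f) :
    ∃ k : (pOpen 0 W : Scheme.{u}) ⟶ V, IsPullback k (pa 0 W) q w ∧
      k.appTop.hom t = (pa 0 W).appTop.hom f * crd 0 W ⟨0⟩ := by
  have hx := isUnit_crd W
  have hG : GenBy J (pa 0 W ≫ w ≫ b) ((pa 0 W).appTop.hom f * crd 0 W ⟨0⟩) :=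
    GenBy.mul_unit (hf.comap_flat (pa 0 W)) _ hx
  obtain ⟨k, ⟨hk1, hk2⟩, -⟩ := hV.lift _ _ _ hG
  have hkq : k ≫ q = pa 0 W ≫ w := by
    apply blow_ext hb
    · rw [Category.assoc, hq, hk1]
      exact (Category.assoc _ _ _).symm
    · rw [Category.assoc, hq, hk1]
      exact hG.isEff
  refine ⟨k, ?_, hk2⟩
  let p₁ : pullback q w ⟶ V := pullback.fst q w
  let p₂ : pullback q w ⟶ W := pullback.snd q w
  have hc : p₁ ≫ q = p₂ ≫ w := pullback.condition
  have hp₁ : Flat p₁ := inferInstance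
  have h1 : GenBy J (p₁ ≫ v) (p₁.appTop.hom t) := hV.gen.comap_flat p₁
  have h2 : J.comap (p₁ ≫ v) = prin (p₂.appTop.hom f) := by
    have : p₁ ≫ v = p₂ ≫ w ≫ b := by rw [← hq, ← Category.assoc, hc, Category.assoc]
    rw [this, hf.comap_gen p₂]
  have h3 : RegSec _ (p₂.appTop.hom f) := by
    rw [← isEff_prin_iff, ← h2]
    exact h1.isEff
  obtain ⟨τ, hτu, hτ⟩ := exists_unit_of_prin_eq h3 (h1.gen.symm.trans h2)
  obtain ⟨ρ, hρ1, hρ2⟩ := PA.exists_hom 0 p₂ (fun _ => τ) (fun s => ⟨⟨0⟩, by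
    rw [Scheme.basicOpen_of_isUnit _ hτu]
    trivial⟩)
  let κ : (pOpen 0 W : Scheme.{u}) ⟶ pullback q w := pullback.lift k (pa 0 W) hkq
  have e1 : κ ≫ p₁ = k := pullback.lift_fst _ _ _
  have e2 : κ ≫ p₂ = pa 0 W := pullback.lift_snd _ _ _
  have hsub : Subsingleton (Fin (0 + 1)) := inferInstanceAs (Subsingleton (Fin 1))
  have h4 : κ ≫ ρ = 𝟙 _ := by
    apply PA.hom_ext
    · rw [Category.assoc, hρ1, e2, Category.id_comp]
    · rintro ⟨a⟩
      obtain rfl : a = 0 := Subsingleton.elim _ _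
      rw [appTop_comp, hρ2]
      have h5 : κ.appTop.hom (p₁.appTop.hom t) = k.appTop.hom t := by rw [← appTop_comp, e1]
      have h6 : κ.appTop.hom (p₂.appTop.hom f) = (pa 0 W).appTop.hom f := by
        rw [← appTop_comp, e2]
      rw [hτ, map_mul, h6, hk2] at h5
      have h7 : RegSec _ ((pa 0 W).appTop.hom f) := (hf.comap_flat (pa 0 W)).reg
      have h8 := (mul_cancel_left_mem_nonZeroDivisors h7.mem_top).1 h5
      rw [h8]
      simp
  have h5 : ρ ≫ κ = 𝟙 _ := by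
    apply pullback.hom_ext
    · change (ρ ≫ κ) ≫ p₁ = 𝟙 _ ≫ p₁
      rw [Category.assoc, e1, Category.id_comp]
      refine (hV.lift _ _ _ h1).unique ⟨?_, ?_⟩ ⟨rfl, rfl⟩
      · rw [Category.assoc, hk1, ← Category.assoc, hρ1, ← hq, ← Category.assoc, ← hc, Category.assoc]
      · rw [appTop_comp, hk2, map_mul, hρ2, ← appTop_comp, hρ1, hτ]
    · change (ρ ≫ κ) ≫ p₂ = 𝟙 _ ≫ p₂
      rw [Category.assoc, e2, Category.id_comp, hρ1]
  exact IsPullback.of_iso_pullback ⟨hkq⟩ ⟨κ, ρ, h4, h5⟩ e1 e2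

include hb in
/-- Around each point there is a generator. -/
theorem exists_gen (x : X') : ∃ (W : Scheme.{u}) (w : W ⟶ X') (_ : IsOpenImmersion w) (f : Γ(W, ⊤)),
    x ∈ Set.range w ∧ GenBy J (w ≫ b) f := by
  obtain ⟨U, hxU, f, hf, hfU⟩ := hb.1 x
  have e : (⊤ : U.1.toScheme.Opens) ≤ U.1.ι ⁻¹ᵁ U.1 := fun z _ => z.2
  let f' : Γ(U.1.toScheme, ⊤) := (U.1.ι.appLE U.1 ⊤ e).hom f
  refine ⟨U.1.toScheme, U.1.ι, inferInstance, f', ?_, ?_⟩
  · rw [Scheme.Opens.range_ι]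
    exact hxU
  · refine .of_isEff ?_ ?_
    · rw [Scheme.IdealSheafData.comap_comp]
      exact EffCartier.isEff_comap_flat hb.1 _
    · apply eq_prin_of_local
      intro y
      have hA : IsAffineOpen (⊤ : U.1.toScheme.Opens) := by
        have : IsAffine U.1.toScheme := U.2
        exact isAffineOpen_top _
      refine ⟨⟨⊤, hA⟩, trivial, ?_⟩
      rw [Scheme.IdealSheafData.comap_comp, ideal_comap (J.comap b) U.1.ι U ⟨⊤, hA⟩ e, hfU,
        Ideal.map_span, Set.image_singleton]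
      congr 2
      change f' = resT _ ⊤ f'
      unfold resT
      have e' : (homOfLE (le_top : (⊤ : U.1.toScheme.Opens) ≤ ⊤)).op = 𝟙 _ := rfl
      rw [e', CategoryTheory.Functor.map_id]
      rfl

include hV hb hq in
theorem isLocPA_q : IsLocPA 0 q := by
  intro x
  obtain ⟨W, w, hw, f, hx, hf⟩ := exists_gen hb x
  obtain ⟨k, hk, -⟩ := exists_chart hV hb hq w f hf
  exact ⟨W, w, hw, k, hx, hk⟩

end BlowUp

end K338.TorsChart
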